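import Cfsg.Agent.H11.ElDefs
import Cfsg.Agent.S1220

/-! When the centraliser of a line has even order, the centraliser of a point has 2-rank one. -/

set_option autoImplicit false
open Subgroup

namespace Cfsg.Agent.H11.EL

universe u

namespace N41

theorem cyc {X : Type*} [Group X] [Finite X] [IsCyclic X] {a b : X} (ha : orderOf a = 2)
    (hb : orderOf b = 2) : a = b := by
  classical
  have := Fintype.ofFinite X
  have h := IsCyclic.card_orderOf_eq_totient (α := X) (d := 2) (ha ▸ orderOf_dvd_card)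
  rw [Nat.totient_two, Finset.card_eq_one] at h
  obtain ⟨c, hc⟩ := h
  have h1 : a ∈ ({c} : Finset X) := by rw [← hc]; simp [ha]
  have h2 : b ∈ ({c} : Finset X) := by rw [← hc]; simp [hb]
  rw [Finset.mem_singleton] at h1 h2
  exact h1.trans h2.symm

theorem quat {m : ℕ} [NeZero m] {x y : QuaternionGroup m} (hx : orderOf x = 2)
    (hy : orderOf y = 2) : x = y := by
  have key : ∀ x : QuaternionGroup m, orderOf x = 2 → ∃ i, x = .a i := fun x hx => by
    cases x with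
    | a i => exact ⟨i, rfl⟩
    | xa i => rw [QuaternionGroup.orderOf_xa] at hx; omega
  obtain ⟨i, rfl⟩ := key x hx
  obtain ⟨j, rfl⟩ := key y hy
  let f : Multiplicative (ZMod (2 * m)) →* QuaternionGroup m :=
    MonoidHom.mk' (fun i => .a i.toAdd) fun _ _ => rfl
  have hf : Function.Injective f := fun _ _ h => QuaternionGroup.a.inj h
  have : NeZero (2 * m) := ⟨mul_ne_zero two_ne_zero (NeZero.ne m)⟩
  exact congrArg f (cyc (a := Multiplicative.ofAdd i) (b := Multiplicative.ofAdd j)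
    ((orderOf_injective f hf _).symm.trans hx) ((orderOf_injective f hf _).symm.trans hy))

theorem rank_one {X : Type*} [Group X] [Finite X] (h : ∀ S : Sylow 2 X, IsCyclic S ∨
    ∃ m : ℕ, 1 ≤ m ∧ Nonempty ((S : Subgroup X) ≃* QuaternionGroup (2 ^ m))) {s t : X}
    (hs : orderOf s = 2) (ht : orderOf t = 2) (c : Commute s t) : s = t := by
  have p : ∀ x : X, orderOf x = 2 → IsPGroup 2 (zpowers x) := fun x hx =>
    IsPGroup.of_card (n := 1) (by rw [Nat.card_zpowers, hx]; rfl)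
  have n : zpowers t ≤ normalizer (zpowers s : Set X) := by
    refine le_trans (zpowers_le.2 ?_) (centralizer_le_normalizer _)
    rintro _ ⟨k, rfl⟩
    exact (c.zpow_left k).eq
  obtain ⟨S, hS⟩ := ((p s hs).to_sup_of_normal_left' (p t ht) n).exists_le_sylow
  have sS : s ∈ (S : Subgroup X) := hS (mem_sup_left (mem_zpowers s))
  have tS : t ∈ (S : Subgroup X) := hS (mem_sup_right (mem_zpowers t))
  have hs' : orderOf (⟨s, sS⟩ : (S : Subgroup X)) = 2 := (orderOf_coe _).symm.trans hs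
  have ht' : orderOf (⟨t, tS⟩ : (S : Subgroup X)) = 2 := (orderOf_coe _).symm.trans ht
  rcases h S with h | ⟨m, -, ⟨e⟩⟩
  · exact congrArg Subtype.val (cyc hs' ht')
  · exact congrArg Subtype.val (e.injective (quat ((e.orderOf_eq _).trans hs')
      ((e.orderOf_eq _).trans ht')))

variable {G : Type u} [Group G]

theorem cj_inj (g : G) {A B : Subgroup G} (h : cj g A = cj g B) : A = B :=
  map_injective (MulAut.conj g).injective h

theorem nm_cj {g u : G} {L : Subgroup G} (h : g⁻¹ * u * g ∈ Nm L) : u ∈ Nm (cj g L) := by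
  rw [← cj_eq_iff] at h ⊢
  rw [← cj_mul, show u * g = g * (g⁻¹ * u * g) by group, cj_mul, h]

end N41

open N41 in
theorem n41 (b : Base.{u}) : N41Stmt.{u} := by
  intro G _ _ D A B h he
  have lp := h.ne.lp A h.hA B h.hB h.AB
  obtain ⟨f, s, h1⟩ := b.lc1 A B lp
  have lt := b.lt A B f s lp (b.lc A B f s lp h1)
  have KA : Ct (A ⊔ B) ≤ Ct A := centralizer_le (SetLike.coe_subset_coe.2 le_sup_left)
  have KB : Ct (A ⊔ B) ≤ Ct B := centralizer_le (SetLike.coe_subset_coe.2 le_sup_right)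
  have cA : ∀ c ∈ Ct A, cj c A = A := fun c hc => cj_eq_iff.2 (centralizer_le_normalizer _ hc)
  have cL : ∀ c ∈ Ct A, cj c (A ⊔ B) = A ⊔ cj c B := fun c hc => by rw [cj_sup, cA c hc]
  have out : ∀ c ∈ Ct A, c ∉ Nm (A ⊔ B) → ¬ cj c B ≤ A ⊔ B := fun c hc hn hle => hn (by
    rw [← cj_eq_iff, cL c hc]
    exact h.ne.line A h.hA B h.hB A h.hA _ (h.ne.conj B h.hB c)
      (fun e => h.AB (cj_inj c ((cA c hc).trans e))) le_sup_left hle)
  obtain ⟨E, hE, EL⟩ := h.ne.out A h.hA B h.hB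
  obtain ⟨c, hc, cB⟩ := h.ne.ctr A h.hA B h.hB E hE h.AB.symm fun e => EL (e ▸ le_sup_left)
  have cN : c ∉ Nm (A ⊔ B) := fun hn => EL (by
    rw [← cB, ← cj_eq_iff.2 hn]; exact map_mono le_sup_right)
  have se : Cfsg.IsStronglyEmbedded ((Nm (A ⊔ B)).subgroupOf (Ct A)) := by
    refine ⟨fun e => cN ?_, ?_, fun g hg => ?_⟩
    · have : (⟨c, hc⟩ : Ct A) ∈ (Nm (A ⊔ B)).subgroupOf (Ct A) := e ▸ mem_top _
      exact this
    · obtain ⟨t, ht⟩ := exists_prime_orderOf_dvd_card' 2 he.two_dvd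
      have : (⟨t.1, KA t.2⟩ : Ct A) ∈ (Nm (A ⊔ B)).subgroupOf (Ct A) :=
        centralizer_le_normalizer _ t.2
      have hd := orderOf_dvd_natCard _ this
      rw [← orderOf_coe, show orderOf (t : G) = 2 by rw [orderOf_coe, ht]] at hd
      exact even_iff_two_dvd.2 hd
    · by_contra ho
      obtain ⟨v, hv⟩ := exists_prime_orderOf_dvd_card' 2 (Nat.not_odd_iff_even.1 ho).two_dvd
      have v2 : orderOf (v.1.1 : G) = 2 := by rw [orderOf_coe, orderOf_coe, hv]
      have vN : (v.1.1 : G) ∈ Nm (A ⊔ cj g B) := by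
        rw [← cL g g.2]
        exact nm_cj (mem_subgroupOf.1 (mem_cj.1 v.2.2))
      obtain ⟨k, hk, a, ha, e⟩ := lt.CM v.1.1 v.1.2 v.2.1
      have a11 : a ^ 11 = 1 := by rw [← lp.cA]; exact congrArg Subtype.val (pow_card_eq_one' (x := (⟨a, ha⟩ : A)))
      have vK : (v.1.1 : G) ∈ Ct (A ⊔ B) := by
        have e1 : (v.1.1 : G) ^ 11 = v.1.1 := by
          rw [← pow_mod_orderOf, v2]; exact pow_one _
        rw [← e1, e, Commute.mul_pow (KA hk a ha).symm, a11, mul_one]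
        exact pow_mem hk _
      have := (h.ne.mix A h.hA B h.hB _ (h.ne.conj B h.hB g) h.AB.symm (out g g.2 hg) _ vK
        (fun e1 => by rw [e1, orderOf_one] at v2; omega) vN).1
      omega
  rcases S1220.result _ se with h2 | ⟨h2, -⟩
  · exfalso
    have fL : f ∈ Nm (A ⊔ B) := le_normalizer h1.fL
    have c2 : f * c * f⁻¹ ∈ Ct A := fun a ha => by
      have := hc _ ((mem_normalizer_iff''.1 h1.fA a).1 ha)
      calc a * (f * c * f⁻¹) = f * (f⁻¹ * a * f * c) * f⁻¹ := by group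
        _ = f * c * f⁻¹ * a := by rw [this]; group
    obtain ⟨g, hg, hm⟩ := h2 ⟨c, hc⟩ ⟨_, c2⟩ cN fun hn => cN (by
      have := mul_mem (mul_mem (inv_mem fL) (mem_subgroupOf.1 hn)) fL
      rwa [show f⁻¹ * (f * c * f⁻¹) * f = c by group] at this)
    obtain ⟨k, hk, a, ha, e⟩ := lt.CM g.1 g.2 hg
    have m1 : (f * c * f⁻¹)⁻¹ * (k * a * c) ∈ Nm (A ⊔ B) := e ▸ mem_subgroupOf.1 hm
    have m2 : f⁻¹ * k * a ∈ Nm (A ⊔ cj c B) := by
      rw [← cL c hc]
      refine nm_cj ?_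
      have := mul_mem (inv_mem fL) m1
      rwa [show f⁻¹ * ((f * c * f⁻¹)⁻¹ * (k * a * c)) = c⁻¹ * (f⁻¹ * k * a) * c by group] at this
    have m3 : k⁻¹ * f ∈ Nm (A ⊔ cj c B) := by
      have := inv_mem (mul_mem m2 (inv_mem (le_normalizer (mem_sup_left ha))))
      rwa [show (f⁻¹ * k * a * a⁻¹)⁻¹ = k⁻¹ * f by group] at this
    obtain ⟨i, hi, hb⟩ := h1.big
    refine h.ne.five A h.hA B h.hB _ (h.ne.conj B h.hB c) h.AB.symm (out c hc cN) _
      (mul_mem (inv_mem (centralizer_le_normalizer _ (KA hk))) h1.fA)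
      (mul_mem (inv_mem (centralizer_le_normalizer _ (KB hk))) h1.fB) ⟨i, fun x hx => ?_, hb⟩ m3
    rw [show k⁻¹ * f * x * (k⁻¹ * f)⁻¹ = k⁻¹ * (f * x * f⁻¹ * k) by group, hi x hx,
      KA hk _ (zpow_mem hx i), inv_mul_cancel_left]
  · intro s hs t ht s2 t2 st
    exact congrArg Subtype.val (rank_one h2 (s := ⟨s, hs⟩) (t := ⟨t, ht⟩)
      (by rw [← s2, ← orderOf_coe]) (by rw [← t2, ← orderOf_coe]) (Subtype.ext st))

end Cfsg.Agent.H11.EL
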