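import Mathlib
import Cfsg.Agent.H29.G2Sub

/-! Normal form of semisimple automorphisms of the split octonions, and element orders in `G₂(q)`. -/

set_option autoImplicit false
set_option linter.unusedSectionVars false

namespace Cfsg.Agent.H29

open Cfsg.Lie Matrix H24 QuadraticMap Module

section Lin

variable {K V : Type*} [Field K] [AddCommGroup V] [Module K V] [FiniteDimensional K V]

theorem exists_eigenbasis [IsAlgClosed K] {f : End K V} {n : ℕ} (hn : (n : K) ≠ 0) (h : f ^ n = 1)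
    {m : ℕ} (hm : finrank K V = m) :
    ∃ (b : Basis (Fin m) K V) (d : Fin m → K), ∀ i, f (b i) = d i • b i := by
  have h1 : Submodule.span K {v | ∃ μ : K, f v = μ • v} = ⊤ := by
    rw [eq_top_iff, ← (End.isSemisimple_of_squarefree_aeval_eq_zero
      (Polynomial.X_pow_sub_one_separable_iff.2 hn).squarefree
      (show Polynomial.aeval f _ = 0 by simp [h])).iSup_eigenspace_eq_top]
    exact iSup_le fun μ v hv => Submodule.subset_span ⟨μ, End.mem_eigenspace_iff.1 hv⟩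
  obtain ⟨g, hg, h2, h3⟩ := Submodule.exists_fun_fin_finrank_span_eq K {v | ∃ μ : K, f v = μ • v}
  choose d hd using hg
  have h4 : finrank K (Submodule.span K {v | ∃ μ : K, f v = μ • v}) = m := by
    rw [h1, finrank_top, hm]
  exact ⟨(Basis.mk h3 (h2.trans h1).ge).reindex (finCongr h4), d ∘ (finCongr h4).symm,
    fun i => by simp [hd]⟩

theorem pow_apply_eq_zero_of_finrank {f : End K V} (hf : IsNilpotent f) {W : Submodule K V}
    (hW : ∀ x ∈ W, f x ∈ W) {m : ℕ} (hm : finrank K W ≤ m) {x : V} (hx : x ∈ W) :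
    (f ^ m) x = 0 := by
  have h1 := (f.restrict hW).aeval_self_charpoly
  rw [(End.isNilpotent.restrict hW hf).charpoly_eq_X_pow_finrank, map_pow, Polynomial.aeval_X] at h1
  have h2 := LinearMap.congr_fun (pow_eq_zero_of_le hm h1) ⟨x, hx⟩
  rw [End.pow_restrict] at h2
  exact congrArg Subtype.val h2

end Lin

section Num

variable {A : Type*} [CommGroup A]

theorem three_cases (φ : A →* A) (hφ : Function.Injective φ) {a b c : A}
    (h : a * b * c = 1) (ha : φ a = a ∨ φ a = b ∨ φ a = c) (hb : φ b = a ∨ φ b = b ∨ φ b = c)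
    (hc : φ c = a ∨ φ c = b ∨ φ c = c) :
    (φ (φ a) = a ∧ φ (φ b) = b ∧ φ (φ c) = c) ∨
      (a * φ a * φ (φ a) = 1 ∧ b * φ b * φ (φ b) = 1 ∧ c * φ c * φ (φ c) = 1) := by
  have h1 : a * c * b = 1 := by rw [← h]; ac_rfl
  have h2 : b * c * a = 1 := by rw [← h]; ac_rfl
  have h3 : b * a * c = 1 := by rw [← h]; ac_rfl
  have h4 : c * a * b = 1 := by rw [← h]; ac_rfl
  have h5 : c * b * a = 1 := by rw [← h]; ac_rfl
  have i1 := @hφ a b
  have i2 := @hφ a c
  have i3 := @hφ b c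
  rcases ha with ha | ha | ha <;> rcases hb with hb | hb | hb <;> rcases hc with hc | hc | hc <;>
    grind

theorem two_cases (φ : A →* A) (hφ : Function.Injective φ) {a c : A}
    (h : a * a * c = 1) (ha : φ a = a ∨ φ a = c) (hc : φ c = a ∨ φ c = c) :
    φ a = a ∧ φ c = c := by
  have h1 : φ a * φ a * φ c = 1 := by rw [← map_mul, ← map_mul, h, map_one]
  have i2 := @hφ a c
  rcases ha with ha | ha <;> rcases hc with hc | hc
  · grind
  · grind
  · rw [ha, hc] at h1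
    have : a = c := by
      apply mul_left_cancel (a := a * c)
      rw [show a * c * a = a * a * c by ac_rfl, h, ← h1]; ac_rfl
    grind
  · grind

theorem fixed_of_repeated (φ : A →* A) (hφ : Function.Injective φ) {a b c : A}
    (h : a * b * c = 1) (ha : φ a = a ∨ φ a = b ∨ φ a = c) (hb : φ b = a ∨ φ b = b ∨ φ b = c)
    (hc : φ c = a ∨ φ c = b ∨ φ c = c) (hr : a = b ∨ a = c ∨ b = c) :
    φ a = a ∧ φ b = b ∧ φ c = c := by
  rcases hr with rfl | rfl | rfl
  · have := two_cases φ hφ h (by tauto) (by tauto)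
    tauto
  · have := two_cases φ hφ (a := a) (c := b) (by rw [← h]; ac_rfl) (by tauto) (by tauto)
    tauto
  · have := two_cases φ hφ (a := b) (c := a) (by rw [← h]; ac_rfl) (by tauto) (by tauto)
    tauto

theorem pow_pred_eq_one {x : A} {q : ℕ} (hq : 0 < q) (h : x ^ q = x) : x ^ (q - 1) = 1 := by
  apply mul_right_cancel (b := x)
  rw [← pow_succ, Nat.sub_add_cancel hq, h, one_mul]

end Num

variable {K : Type*} [Field K]

variable (K) in
/-- An automorphism of the octonions as a linear endomorphism. -/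
def autEnd : autZ K →* End K (Fin 8 → K) where
  toFun g := g.1.toLinearMap
  map_one' := rfl
  map_mul' _ _ := rfl

theorem autEnd_apply (g : autZ K) (x : Fin 8 → K) : autEnd K g x = g.1 x := rfl

section Unip

variable (p : ℕ) [Fact p.Prime] [CharP K p] {u : autZ K}

theorem sub_one_pow_char (u : autZ K) (i : ℕ) :
    (autEnd K u - 1) ^ p ^ i = autEnd K (u ^ p ^ i) - 1 := by
  have : CharP (End K (Fin 8 → K)) p := charP_of_injective_algebraMap
    (algebraMap K (End K (Fin 8 → K))).injective p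
  rw [sub_pow_char_pow_of_commute _ _ (Commute.one_right _), one_pow, map_pow]

theorem isNilpotent_sub_one {j : ℕ} (hu : u ^ p ^ j = 1) : IsNilpotent (autEnd K u - 1) :=
  ⟨_, by rw [sub_one_pow_char p u j, hu, map_one, sub_self]⟩

theorem fix_of_pow {m i : ℕ} (hm : m ≤ p ^ i) {x : Fin 8 → K} 
    (hx : ((autEnd K u - 1) ^ m : End K (Fin 8 → K)) x = 0) :
    (u ^ p ^ i).1 x = x := by
  have := LinearMap.congr_fun (sub_one_pow_char p u i) x
  rw [← Nat.sub_add_cancel hm, pow_add, End.mul_apply, hx, map_zero, Nat.sub_add_cancel hm] at this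
  exact sub_eq_zero.1 this.symm

theorem fix_of_finrank {j : ℕ} (hu : u ^ p ^ j = 1) {W : Submodule K (Fin 8 → K)}
    (hW : ∀ x ∈ W, u.1 x ∈ W) {i : ℕ} (hi : finrank K W ≤ p ^ i) {x : Fin 8 → K} (hx : x ∈ W) :
    (u ^ p ^ i).1 x = x :=
  fix_of_pow p le_rfl (pow_apply_eq_zero_of_finrank (isNilpotent_sub_one p hu)
    (fun x hx => W.sub_mem (hW x hx) hx) hi hx)

/-- A unipotent isometry of a four-dimensional orthogonal space has no Jordan block of size 4. -/
theorem cube_eq_zero (h2 : (2 : K) ≠ 0) (hu : IsNilpotent (autEnd K u - 1))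
    {W : Submodule K (Fin 8 → K)} (hW : ∀ x ∈ W, u.1 x ∈ W) (h4 : finrank K W ≤ 4)
    (hnd : ∀ x ∈ W, (∀ y ∈ W, polar zN x y = 0) → x = 0) {v : Fin 8 → K} (hv : v ∈ W) :
    ((autEnd K u - 1) ^ 3 : End K (Fin 8 → K)) v = 0 := by
  set N := autEnd K u - 1 with hN
  have hNa : ∀ x, N x = u.1 x - x := fun _ => rfl
  have hW' : ∀ x ∈ W, N x ∈ W := fun x hx => W.sub_mem (hW x hx) hx
  have hz : ∀ x ∈ W, N (N (N (N x))) = 0 := fun x hx =>
    pow_apply_eq_zero_of_finrank hu hW' h4 hx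
  change N (N (N v)) = 0
  by_contra h
  have h3 : 3 ≤ finrank K (W.map N) := by
    by_contra h3
    exact h (pow_apply_eq_zero_of_finrank hu (W := W.map N) (m := 2)
      (fun x ⟨y, hy, e⟩ => ⟨x, e ▸ hW' y hy, rfl⟩) (by omega) ⟨v, hv, rfl⟩)
  have h5 : W.map N < W.map N ⊔ K ∙ v := left_lt_sup.2 fun h' => by
    obtain ⟨w, hw, e⟩ := h' (Submodule.mem_span_singleton_self v)
    exact h (e ▸ hz w hw)
  have h6 : W.map N ⊔ K ∙ v = W := Submodule.eq_of_le_of_finrank_le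
    (sup_le (fun x ⟨y, hy, e⟩ => e ▸ hW' y hy) ((Submodule.span_singleton_le_iff_mem _ _).2 hv))
    (by have := Submodule.finrank_lt_finrank_of_lt h5; omega)
  have h7 : ∀ z, polar zN (N (N (N v))) (u.1 z) = polar zN (N (N (N v))) z := fun z => by
    rw [← autZ_polar u _ z, sub_eq_zero.1 ((hNa _).symm.trans (hz v hv))]
  have h8 : ∀ x z, polar zN (N x) (u.1 z) = -polar zN x (N z) := fun x z => by
    rw [hNa, hNa, polar_sub_left, polar_sub_right, autZ_polar, neg_sub]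
  have h9 : ∀ x, N (u.1 x) = u.1 (N x) := fun x => by rw [hNa, hNa, map_sub]
  refine h (hnd _ (hW' _ (hW' _ (hW' _ hv))) fun y hy => ?_)
  rw [← h6] at hy
  obtain ⟨_, ⟨w, -, rfl⟩, _, hz, rfl⟩ := Submodule.mem_sup.1 hy
  obtain ⟨c, rfl⟩ := Submodule.mem_span_singleton.1 hz
  have h10 := h8 (N (N v)) (u.1 (u.1 v))
  rw [h7, h7, h7, h9, h8, h9, h9, h8, neg_neg, polar_comm] at h10
  rw [polar_add_right, polar_smul_right, hNa w, polar_sub_right, h7, polar_comm _ _ v,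
    (mul_eq_zero.1 (show 2 * polar zN v (N (N (N v))) = 0 by linear_combination h10)).resolve_left h2]
  simp

/-- The coordinate subspace given by `I` is invariant. -/
def CoordInv (u : autZ K) (I : Set (Fin 8)) : Prop :=
  ∀ x : Fin 8 → K, (∀ j ∉ I, x j = 0) → ∀ j ∉ I, u.1 x j = 0

theorem CoordInv.inter {I J : Set (Fin 8)} (hI : CoordInv u I) (hJ : CoordInv u J) :
    CoordInv u (I ∩ J) := fun x hx j hj => (not_and_or.1 hj).elim
  (hI x (fun i hi => hx i fun h => hi h.1) j) (hJ x (fun i hi => hx i fun h => hi h.2) j)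

theorem CoordInv.mem {I : Set (Fin 8)} (hI : CoordInv u I) :
    ∀ x ∈ Pi.spanSubset K I, u.1 x ∈ Pi.spanSubset K I := fun x hx =>
  Pi.mem_spanSubset_iff.2 (hI x (Pi.mem_spanSubset_iff.1 hx))

theorem zb_mem_spanSubset {I : Set (Fin 8)} {k : Fin 8} (hk : k ∈ I) :
    (zb k : Fin 8 → K) ∈ Pi.spanSubset K I :=
  Pi.mem_spanSubset_iff.2 fun _ hi => Pi.single_eq_of_ne (by rintro rfl; exact hi hk) _

theorem finrank_spanSubset_le {I : Set (Fin 8)} (T : Finset (Fin 8)) (hT : ∀ k ∈ I, k ∈ T) :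
    finrank K (Pi.spanSubset K I) ≤ T.card := by
  rw [Pi.dim_spanSubset, ← Set.ncard_coe_finset]
  exact Set.ncard_le_ncard hT

theorem CoordInv.fix {j : ℕ} (hu : u ^ p ^ j = 1) {I : Set (Fin 8)} (hI : CoordInv u I)
    (T : Finset (Fin 8)) (hT : ∀ k ∈ I, k ∈ T) {i : ℕ} (hi : T.card ≤ p ^ i) {k : Fin 8}
    (hk : k ∈ I) : (u ^ p ^ i).1 (zb k) = zb k :=
  fix_of_finrank p hu hI.mem ((finrank_spanSubset_le T hT).trans hi) (zb_mem_spanSubset hk)

end Unip

/-- A `q`-semilinear multiplicative map. -/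
structure IsFrob (q : ℕ) (σ : (Fin 8 → K) → Fin 8 → K) : Prop where
  pos : 0 < q
  inj : Function.Injective σ
  one : σ zE = zE
  mul : ∀ x y, σ (zm x y) = zm (σ x) (σ y)
  smul : ∀ (c : K) x, σ (c • x) = c ^ q • σ x

theorem isFrob_aut (u : autZ K) : IsFrob 1 u.1 :=
  ⟨one_pos, u.1.injective, autZ_zE u, autZ_zm u, fun c x => by rw [map_smul, pow_one]⟩

theorem isFrob_comp {φ : K →+* K} {q : ℕ} (hq : 0 < q) (h : ∀ c, φ c = c ^ q) :
    IsFrob q fun x : Fin 8 → K => φ ∘ x :=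
  ⟨hq, φ.injective.comp_left, by rw [zE_eq, comp_zk]; simp [zk_inj, funext_iff], comp_zm φ,
    fun c x => by ext i; simp [← h]⟩

variable {q : ℕ} {σ : (Fin 8 → K) → Fin 8 → K}

theorem IsFrob.conj (hσ : IsFrob q σ) (h : autZ K) : IsFrob q fun x => h⁻¹.1 (σ (h.1 x)) :=
  ⟨hσ.pos, h⁻¹.1.injective.comp (hσ.inj.comp h.1.injective),
    by rw [autZ_zE, hσ.one, autZ_zE], fun x y => by rw [autZ_zm, hσ.mul, autZ_zm],
    fun c x => by rw [map_smul, hσ.smul, map_smul]⟩

theorem IsFrob.zero (hσ : IsFrob q σ) : σ 0 = 0 := by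
  simpa [hσ.pos.ne'] using hσ.smul 0 0

theorem IsFrob.zb_ne (hσ : IsFrob q σ) (i : Fin 8) : σ (zb i) ≠ 0 := fun h => by
  simpa using hσ.inj (h.trans hσ.zero.symm)

/-- The weights of a diagonal automorphism. -/
def torW (a b c : Kˣ) : Fin 8 → Kˣ := ![1, a, b, c, a⁻¹, b⁻¹, c⁻¹, 1]

/-- `s` is the diagonal automorphism with parameters `a, b, c`. -/
structure IsTor (s : autZ K) (a b c : Kˣ) : Prop where
  prod : a * b * c = 1
  app : ∀ x i, s.1 x i = torW a b c i * x i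

variable {s : autZ K} {a b c : Kˣ}

theorem IsTor.zb (hs : IsTor s a b c) (i : Fin 8) :
    s.1 (zb i) = (torW a b c i : K) • H29.zb i := by
  ext j
  by_cases h : j = i <;> simp [hs.app, h]

theorem IsTor.pow_zb (hs : IsTor s a b c) (n : ℕ) (i : Fin 8) :
    (s ^ n).1 (H29.zb i) = ((torW a b c i ^ n : Kˣ) : K) • H29.zb i := by
  induction n with
  | zero => simp
  | succ n ih => rw [pow_succ', autZ_mul_apply, ih, map_smul, hs.zb, smul_smul, pow_succ]; rfl

theorem IsTor.pow_eq_one (hs : IsTor s a b c) {n : ℕ} (ha : a ^ n = 1) (hb : b ^ n = 1)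
    (hc : c ^ n = 1) : s ^ n = 1 :=
  autZ_ext (by rw [hs.pow_zb]; simp [torW, ha]) (by rw [hs.pow_zb]; simp [torW, hb])
    (by rw [hs.pow_zb]; simp [torW, hc])

theorem IsTor.eig (hs : IsTor s a b c) {x : Fin 8 → K} {μ : Kˣ} (h : s.1 x = (μ : K) • x) {i : Fin 8}
    (hi : torW a b c i ≠ μ) : x i = 0 := by
  have := congrFun h i
  rw [hs.app, Pi.smul_apply, smul_eq_mul] at this
  exact (mul_eq_mul_right_iff.1 this).resolve_left fun h => hi (Units.ext h)

theorem IsTor.coordInv (hs : IsTor s a b c) {u : autZ K} (hu : ∀ x, u.1 (s.1 x) = s.1 (u.1 x))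
    (μ : Kˣ) : CoordInv u {i | torW a b c i = μ} := fun x hx j hj => by
  refine hs.eig ?_ hj
  rw [← hu, ← map_smul]
  congr 1
  ext i
  by_cases h : torW a b c i = μ
  · simp [hs.app, h]
  · simp [hs.app, hx i h]

theorem IsTor.frob_eig (hs : IsTor s a b c) (hσ : IsFrob q σ) (h : ∀ x, σ (s.1 x) = s.1 (σ x))
    (i : Fin 8) : ∃ j, σ (H29.zb i) j ≠ 0 ∧ torW a b c i ^ q = torW a b c j := by
  obtain ⟨j, hj⟩ := Function.ne_iff.1 (hσ.zb_ne i)
  refine ⟨j, hj, ?_⟩
  by_contra h'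
  exact hj (hs.eig (by rw [← h, hs.zb, hσ.smul, Units.val_pow_eq_pow_val]) (Ne.symm h'))

theorem IsTor.fix_eq (hs : IsTor s a b c) (h1 : a ≠ 1 ∧ b ≠ 1 ∧ c ≠ 1) {x : Fin 8 → K}
    (hx : s.1 x = x) : x = zk (x 0) 0 0 (x 7) := by
  have := fun i => hs.eig (x := x) (μ := 1) (by simpa using hx) (i := i)
  ext i
  fin_cases i <;> first | rfl | exact this _ (by simp [torW, h1])

theorem IsTor.frob_cases (hs : IsTor s a b c) (hσ : IsFrob q σ) (h : ∀ x, σ (s.1 x) = s.1 (σ x))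
    (h1 : a ≠ 1 ∧ b ≠ 1 ∧ c ≠ 1) :
    (σ (H29.zb 0) = H29.zb 0 ∧ ∀ d ∈ [a, b, c], d ^ q = a ∨ d ^ q = b ∨ d ^ q = c) ∨
      (σ (H29.zb 0) = H29.zb 7 ∧ ∀ d ∈ [a, b, c], (d ^ q)⁻¹ = a ∨ (d ^ q)⁻¹ = b ∨ (d ^ q)⁻¹ = c) := by
  have h2 := hs.fix_eq h1 (x := σ (H29.zb 0)) (by rw [← h, hs.zb]; simp [torW])
  have h3 := hσ.mul (H29.zb 0) (H29.zb 0)
  rw [show zm (H29.zb 0) (H29.zb 0) = (H29.zb 0 : Fin 8 → K) by
    ext i; fin_cases i <;> simp [zm_apply], h2, zm_zk, zk_inj] at h3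
  have h4 := hσ.zb_ne 0
  have h5 : σ (H29.zb 0) ≠ zE := fun h' => by
    simpa [zE] using congrFun (hσ.inj (h'.trans hσ.one.symm)) 7
  have h6 : ∀ d ∈ [a, b, c], ∃ i, torW a b c i = d ∧ zm (H29.zb 0) (H29.zb i) = (H29.zb i : Fin 8 → K) ∧
      zm (H29.zb i) (H29.zb 0) = (0 : Fin 8 → K) := by
    simp only [List.mem_cons, List.not_mem_nil, or_false, forall_eq_or_imp, forall_eq]
    refine ⟨⟨1, rfl, ?_, ?_⟩, ⟨2, rfl, ?_, ?_⟩, 3, rfl, ?_, ?_⟩ <;> ext i <;> fin_cases i <;>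
      simp [zm_apply]
  generalize σ (H29.zb 0) 0 = α at h2 h3
  generalize σ (H29.zb 0) 7 = β at h2 h3
  have h7 : α = 0 ∨ α = 1 := IsIdempotentElem.iff_eq_zero_or_one.1 (show α * α = α by simpa using h3.1.symm)
  have h8 : β = 0 ∨ β = 1 := 
    IsIdempotentElem.iff_eq_zero_or_one.1 (show β * β = β by simpa using h3.2.2.2.symm)
  rcases h7 with rfl | rfl <;> rcases h8 with rfl | rfl
  · exact absurd (h2.trans (by ext i; fin_cases i <;> rfl)) h4
  · refine Or.inr ⟨h2.trans zb_seven.symm, fun d hd => ?_⟩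
    obtain ⟨i, rfl, h9, h10⟩ := h6 d hd
    obtain ⟨j, hj, e⟩ := hs.frob_eig hσ h i
    rw [(peirce_b (x := σ (H29.zb i))).1 ⟨by rw [zb_seven, ← h2, ← hσ.mul, h9],
      by rw [zb_seven, ← h2, ← hσ.mul, h10, hσ.zero]⟩] at hj
    rw [e]
    fin_cases j <;> simp [zk, torW] at hj ⊢
  · refine Or.inl ⟨h2.trans zb_zero.symm, fun d hd => ?_⟩
    obtain ⟨i, rfl, h9, h10⟩ := h6 d hd
    obtain ⟨j, hj, e⟩ := hs.frob_eig hσ h i
    rw [(peirce_a (x := σ (H29.zb i))).1 ⟨by rw [zb_zero, ← h2, ← hσ.mul, h9],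
      by rw [zb_zero, ← h2, ← hσ.mul, h10, hσ.zero]⟩] at hj
    rw [e]
    fin_cases j <;> simp [zk, torW] at hj ⊢
  · exact absurd (h2.trans zE_eq.symm) h5

theorem zT_zm (x y : Fin 8 → K) : zT (zm x y) = zT x * zT y - polar zN x y := by
  simp [zT_apply, zm_apply, polar_zN]; ring

theorem exists_fixed_idem [IsAlgClosed K] {n : ℕ} (hn : (n : K) ≠ 0) (hs : s ^ n = 1) :
    ∃ e, zT e = 1 ∧ zN e = 0 ∧ s.1 e = e := by
  obtain ⟨b, d, hd⟩ := exists_eigenbasis (f := autEnd K s) hn (by rw [← map_pow, hs, map_one])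
    (finrank_fin_fun K)
  by_cases h1 : s = 1
  · exact ⟨zb 0, by simp [zT_apply], by simp [zN_apply], by rw [h1]; rfl⟩
  obtain ⟨x, μ, hx0, hμ, hx, hN⟩ : ∃ (x : Fin 8 → K) (μ : K), x ≠ 0 ∧ μ ≠ 1 ∧ s.1 x = μ • x ∧
      zN x = 0 := by
    by_cases h2 : ∃ i, d i ^ 2 ≠ 1
    · obtain ⟨i, hi⟩ := h2
      refine ⟨b i, d i, b.ne_zero i, fun h => hi (by simp [h]), hd i, ?_⟩
      have := (autZ_zT_zN s (b i)).2
      rw [← autEnd_apply, hd, QuadraticMap.map_smul, smul_eq_mul] at this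
      exact (mul_eq_zero.1 (show (d i ^ 2 - 1) * zN (b i) = 0 by
        linear_combination this)).resolve_left (sub_ne_zero.2 hi)
    push Not at h2
    have h3 : s * s = 1 := Subtype.ext (LinearEquiv.toLinearMap_injective (b.ext fun i => by
      change autEnd K s (autEnd K s (b i)) = b i
      rw [hd, map_smul, hd, smul_smul, ← pow_two, h2, one_smul]))
    have h4 : (2 : K) ≠ 0 := fun h => h1 (Subtype.ext (LinearEquiv.toLinearMap_injective
      (b.ext fun i => by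
        change autEnd K s (b i) = b i
        rw [hd, show d i = 1 from pow_eq_zero_iff two_ne_zero |>.1 (show (d i - 1) ^ 2 = 0 by
          linear_combination h2 i + (1 - d i) * h) |> sub_eq_zero.1, one_smul])))
    have h5 : (-1 : K) ≠ 1 := fun h => h4 (by linear_combination -h)
    obtain ⟨y, hy, hy'⟩ := exists_aniso_negSp h4 h3 h1
    obtain ⟨x, hx⟩ := exists_linearIndependent_pair_of_one_lt_finrank (R := K) (M := negSp s)
      (x := ⟨y, hy⟩) (by rw [finrank_negSp h4 h3 h1]; norm_num)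
      fun h => hy' (by rw [show y = 0 from congrArg Subtype.val h, map_zero])
    obtain ⟨t, ht⟩ := IsAlgClosed.exists_root (Polynomial.C (zN y) * Polynomial.X ^ 2 +
      Polynomial.C (polar zN y x.1) * Polynomial.X + Polynomial.C (zN x.1))
      (by rw [Polynomial.degree_quadratic hy']; norm_num)
    refine ⟨t • y + x, -1, fun h => ?_, h5, ?_, ?_⟩
    · exact one_ne_zero ((LinearIndependent.pair_iff.1 hx t 1 (Subtype.ext (by simpa using h))).2)
    · rw [neg_one_smul]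
      exact mem_negSp.1 (add_mem (Submodule.smul_mem _ _ hy) x.2)
    · rw [QuadraticMap.map_add zN, QuadraticMap.map_smul, polar_smul_left]
      simp at ht ⊢
      linear_combination ht
  obtain ⟨j, hj⟩ : ∃ j, polar zN x (b j) ≠ 0 := by
    by_contra! h
    exact hx0 (H30.eq_zero_of_polar zN_nondegenerate fun y =>
      LinearMap.congr_fun (b.ext h : polarBilin zN x = 0) y)
  have h2 : μ * d j = 1 := by
    have := autZ_polar s x (b j)
    rw [hx, ← autEnd_apply, hd, polar_smul_left, polar_smul_right, smul_smul, smul_eq_mul] at this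
    exact mul_right_cancel₀ hj (this.trans (one_mul _).symm)
  have h3 : zT x = 0 := by
    have := (autZ_zT_zN s x).1
    rw [hx, map_smul, smul_eq_mul] at this
    exact (mul_eq_zero.1 (show (μ - 1) * zT x = 0 by linear_combination this)).resolve_left
      (sub_ne_zero.2 hμ)
  refine ⟨(-polar zN x (b j))⁻¹ • zm x (b j), ?_, ?_, ?_⟩
  · rw [map_smul, zT_zm, h3, zero_mul, zero_sub, smul_eq_mul, inv_mul_cancel₀ (neg_ne_zero.2 hj)]
  · rw [QuadraticMap.map_smul, zN_zm, hN, zero_mul, smul_zero]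
  · rw [map_smul, autZ_zm, hx, ← autEnd_apply, hd, map_smul, map_smul, LinearMap.smul_apply,
      smul_smul (d j), mul_comm, h2, one_smul]

/-- Normal form of a semisimple automorphism. -/
theorem exists_isTor [IsAlgClosed K] {n : ℕ} (hn : (n : K) ≠ 0) (hs : s ^ n = 1) :
    ∃ (h : autZ K) (a b c : Kˣ), IsTor (h⁻¹ * s * h) a b c ∧ (a = 1 ∨ (a ≠ 1 ∧ b ≠ 1 ∧ c ≠ 1)) := by
  obtain ⟨e, h1, h2, h3⟩ := exists_fixed_idem hn hs
  obtain ⟨h, rfl⟩ := exists_idem h1 h2
  obtain ⟨A, hA⟩ := exists_stdHom_eq (g := h⁻¹ * s * h)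
    (by rw [autZ_mul_apply, autZ_mul_apply, h3, autZ_inv_apply])
  have h4 : A ^ n = 1 := stdHom_injective (by
    rw [map_pow, hA, map_one, ← MulAut.conj_inv_apply, ← map_pow, hs, map_one])
  obtain ⟨b, d, hd, hd'⟩ : ∃ (b : Basis (Fin 3) K (Fin 3 → K)) (d : Fin 3 → K),
      (∀ i, A.1 *ᵥ b i = d i • b i) ∧ (d 0 = 1 ∨ ∀ i, d i ≠ 1) := by
    obtain ⟨b, d, hd⟩ := exists_eigenbasis (f := Matrix.toLin' A.1) hn
      (by rw [← Matrix.toLin'_pow, show A.1 ^ n = 1 from congrArg Subtype.val h4, Matrix.toLin'_one]; rfl)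
      (finrank_fin_fun K)
    by_cases h : ∃ i, d i = 1
    · obtain ⟨i, hi⟩ := h
      exact ⟨b.reindex (Equiv.swap 0 i), d ∘ Equiv.swap 0 i, fun j => by simpa using hd _,
        Or.inl (by simpa using hi)⟩
    · exact ⟨b, d, hd, Or.inr (not_exists.1 h)⟩
  have h5 : ((Pi.basisFun K (Fin 3)).toMatrix b).det ≠ 0 :=
    ((Pi.basisFun K (Fin 3)).isUnit_det b).ne_zero
  set P₀ := (Pi.basisFun K (Fin 3)).toMatrix b
  have h6 : A.1 * P₀ = P₀ * diagonal d := by
    ext i j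
    rw [mul_diagonal, mul_comm]
    exact congrFun (hd j) i
  let P : SpecialLinearGroup (Fin 3) K := ⟨P₀ * diagonal ![P₀.det⁻¹, 1, 1], by
    simp [Fin.prod_univ_three, h5]⟩
  have h7 : (P⁻¹ * A * P).1 = diagonal d := by
    change P.1.adjugate * A.1 * (P₀ * _) = _
    rw [mul_assoc, ← mul_assoc A.1, h6, mul_assoc, (commute_diagonal _ _).eq, ← mul_assoc P₀,
      ← mul_assoc, sl_adj_mul, one_mul]
  have h8 : d 0 * d 1 * d 2 = 1 := by
    rw [← Fin.prod_univ_three, ← det_diagonal, ← h7]; exact (P⁻¹ * A * P).2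
  have h9 : ∀ i, d i ≠ 0 := fun i hi => by fin_cases i <;> simp_all
  have h10 : (diagonal d).adjugate = diagonal fun i => (d i)⁻¹ := by
    rw [← mul_one (adjugate _), ← diagonal_one, show (fun _ => 1) = fun i => d i * (d i)⁻¹ by
      simp [h9], ← diagonal_mul_diagonal, ← mul_assoc, ← h7, sl_adj_mul, one_mul]
  refine ⟨h * stdHom K P, Units.mk0 _ (h9 0), Units.mk0 _ (h9 1), Units.mk0 _ (h9 2),
    ⟨Units.ext h8, fun x i => ?_⟩, hd'.imp (fun h => Units.ext h) fun h =>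
      ⟨fun h' => h 0 (congrArg Units.val h'), fun h' => h 1 (congrArg Units.val h'),
        fun h' => h 2 (congrArg Units.val h')⟩⟩
  obtain ⟨α, a, b, β, rfl⟩ := exists_zk x
  rw [show (h * stdHom K P)⁻¹ * s * (h * stdHom K P) = stdHom K (P⁻¹ * A * P) by
    simp [hA, mul_assoc], stdHom_zk, h7, h10]
  fin_cases i <;> simp [zk, torW, mulVec_diagonal]

section Core

variable {p : ℕ} [hp : Fact p.Prime] [CharP K p] {u : autZ K}

theorem units_pow_injective (k : ℕ) : Function.Injective (powMonoidHom (p ^ k) : Kˣ →* Kˣ) :=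
  fun _ _ h => Units.ext (iterateFrobenius_inj K p k (congrArg Units.val h))

theorem unip_cases {j : ℕ} (hu : u ^ p ^ j = 1) :
    u ^ p = 1 ∨ (p = 2 ∧ u ^ 8 = 1) ∨ ((p = 3 ∨ p = 5) ∧ u ^ p ^ 2 = 1) := by
  have key : ∀ i, 7 ≤ p ^ i → u ^ p ^ i = 1 := fun i hi => by
    have : ∀ x, zT x = 0 → (u ^ p ^ i).1 x = x := fun x hx => fix_of_finrank p hu
      (W := LinearMap.ker zT) (fun x hx => (autZ_zT_zN u x).1.trans hx) (by
        have := Submodule.finrank_lt (s := LinearMap.ker (zT (F := K))) fun h => by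
          simpa [zT_apply] using h.ge (Submodule.mem_top (x := zb 0))
        rw [finrank_fin_fun] at this
        omega) hx
    exact autZ_ext (this _ (by simp [zT_apply])) (this _ (by simp [zT_apply]))
      (this _ (by simp [zT_apply]))
  by_cases h7 : 7 ≤ p
  · exact Or.inl (by simpa using key 1 (by simpa))
  have h2 := hp.out.two_le
  have h4 : p ≠ 4 := by rintro rfl; exact absurd hp.out (by norm_num)
  have h6 : p ≠ 6 := by rintro rfl; exact absurd hp.out (by norm_num)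
  obtain rfl | rfl | rfl : p = 2 ∨ p = 3 ∨ p = 5 := by omega
  · exact Or.inr (Or.inl ⟨rfl, key 3 (by norm_num)⟩)
  · exact Or.inr (Or.inr ⟨Or.inl rfl, key 2 (by norm_num)⟩)
  · exact Or.inr (Or.inr ⟨Or.inr rfl, key 2 (by norm_num)⟩)

theorem IsTor.unip_of_one {j : ℕ} (hs : IsTor s 1 b c) (hb : b ≠ 1) (hu : u ^ p ^ j = 1)
    (h : ∀ x, u.1 (s.1 x) = s.1 (u.1 x)) : u ^ p = 1 := by
  obtain rfl : c = b⁻¹ := eq_inv_of_mul_eq_one_right (by simpa using hs.prod)
  have key : ∀ k ∈ ({2, 3, 5, 6} : Finset (Fin 8)), (u ^ p ^ 1).1 (H29.zb k) = H29.zb k := by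
    by_cases h2 : b⁻¹ = b
    · have h3 : (2 : K) ≠ 0 := fun h3 => hb (Units.ext (sub_eq_zero.1 (pow_eq_zero_iff two_ne_zero |>.1
        (show ((b : K) - 1) ^ 2 = 0 by
          have : (b : K) * b = 1 := by rw [← Units.val_mul]; nth_rw 1 [← h2]; simp
          linear_combination this + (1 - b) * h3))))
      have h4 : 3 ≤ p ^ 1 := by
        have := hp.out.two_le
        have : p ≠ 2 := by rintro rfl; exact h3 (CharP.cast_eq_zero K 2)
        rw [pow_one]
        omega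
      have h5 : ∀ k, torW 1 b b⁻¹ k = b ↔ k ∈ ({2, 3, 5, 6} : Finset (Fin 8)) := fun k => by
        fin_cases k <;> simp [torW, h2, hb.symm]
      refine fun k hk => fix_of_pow p h4 (cube_eq_zero h3 (isNilpotent_sub_one p hu)
        (hs.coordInv h b).mem (finrank_spanSubset_le _ fun k => (h5 k).1) (fun x hx hx' => ?_)
        (zb_mem_spanSubset ((h5 k).2 hk)))
      have h6 := fun k hk => Pi.mem_spanSubset_iff.1 hx k (mt (h5 k).1 hk)
      have h7 := fun k hk => hx' _ (zb_mem_spanSubset ((h5 k).2 hk))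
      have a2 := h7 2 (by decide)
      have a3 := h7 3 (by decide)
      have a5 := h7 5 (by decide)
      have a6 := h7 6 (by decide)
      simp [polar_zN] at a2 a3 a5 a6
      ext i
      fin_cases i <;> first | exact h6 _ (by decide) | assumption
    · have h3 := fun k => (hs.coordInv h b).fix p hu {2, 6} (k := k) (i := 1)
        (fun k => by fin_cases k <;> simp [torW, h2, hb.symm]) (by simpa using hp.out.two_le)
      have h4 := fun k => (hs.coordInv h b⁻¹).fix p hu {3, 5} (k := k) (i := 1)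
        (fun k => by fin_cases k <;> simp [torW, Ne.symm h2, hb]) (by simpa using hp.out.two_le)
      simp only [Finset.mem_insert, Finset.mem_singleton, forall_eq_or_imp, forall_eq]
      exact ⟨h3 _ rfl, h4 _ rfl, h4 _ rfl, h3 _ (inv_inv b)⟩
  rw [pow_one] at key
  refine autZ_ext ?_ (key 2 (by decide)) (key 3 (by decide))
  rw [show (H29.zb 1 : Fin 8 → K) = zm (H29.zb 6) (H29.zb 5) by
    ext i; fin_cases i <;> simp [zm_apply], autZ_zm, key 5 (by decide), key 6 (by decide)]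
  rfl

theorem IsTor.unip_of_ne {j : ℕ} (hs : IsTor s a b c) (h1 : a ≠ 1 ∧ b ≠ 1 ∧ c ≠ 1)
    (hu : u ^ p ^ j = 1) (h : ∀ x, u.1 (s.1 x) = s.1 (u.1 x)) :
    u = 1 ∨ ((a = b ∨ a = c ∨ b = c) ∧ u ^ p = 1) ∨ (p = 2 ∧ a = b ∧ b = c ∧ u ^ 4 = 1) := by
  have h2 : u.1 (H29.zb 0) = H29.zb 0 := by
    refine ((hs.frob_cases (isFrob_aut u) h h1).resolve_right fun ⟨_, h2⟩ => ?_).1
    have h3 : ∀ x y z : Kˣ, x * y * z = 1 → x ≠ 1 → y ≠ 1 → z ≠ 1 → x⁻¹ = x ∨ x⁻¹ = y ∨ x⁻¹ = z →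
        (x : K) = -1 := by
      rintro x y z e hx hy hz (h | rfl | rfl)
      · refine (mul_self_eq_one_iff.1 ?_).resolve_left fun h => hx (Units.ext h)
        rw [← Units.val_mul]; nth_rw 1 [← h]; simp
      · exact absurd (by simpa using e) hz
      · exact absurd (by simpa [mul_right_comm x y] using e) hy
    simp only [List.mem_cons, List.not_mem_nil, or_false, forall_eq_or_imp, forall_eq,
      pow_one] at h2
    have e := hs.prod
    have ha := h3 a b c e h1.1 h1.2.1 h1.2.2 h2.1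
    have hb := h3 b a c (by rw [← e]; ac_rfl) h1.2.1 h1.1 h1.2.2 (by tauto)
    have hc := h3 c a b (by rw [← e]; ac_rfl) h1.2.2 h1.1 h1.2.1 (by tauto)
    have := congrArg Units.val e
    simp only [Units.val_mul, ha, hb, hc, Units.val_one] at this
    exact h1.1 (Units.ext (ha.trans (by rw [Units.val_one]; linear_combination this)))
  have h3 : CoordInv u {1, 2, 3} := fun x hx k hk => by
    have h3 := (peirce_a (x := x)).2 (by
      ext i; fin_cases i <;> first | rfl | exact hx _ (by decide))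
    rw [(peirce_a (x := u.1 x)).1 ⟨by rw [← h2, ← autZ_zm, h3.1],
      by rw [← h2, ← autZ_zm, h3.2, map_zero]⟩]
    fin_cases k <;> first | rfl | exact absurd (by decide) hk
  have key : ∀ i, (∀ μ, ∃ T : Finset (Fin 8), T.card ≤ p ^ i ∧
      ∀ k ∈ {k | torW a b c k = μ} ∩ {1, 2, 3}, k ∈ T) → u ^ p ^ i = 1 := fun i hi => by
    have : ∀ k ∈ ({1, 2, 3} : Set (Fin 8)), (u ^ p ^ i).1 (H29.zb k) = H29.zb k := fun k hk => by
      obtain ⟨T, hT, hT'⟩ := hi (torW a b c k)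
      exact ((hs.coordInv h _).inter h3).fix p hu T hT' hT ⟨rfl, hk⟩
    exact autZ_ext (this _ (by decide)) (this _ (by decide)) (this _ (by decide))
  have h4 := hp.out.two_le
  by_cases hr : a = b ∨ a = c ∨ b = c
  · by_cases he : a = b ∧ b = c
    · by_cases h5 : p = 2
      · subst h5
        exact Or.inr (Or.inr ⟨rfl, he.1, he.2, key 2 fun μ => ⟨{1, 2, 3}, by decide,
          fun k hk => by simpa using hk.2⟩⟩)
      · refine Or.inr (Or.inl ⟨hr, pow_one p ▸ key 1 fun μ => ⟨{1, 2, 3}, ?_,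
          fun k hk => by simpa using hk.2⟩⟩)
        rw [pow_one]
        change 3 ≤ _
        omega
    · refine Or.inr (Or.inl ⟨hr, pow_one p ▸ key 1 fun μ => ?_⟩)
      by_cases ha : a = μ
      · by_cases hb : b = μ
        · refine ⟨{1, 2}, by simpa, ?_⟩
          rintro k ⟨hk, rfl | rfl | rfl⟩
          exacts [by decide, by decide, absurd ⟨ha.trans hb.symm, hb.trans hk.symm⟩ he]
        · refine ⟨{1, 3}, by simpa, ?_⟩
          rintro k ⟨hk, rfl | rfl | rfl⟩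
          exacts [by decide, absurd hk hb, by decide]
      · refine ⟨{2, 3}, by simpa, ?_⟩
        rintro k ⟨hk, rfl | rfl | rfl⟩
        exacts [absurd hk ha, by decide, by decide]
  · refine Or.inl ((pow_one u).symm.trans (pow_zero p ▸ key 0 fun μ => ?_))
    push Not at hr
    by_cases ha : a = μ
    · refine ⟨{1}, by simp, ?_⟩
      rintro k ⟨hk, rfl | rfl | rfl⟩
      exacts [by decide, absurd (ha.trans hk.symm) hr.1, absurd (ha.trans hk.symm) hr.2.1]
    · by_cases hb : b = μ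
      · refine ⟨{2}, by simp, ?_⟩
        rintro k ⟨hk, rfl | rfl | rfl⟩
        exacts [absurd hk ha, by decide, absurd (hb.trans hk.symm) hr.2.2]
      · refine ⟨{3}, by simp, ?_⟩
        rintro k ⟨hk, rfl | rfl | rfl⟩
        exacts [absurd hk ha, absurd hk hb, by decide]

theorem IsTor.pow_of_one {k : ℕ} (hs : IsTor s 1 b c) (hσ : IsFrob (p ^ k) σ)
    (h : ∀ x, σ (s.1 x) = s.1 (σ x)) : s ^ (p ^ k - 1) = 1 ∨ s ^ (p ^ k + 1) = 1 := by
  obtain rfl : c = b⁻¹ := eq_inv_of_mul_eq_one_right (by simpa using hs.prod)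
  obtain ⟨j, -, hj⟩ := hs.frob_eig hσ h 2
  have h1 : b ^ p ^ k = 1 ∨ b ^ p ^ k = b ∨ b ^ p ^ k = b⁻¹ := by
    fin_cases j <;> simp [torW] at hj <;> simp [hj]
  have h2 : ∀ n, b ^ n = 1 → s ^ n = 1 := fun n hn => hs.pow_eq_one (one_pow n) hn (by simp [hn])
  rcases h1 with h1 | h1 | h1
  · exact Or.inl (h2 _ (by rw [units_pow_injective k (h1.trans (map_one _).symm), one_pow]))
  · exact Or.inl (h2 _ (pow_pred_eq_one hσ.pos h1))
  · exact Or.inr (h2 _ (by rw [pow_succ, h1, inv_mul_cancel]))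

theorem IsTor.pow_of_ne {k : ℕ} (hs : IsTor s a b c) (h1 : a ≠ 1 ∧ b ≠ 1 ∧ c ≠ 1)
    (hσ : IsFrob (p ^ k) σ) (h : ∀ x, σ (s.1 x) = s.1 (σ x)) :
    (s ^ ((p ^ k) ^ 2 - 1) = 1 ∨ s ^ ((p ^ k) ^ 2 + p ^ k + 1) = 1 ∨
      s ^ ((p ^ k) ^ 2 - p ^ k + 1) = 1) ∧
    (a = b ∨ a = c ∨ b = c → s ^ (p ^ k - 1) = 1 ∨ s ^ (p ^ k + 1) = 1) := by
  have hinj := units_pow_injective (K := K) (p := p) k
  have hq := hσ.pos
  generalize p ^ k = q at *
  have l1 : ∀ x : Kˣ, (x ^ q) ^ q = x → x ^ (q ^ 2 - 1) = 1 := fun x hx =>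
    pow_pred_eq_one (by positivity) (by rwa [pow_two, pow_mul])
  rcases hs.frob_cases hσ h h1 with ⟨-, h2⟩ | ⟨-, h2⟩
  · have ha := h2 a (by simp)
    have hb := h2 b (by simp)
    have hc := h2 c (by simp)
    have l2 : ∀ x : Kˣ, x * x ^ q * (x ^ q) ^ q = 1 → x ^ (q ^ 2 + q + 1) = 1 := fun x hx => by
      rw [← hx, pow_succ, pow_add, pow_two, pow_mul]; ac_rfl
    refine ⟨(three_cases _ hinj hs.prod ha hb hc).imp
      (fun h => hs.pow_eq_one (l1 _ h.1) (l1 _ h.2.1) (l1 _ h.2.2))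
      fun h => Or.inl (hs.pow_eq_one (l2 _ h.1) (l2 _ h.2.1) (l2 _ h.2.2)), fun hr => ?_⟩
    have := fixed_of_repeated _ hinj hs.prod ha hb hc hr
    exact Or.inl (hs.pow_eq_one (pow_pred_eq_one hq this.1) (pow_pred_eq_one hq this.2.1)
      (pow_pred_eq_one hq this.2.2))
  · have ha := h2 a (by simp)
    have hb := h2 b (by simp)
    have hc := h2 c (by simp)
    have hinj' : Function.Injective (invMonoidHom.comp (powMonoidHom q : Kˣ →* Kˣ)) :=
      inv_injective.comp hinj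
    have l2 : ∀ x : Kˣ, x * (x ^ q)⁻¹ * ((x ^ q)⁻¹ ^ q)⁻¹ = 1 → x ^ (q ^ 2 - q + 1) = 1 :=
      fun x hx => by
        rw [← hx, pow_succ, pow_sub _ (Nat.le_self_pow two_ne_zero q), pow_two, pow_mul, inv_pow,
          inv_inv]
        ac_rfl
    have l3 : ∀ x : Kˣ, ((x ^ q)⁻¹ ^ q)⁻¹ = x → x ^ (q ^ 2 - 1) = 1 := fun x hx =>
      l1 x (by rwa [inv_pow, inv_inv] at hx)
    have l4 : ∀ x : Kˣ, (x ^ q)⁻¹ = x → x ^ (q + 1) = 1 := fun x hx => by
      rw [pow_succ]; nth_rw 2 [← hx]; simp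
    refine ⟨(three_cases _ hinj' hs.prod ha hb hc).imp
      (fun h => hs.pow_eq_one (l3 _ h.1) (l3 _ h.2.1) (l3 _ h.2.2))
      fun h => Or.inr (hs.pow_eq_one (l2 _ h.1) (l2 _ h.2.1) (l2 _ h.2.2)), fun hr => ?_⟩
    have := fixed_of_repeated _ hinj' hs.prod ha hb hc hr
    exact Or.inr (hs.pow_eq_one (l4 _ this.1) (l4 _ this.2.1) (l4 _ this.2.2))

/-- The candidates for the maximal element orders of `G₂(q)`. -/
def G2Ord (p q N : ℕ) : Prop :=
  N = q ^ 2 - 1 ∨ N = q ^ 2 + q + 1 ∨ N = q ^ 2 - q + 1 ∨ N = p * (q - 1) ∨ N = p * (q + 1) ∨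
    (p = 2 ∧ (N = 8 ∨ N = 12)) ∨ ((p = 3 ∨ p = 5) ∧ N = p ^ 2)

theorem IsTor.core {k j : ℕ} (hs : IsTor s a b c) (h1 : a = 1 ∨ (a ≠ 1 ∧ b ≠ 1 ∧ c ≠ 1))
    (hσ : IsFrob (p ^ k) σ) (h : ∀ x, σ (s.1 x) = s.1 (σ x)) (hu : u ^ p ^ j = 1)
    (h' : ∀ x, u.1 (s.1 x) = s.1 (u.1 x)) : ∃ N, G2Ord p (p ^ k) N ∧ s ^ N = 1 ∧ u ^ N = 1 := by
  have key : s ^ (p ^ k - 1) = 1 ∨ s ^ (p ^ k + 1) = 1 → u ^ p = 1 →
      ∃ N, G2Ord p (p ^ k) N ∧ s ^ N = 1 ∧ u ^ N = 1 := by
    rintro (h2 | h2) h3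
    · exact ⟨p * (p ^ k - 1), by simp [G2Ord], by rw [pow_mul', h2, one_pow],
        by rw [pow_mul, h3, one_pow]⟩
    · exact ⟨p * (p ^ k + 1), by simp [G2Ord], by rw [pow_mul', h2, one_pow],
        by rw [pow_mul, h3, one_pow]⟩
  rcases h1 with rfl | h1
  · by_cases hb : b = 1
    · obtain rfl : s = 1 := by
        simpa using hs.pow_eq_one (n := 1) (by simp) (by simpa) (by simpa [hb] using hs.prod)
      rcases unip_cases hu with h2 | ⟨h2, h3⟩ | ⟨h2, h3⟩
      · exact key (Or.inl (one_pow _)) h2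
      · exact ⟨8, by simp [G2Ord, h2], one_pow _, h3⟩
      · exact ⟨p ^ 2, by simp [G2Ord, h2], one_pow _, h3⟩
    · exact key (hs.pow_of_one hσ h) (hs.unip_of_one hb hu h')
  · obtain ⟨h2, h3⟩ := hs.pow_of_ne h1 hσ h
    rcases hs.unip_of_ne h1 hu h' with rfl | ⟨h4, h5⟩ | ⟨h4, rfl, rfl, h5⟩
    · rcases h2 with h2 | h2 | h2 <;> exact ⟨_, by simp [G2Ord], h2, one_pow _⟩
    · exact key (h3 h4) h5
    · have : a ^ 3 = 1 := by rw [← hs.prod, pow_three']
      exact ⟨12, by simp [G2Ord, h4], by rw [show 12 = 3 * 4 from rfl, pow_mul,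
        hs.pow_eq_one this this this, one_pow], by rw [show 12 = 4 * 3 from rfl, pow_mul, h5, one_pow]⟩

theorem exists_g2Ord_of_frob [IsAlgClosed K] {k : ℕ} (hσ : IsFrob (p ^ k) σ) {g : autZ K}
    (hg : 0 < orderOf g) (h : ∀ x, σ (g.1 x) = g.1 (σ x)) :
    ∃ N, G2Ord p (p ^ k) N ∧ orderOf g ∣ N := by
  obtain ⟨j, m, hm, hn⟩ := Nat.exists_eq_pow_mul_and_not_dvd hg.ne' p hp.out.ne_one
  have h1 : ∀ n x, σ ((g ^ n).1 x) = (g ^ n).1 (σ x) := fun n => by
    induction n with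
    | zero => exact fun _ => rfl
    | succ n ih => exact fun x => by rw [pow_succ, autZ_mul_apply, ih, h, autZ_mul_apply]
  obtain ⟨y, a, b, c, hs, h2⟩ := exists_isTor (s := g ^ p ^ j) (n := m)
    (mt (CharP.cast_eq_zero_iff K p m).1 hm) (by rw [← pow_mul, ← hn, pow_orderOf_eq_one])
  obtain ⟨N, hN, h3, h4⟩ := hs.core (u := y⁻¹ * g ^ m * y) (j := j) h2 (hσ.conj y)
    (fun x => by simp only [autZ_mul_apply, autZ_apply_inv, h1])
    (by rw [← MulAut.conj_inv_apply, ← map_pow, ← pow_mul', ← hn, pow_orderOf_eq_one, map_one])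
    fun x => by
      simp only [autZ_mul_apply, autZ_apply_inv]
      rw [← autZ_mul_apply (g ^ m), pow_mul_comm, autZ_mul_apply]
  rw [← MulAut.conj_inv_apply, ← map_pow, map_eq_one_iff _ (MulEquiv.injective _), ← pow_mul,
    ← orderOf_dvd_iff_pow_eq_one, hn] at h3 h4
  refine ⟨N, hN, hn ▸ Nat.Coprime.mul_dvd_of_dvd_of_dvd
    (Nat.Coprime.pow_left _ (hp.out.coprime_iff_not_dvd.2 hm)) ?_
    (Nat.dvd_of_mul_dvd_mul_left (pow_pos hp.out.pos j) h3)⟩
  rw [mul_comm] at h4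
  exact Nat.dvd_of_mul_dvd_mul_left (Nat.pos_of_ne_zero (by rintro rfl; simp at hm)) h4

end Core

/-- Every element order of `G₂(q)` divides one of the standard candidates. -/
theorem exists_g2Ord {F : Type*} [Field F] [Fintype F] {p k : ℕ} (hp : p.Prime)
    (hF : Fintype.card F = p ^ k) (g : autZ F) : ∃ N, G2Ord p (p ^ k) N ∧ orderOf g ∣ N := by
  have := Fact.mk hp
  have : CharP F p := charP_of_card_eq_prime_pow hF
  have : Finite (autZ F) := Finite.of_injective _ autMat_injective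
  let f := algebraMap F (AlgebraicClosure F)
  rw [← orderOf_injective _ (extAut_injective f)]
  exact exists_g2Ord_of_frob (isFrob_comp (φ := iterateFrobenius _ p k) (pow_pos hp.pos k)
    fun _ => rfl) (by rw [orderOf_injective _ (extAut_injective f)]; exact orderOf_pos g) fun x =>
    (extAut_frob f (fun c => by
      rw [iterateFrobenius_def, ← map_pow, ← hF, FiniteField.pow_card]) g x).symm

end Cfsg.Agent.H29
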