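import Mathlib
import Cfsg.Agent.H29.G2Spec
import Cfsg.Agent.H76.Unitary
import Cfsg.Agent.H76.SpecLin

/-! The element orders of `G₂(q)`. -/

set_option autoImplicit false
set_option linter.unusedSectionVars false

namespace Cfsg.Agent.H29

open Cfsg.Lie H24 H76

section Models

variable {G L : Type*} [Group G] [Field L] [IsAlgClosed L] {p : ℕ} [hp : Fact p.Prime] [CharP L p]
  {Q : ℤ}

theorem ok_orb_iff {A : Type*} [CommGroup A] {γ : A} {D e k : ℕ} (hD : 0 < D) :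
    OK p (orb Q γ D e) k ↔ orderOf γ ∣ k ∧ p ^ Nat.clog p e ∣ k := by
  rw [orderOf_dvd_iff_pow_eq_one]
  refine ⟨fun h => h _ (self_mem_orb Q γ hD e), fun h x hx => ?_⟩
  obtain ⟨i, -, rfl⟩ := mem_orb.1 hx
  exact ⟨by rw [← zpow_natCast, ← zpow_mul, mul_comm, zpow_mul, zpow_natCast, h.1, one_zpow], h.2⟩

theorem ok_add_iff {A : Type*} [CommGroup A] {s t : Multiset (A × ℕ)} {k : ℕ} :
    OK p (s + t) k ↔ OK p s k ∧ OK p t k := by
  simp only [OK, Multiset.mem_add, or_imp, forall_and]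
  tauto

theorem models_exists {s : Multiset (Lˣ × ℕ)} {P : Multiset (Lˣ × ℕ) → Prop}
    (hG : Models G (OK p) P) (hs : P s) {m : ℕ} (h : ∀ k, OK p s k ↔ m ∣ k) :
    ∃ g : G, orderOf g = m := by
  obtain ⟨g, hg⟩ := hG.inn s hs
  exact ⟨g, Nat.dvd_antisymm ((hg m).2 ((h m).2 dvd_rfl)) ((h _).1 ((hg _).1 dvd_rfl))⟩

theorem models_three (hG : Models G (OK p) (SAdm (A := Lˣ) Q 3)) (hQ : (p : ℤ) ∣ Q) :
    (∃ g : G, orderOf g = (Q ^ 2 + Q + 1).natAbs) ∧ (∃ g : G, orderOf g = (Q ^ 2 - 1).natAbs) ∧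
      (∃ g : G, orderOf g = p * (Q - 1).natAbs) ∧
      (p = 2 → 3 ∣ Q - 1 → ∃ g : G, orderOf g = 12) := by
  have hp1 := hp.out.one_lt
  have hz : ∀ (γ : Lˣ) (m : ℤ), orderOf γ = m.natAbs → γ ^ m = 1 := fun γ m h => by
    rw [← orderOf_dvd_iff_zpow_eq_one, h, Int.natCast_natAbs, abs_dvd]
  refine ⟨?_, ?_, ?_, fun h2 h3 => ?_⟩
  · have e : Q ^ 2 + Q + 1 = ∑ i ∈ Finset.range 3, Q ^ i := by simp [Finset.sum_range_succ]; ring
    obtain ⟨γ, hγ⟩ := exists_units_orderOf_eq (L := L) p (not_dvd_geom_sum hp1 hQ three_pos)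
    exact models_exists hG (s := orb Q γ 3 1) ⟨adm_orb (zpow_geom_eq_one_imp (hz _ _ hγ)) one_pos,
      by rw [ddet_orb, hz _ _ hγ, one_pow]⟩ fun k => by simp [ok_orb_iff, hγ, e]
  · obtain ⟨γ, hγ⟩ := exists_units_orderOf_eq (L := L) p (not_dvd_pow_sub_one hp1 hQ two_pos)
    have h1 := hz _ _ hγ
    refine models_exists hG (s := orb Q γ 2 1 + orb Q (γ ^ (1 + Q))⁻¹ 1 1)
      ⟨(adm_orb (α := γ) (D := 2) (by rw [← sub_add_cancel (Q ^ 2) 1, zpow_add, h1]; simp) one_pos).add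
      (adm_orb (α := (γ ^ (1 + Q))⁻¹) (D := 1) (by
        rw [pow_one, ← zpow_neg, ← zpow_mul, show -(1 + Q) * Q = -(1 + Q) - (Q ^ 2 - 1) by ring,
          zpow_sub, h1]; simp) one_pos),
      by simp [ddet_orb, Finset.sum_range_succ]⟩ fun k => ?_
    simp only [ok_add_iff, ok_orb_iff two_pos, ok_orb_iff one_pos, Nat.clog_one_right, pow_zero,
      one_dvd, and_true, orderOf_inv, ← hγ, and_iff_left_iff_imp]
    exact (orderOf_dvd_of_mem_zpowers ⟨_, rfl⟩).trans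
  · have h0 := not_dvd_pow_sub_one hp1 hQ one_pos
    rw [pow_one] at h0
    obtain ⟨γ, hγ⟩ := exists_units_orderOf_eq (L := L) p h0
    have h1 : γ ^ Q = γ := by rw [← sub_add_cancel Q 1, zpow_add, hz _ _ hγ]; simp
    refine models_exists hG (s := orb Q γ 1 2 + orb Q (γ ^ 2)⁻¹ 1 1)
      ⟨(adm_orb (α := γ) (D := 1) (by rwa [pow_one]) two_pos).add (adm_orb (α := (γ ^ 2)⁻¹) (D := 1) (by
        rw [pow_one, inv_zpow, pow_two, mul_zpow, h1]) one_pos),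
      by simp [ddet_orb]⟩ fun k => ?_
    simp only [ok_add_iff, ok_orb_iff one_pos, Nat.clog_one_right, pow_zero, one_dvd, and_true,
      orderOf_inv, ← hγ, Nat.clog_eq_one le_rfl hp.out.two_le, pow_one]
    exact ⟨fun h => (hp.out.coprime_iff_not_dvd.2 (hγ ▸ h0)).mul_dvd_of_dvd_of_dvd h.1.2 h.1.1,
      fun h => ⟨⟨(dvd_mul_left _ _).trans h, (dvd_mul_right _ _).trans h⟩,
        (orderOf_pow_dvd 2).trans ((dvd_mul_left _ _).trans h)⟩⟩
  · subst h2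
    obtain ⟨γ, hγ⟩ := exists_units_orderOf_eq (L := L) 2 (m := 3) (by norm_num)
    refine models_exists hG (s := orb Q γ 1 3) ⟨adm_orb (α := γ) (D := 1) (by
      rw [pow_one, zpow_eq_self_iff, hγ]; exact h3) three_pos,
      by simp [ddet_orb, ← orderOf_dvd_iff_pow_eq_one, hγ]⟩ fun k => ?_
    rw [ok_orb_iff one_pos, hγ, show Nat.clog 2 3 = 2 by norm_num]
    omega

end Models

open Matrix

/-- The nilpotent part of the regular unipotent element `x_a(1) x_b(1)`. -/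
def g2N : List (Tm 8) := [(0, 4, 0, 1), (0, 5, 0, -1), (1, 0, 0, -1), (1, 4, 0, -1), (1, 5, 0, 1),
  (1, 7, 0, 1), (2, 1, 0, 1), (4, 5, 0, -1), (5, 3, 0, 1), (6, 1, 0, -1), (6, 2, 0, -1),
  (7, 4, 0, -1), (7, 5, 0, 1)]

theorem exists_regular_unip (F : Type*) [Field F] : ∃ u : autZ F, (autMat F u - 1) ^ 7 = 0 ∧
    ((autMat F u - 1) ^ 3 : Matrix (Fin 8) (Fin 8) F) 0 3 = -1 ∧
      ((autMat F u - 1) ^ 4 : Matrix (Fin 8) (Fin 8) F) 2 3 = 3 ∧
      ((autMat F u - 1) ^ 5 : Matrix (Fin 8) (Fin 8) F) 2 3 = 2 := by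
  refine ⟨g2y (r := 7) (by norm_num) 1 * g2y (r := 6) (by norm_num) 1, ?_⟩
  have h1 : autMat F (g2y (r := 7) (by norm_num) 1 * g2y (r := 6) (by norm_num) 1) - 1 =
      evT 1 g2N := by
    have : ∀ L : List (Tm 8), evT (1 : F) (L.map fun e => (e.1, e.2.1, 0, e.2.2.2)) = evT 1 L :=
      fun L => by simp [evT, Function.comp_def]
    rw [map_mul, g2y, g2y, autMat_autOfMat, autMat_autOfMat, ← evT_mulT, sub_eq_iff_eq_add,
      ← evT_id (1 : F), ← evT_append, ← this]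
    exact eqT_sound (by decide +kernel) 1
  have h3 : evT (1 : F) g2N ^ 3 = evT 1 [(0, 3, 0, -1), (1, 3, 0, 3), (1, 5, 0, 2), (2, 3, 0, 1),
      (2, 4, 0, -2), (2, 5, 0, 3), (6, 0, 0, 1), (6, 3, 0, -1), (6, 4, 0, 3), (6, 5, 0, -4),
      (6, 7, 0, -1), (7, 3, 0, 1)] := by
    rw [pow_three, ← evT_mulT, ← evT_mulT]
    exact eqT_sound (by decide +kernel) 1
  have h4 : evT (1 : F) g2N ^ 4 = evT 1 [(1, 3, 0, 2), (2, 3, 0, 3), (2, 5, 0, 2), (6, 3, 0, -4),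
      (6, 4, 0, 2), (6, 5, 0, -5)] := by
    rw [pow_succ, h3, ← evT_mulT]
    exact eqT_sound (by decide +kernel) 1
  have h5 : evT (1 : F) g2N ^ 5 = evT 1 [(2, 3, 0, 2), (6, 3, 0, -5), (6, 5, 0, -2)] := by
    rw [pow_succ, h4, ← evT_mulT]
    exact eqT_sound (by decide +kernel) 1
  have h7 : evT (1 : F) g2N ^ 7 = evT 1 [] := by
    rw [pow_succ, pow_succ, h5, ← evT_mulT, ← evT_mulT]
    exact eqT_sound (by decide +kernel) 1
  rw [h1, h3, h4, h5, h7]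
  simp

theorem orderOf_unip {F : Type*} [Field F] {p : ℕ} [Fact p.Prime] [CharP F p] {u : autZ F} {n : ℕ}
    (h1 : (autMat F u - 1) ^ p ^ n ≠ 0) (h2 : (autMat F u - 1) ^ p ^ (n + 1) = 0) :
    orderOf u = p ^ (n + 1) := by
  have key : ∀ i, u ^ p ^ i = 1 ↔ (autMat F u - 1) ^ p ^ i = 0 := fun i => by
    rw [sub_pow_char_pow_of_commute _ _ (Commute.one_right _), one_pow, sub_eq_zero, ← map_pow,
      map_eq_one_iff _ autMat_injective]
  exact orderOf_eq_prime_pow (mt (key _).1 h1) ((key _).2 h2)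

theorem g2_natAbs {q : ℕ} (hq : 1 ≤ q) : ((q : ℤ) ^ 2 + q + 1).natAbs = q ^ 2 + q + 1 ∧
    ((q : ℤ) ^ 2 - 1).natAbs = q ^ 2 - 1 ∧ ((q : ℤ) - 1).natAbs = q - 1 ∧
    ((-q : ℤ) ^ 2 + -q + 1).natAbs = q ^ 2 - q + 1 ∧ ((-q : ℤ) - 1).natAbs = q + 1 ∧
    (¬ 3 ∣ q → ¬ (3 : ℤ) ∣ q - 1 → (3 : ℤ) ∣ -q - 1) := by
  have hq2 : q ≤ q ^ 2 := Nat.le_self_pow two_ne_zero _
  rw [neg_sq, ← Nat.cast_pow]
  omega

/-- All the candidates are element orders of `G₂(q)`. -/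
theorem exists_orderOf_eq_g2Ord {F : Type*} [Field F] [Fintype F] {p k : ℕ} (hp : p.Prime)
    (hF : Fintype.card F = p ^ k) {N : ℕ} (hN : G2Ord p (p ^ k) N) :
    ∃ g : autZ F, orderOf g = N := by
  have := Fact.mk hp
  have : CharP F p := charP_of_card_eq_prime_pow hF
  have hk : k ≠ 0 := by rintro rfl; exact absurd hF (by simpa using Fintype.one_lt_card.ne')
  have hq : (p : ℤ) ∣ (Fintype.card F : ℕ) := by rw [hF]; exact_mod_cast dvd_pow_self p hk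
  obtain ⟨e1, e2, e3, e4, e5, e6⟩ := g2_natAbs (Fintype.card_pos (α := F))
  let K := FiniteField.Extension F p 2
  have := Fintype.ofFinite K
  have hK : Fintype.card K = Fintype.card F ^ 2 := by
    rw [← Nat.card_eq_fintype_card, ← Nat.card_eq_fintype_card, FiniteField.natCard_extension]
  have : CharP K p := charP_of_card_eq_prime_pow (by rw [hK, hF, ← pow_mul])
  obtain ⟨ψ, hψ⟩ := exists_SU_autZ hK
  obtain ⟨a1, a2, a3, a4⟩ := models_three (models_sl (n := Fin 3) (F := F) (AlgebraicClosure F) p) hq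
  obtain ⟨b1, -, b3, b4⟩ := models_three (models_su (AlgebraicClosure K) p hK 3) (dvd_neg.2 hq)
  have ta : ∀ {N}, (∃ g : SpecialLinearGroup (Fin 3) F, orderOf g = N) → ∃ g : autZ F, orderOf g = N :=
    fun ⟨g, hg⟩ => ⟨_, (orderOf_injective _ stdHom_injective g).trans hg⟩
  have tb : ∀ {N}, (∃ g : SU 3 K (Fintype.card F), orderOf g = N) → ∃ g : autZ F, orderOf g = N :=
    fun ⟨g, hg⟩ => ⟨_, (orderOf_injective _ hψ g).trans hg⟩
  obtain ⟨u, u7, u3, u4, u5⟩ := exists_regular_unip F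
  rw [← hF] at hN
  rcases hN with rfl | rfl | rfl | rfl | rfl | ⟨rfl, rfl | rfl⟩ | ⟨rfl | rfl, rfl⟩
  · exact ta (e2 ▸ a2)
  · exact ta (e1 ▸ a1)
  · exact tb (e4 ▸ b1)
  · exact ta (e3 ▸ a3)
  · exact tb (e5 ▸ b3)
  · refine ⟨u, orderOf_unip (p := 2) (n := 2) (fun h => ?_) (pow_eq_zero_of_le (by norm_num) u7)⟩
    rw [show (autMat F u - 1) ^ 4 = 0 from h] at u4
    exact absurd ((CharP.cast_eq_zero_iff F 2 3).1 u4.symm) (by norm_num)
  · have : ¬ 3 ∣ Fintype.card F := fun h =>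
      absurd (Nat.prime_three.dvd_of_dvd_pow (hF ▸ h)) (by norm_num)
    by_cases h : (3 : ℤ) ∣ Fintype.card F - 1
    · exact ta (a4 rfl h)
    · exact tb (b4 rfl (e6 this h))
  · refine ⟨u, orderOf_unip (p := 3) (n := 1) (fun h => ?_) (pow_eq_zero_of_le (by norm_num) u7)⟩
    rw [show (autMat F u - 1) ^ 3 = 0 from h] at u3
    simp at u3
  · refine ⟨u, orderOf_unip (p := 5) (n := 1) (fun h => ?_) (pow_eq_zero_of_le (by norm_num) u7)⟩
    rw [show (autMat F u - 1) ^ 5 = 0 from h] at u5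
    exact absurd ((CharP.cast_eq_zero_iff F 5 2).1 u5.symm) (by norm_num)

/-- The element orders of the Chevalley group `G₂(q)`. -/
theorem mem_range_orderOf_chevG2 {F : Type*} [Field F] [Fintype F] {p k : ℕ} (hp : p.Prime)
    (hF : Fintype.card F = p ^ k) {n : ℕ} :
    n ∈ Set.range (orderOf : chevG2.group F → ℕ) ↔ ∃ N, G2Ord p (p ^ k) N ∧ n ∣ N := by
  obtain ⟨e⟩ := nonempty_g2Iso F
  constructor
  · rintro ⟨g, rfl⟩
    rw [← e.orderOf_eq]
    exact exists_g2Ord hp hF _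
  · rintro ⟨N, hN, h⟩
    obtain ⟨g, rfl⟩ := exists_orderOf_eq_g2Ord hp hF hN
    exact exists_orderOf_eq_of_dvd (e.symm g) (by rwa [e.symm.orderOf_eq])

end Cfsg.Agent.H29
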