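import Mathlib

/-! Central extensions of alternating groups by groups of exponent two: lifts of 3-cycles. -/

set_option autoImplicit false

namespace Cfsg.Agent.H29

open Equiv Equiv.Perm

/-- A group mapping onto the alternating group with central kernel of exponent two. -/
structure AltCov (G : Type*) [Group G] (α : Type*) [Fintype α] [DecidableEq α] where
  π : G →* Perm α
  even : ∀ g, sign (π g) = 1
  surj : ∀ c, sign c = 1 → ∃ g, π g = c
  cen : ∀ z, π z = 1 → z * z = 1 ∧ ∀ g, g * z = z * g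

/-- The 3-cycle `a ↦ b ↦ c ↦ a`. -/
def cyc {α : Type*} [DecidableEq α] (a b c : α) : Perm α := swap a b * swap b c

/-- Three distinct points. -/
def D3 {α : Type*} (a b c : α) : Prop := a ≠ b ∧ a ≠ c ∧ b ≠ c

section cyc

variable {α : Type*} [DecidableEq α] {a b c : α}

theorem cyc_fst (h : D3 a b c) : cyc a b c a = b := by
  simp [cyc, swap_apply_of_ne_of_ne h.1 h.2.1]

theorem cyc_snd (h : D3 a b c) : cyc a b c b = c := by
  simp [cyc, swap_apply_of_ne_of_ne h.2.1.symm h.2.2.symm]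

theorem cyc_thd (a b c : α) : cyc a b c c = a := by simp [cyc]

theorem cyc_of_ne {i : α} (h1 : i ≠ a) (h2 : i ≠ b) (h3 : i ≠ c) : cyc a b c i = i := by
  simp [cyc, swap_apply_of_ne_of_ne h2 h3, swap_apply_of_ne_of_ne h1 h2]

omit [DecidableEq α] in
theorem D3.rot (h : D3 a b c) : D3 b c a := ⟨h.2.2, h.1.symm, h.2.1.symm⟩

omit [DecidableEq α] in
theorem D3.swap (h : D3 a b c) : D3 b a c := ⟨h.1.symm, h.2.2, h.2.1⟩

theorem perm_ext3 (a b c : α) {f g : Perm α} (h1 : f a = g a) (h2 : f b = g b) (h3 : f c = g c)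
    (h4 : ∀ i, i ≠ a → i ≠ b → i ≠ c → f i = g i) : f = g := by
  ext i
  by_cases ha : i = a
  · rw [ha, h1]
  by_cases hb : i = b
  · rw [hb, h2]
  by_cases hc : i = c
  · rw [hc, h3]
  exact h4 i ha hb hc

theorem cyc_rot (h : D3 a b c) : cyc b c a = cyc a b c :=
  perm_ext3 a b c (by rw [cyc_thd, cyc_fst h]) (by rw [cyc_fst h.rot, cyc_snd h])
    (by rw [cyc_snd h.rot, cyc_thd]) fun i h1 h2 h3 => by rw [cyc_of_ne h1 h2 h3, cyc_of_ne h2 h3 h1]

theorem cyc_mul_swap (h : D3 a b c) : cyc a b c * cyc b a c = 1 :=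
  perm_ext3 a b c (by rw [Perm.mul_apply, cyc_snd h.swap, cyc_thd]; rfl)
    (by rw [Perm.mul_apply, cyc_fst h.swap, cyc_fst h]; rfl)
    (by rw [Perm.mul_apply, cyc_thd, cyc_snd h]; rfl) fun i h1 h2 h3 => by
      rw [Perm.mul_apply, cyc_of_ne h2 h1 h3, cyc_of_ne h1 h2 h3]; rfl

theorem cyc_pow (h : D3 a b c) : cyc a b c ^ 3 = 1 :=
  perm_ext3 a b c (by simp [pow_succ, cyc_fst h, cyc_snd h, cyc_thd])
    (by simp [pow_succ, cyc_fst h, cyc_snd h, cyc_thd])
    (by simp [pow_succ, cyc_fst h, cyc_snd h, cyc_thd]) fun i h1 h2 h3 => by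
      simp [pow_succ, cyc_of_ne h1 h2 h3]

theorem cyc_conj (g : Perm α) (a b c : α) : g * cyc a b c * g⁻¹ = cyc (g a) (g b) (g c) := by
  rw [cyc, cyc, swap_apply_apply, swap_apply_apply]; group

theorem sign_cyc [Fintype α] (h : D3 a b c) : sign (cyc a b c) = 1 := by
  rw [cyc, map_mul, sign_swap h.1, sign_swap h.2.2]; simp

theorem cyc_mul_sq {d : α} (h : D3 a b c) (h' : D3 a b d) (hcd : c ≠ d) :
    cyc a b c * cyc a b d * (cyc a b c * cyc a b d) = 1 := by
  have e1 : cyc a b c d = d := cyc_of_ne h'.2.1.symm h'.2.2.symm hcd.symm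
  have e2 : cyc a b d c = c := cyc_of_ne h.2.1.symm h.2.2.symm hcd
  ext i
  by_cases hd : i = d
  · simp [hd, cyc_thd, cyc_fst h, cyc_snd h', e1]
  revert i
  intro i hd
  by_cases ha : i = a
  · simp [ha, cyc_thd, cyc_fst h', cyc_snd h, e2]
  by_cases hb : i = b
  · simp [hb, cyc_thd, cyc_fst h, cyc_snd h', e1]
  by_cases hc : i = c
  · simp [hc, cyc_thd, cyc_fst h', cyc_snd h, e2]
  simp [cyc_of_ne ha hb hc, cyc_of_ne ha hb hd]

theorem D3.map {β : Type*} {a b c : β} {γ : Type*} {f : β → γ} (hf : Function.Injective f)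
    (h : D3 a b c) : D3 (f a) (f b) (f c) := ⟨hf.ne h.1, hf.ne h.2.1, hf.ne h.2.2⟩

end cyc

namespace AltCov

variable {G : Type*} [Group G] {α : Type*} [Fintype α] [DecidableEq α] (C : AltCov G α)

theorem uniq {q : ℕ} (hq : Odd q) {g h : G} (hg : g ^ q = 1) (hh : h ^ q = 1)
    (e : C.π g = C.π h) : g = h := by
  obtain ⟨h1, h2⟩ := C.cen (g⁻¹ * h) (by rw [map_mul, map_inv, e, inv_mul_cancel])
  have h3 : (g * (g⁻¹ * h)) ^ q = 1 := by rwa [mul_inv_cancel_left]
  obtain ⟨m, rfl⟩ := hq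
  rw [Commute.mul_pow (h2 g), hg, one_mul, pow_succ, pow_mul, pow_two, h1, one_pow, one_mul] at h3
  exact inv_mul_eq_one.1 h3

theorem exists_lift {q : ℕ} (hq : Odd q) {c : Perm α} (hc : sign c = 1) (h : c ^ q = 1) :
    ∃ g, C.π g = c ∧ g ^ q = 1 := by
  obtain ⟨g, rfl⟩ := C.surj c hc
  have h0 : C.π (g ^ q) = 1 := by rw [map_pow, h]
  obtain ⟨h1, h2⟩ := C.cen _ h0
  refine ⟨g * g ^ q, by rw [map_mul, h0, mul_one], ?_⟩
  obtain ⟨m, hm⟩ := hq
  rw [Commute.mul_pow (h2 g)]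
  nth_rewrite 3 [hm]
  rw [pow_succ, pow_mul, pow_two, h1, one_pow, one_mul, h1]

open Classical in
/-- The lift of odd order. -/
noncomputable def lf (q : ℕ) (c : Perm α) : G :=
  if h : ∃ g, C.π g = c ∧ g ^ q = 1 then h.choose else 1

theorem lf_pow (q : ℕ) (c : Perm α) : C.lf q c ^ q = 1 := by
  unfold lf
  split_ifs with h
  · exact h.choose_spec.2
  · exact one_pow q

theorem π_lf {q : ℕ} (hq : Odd q) {c : Perm α} (hc : sign c = 1) (h : c ^ q = 1) :
    C.π (C.lf q c) = c := by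
  have := C.exists_lift hq hc h
  unfold lf
  rw [dif_pos this]
  exact this.choose_spec.1

theorem eq_lf {q : ℕ} (hq : Odd q) {g : G} (hg : g ^ q = 1) : g = C.lf q (C.π g) :=
  C.uniq hq hg (C.lf_pow _ _) (C.π_lf hq (C.even g) (by rw [← map_pow, hg, map_one])).symm

/-- The lift of a 3-cycle. -/
noncomputable def x (a b c : α) : G := C.lf 3 (cyc a b c)

variable {a b c d : α}

theorem x_pow (a b c : α) : C.x a b c ^ 3 = 1 := C.lf_pow _ _

theorem π_x (h : D3 a b c) : C.π (C.x a b c) = cyc a b c :=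
  C.π_lf (by decide) (sign_cyc h) (cyc_pow h)

theorem conj_x (g : G) (h : D3 a b c) :
    g * C.x a b c * g⁻¹ = C.x (C.π g a) (C.π g b) (C.π g c) :=
  C.uniq (q := 3) (by decide) (by rw [conj_pow, x_pow, mul_one, mul_inv_cancel]) (C.x_pow _ _ _)
    (by rw [map_mul, map_mul, map_inv, C.π_x h, cyc_conj, C.π_x (h.map (C.π g).injective)])

theorem mul_x (g : G) (h : D3 a b c) :
    g * C.x a b c = C.x (C.π g a) (C.π g b) (C.π g c) * g := by
  rw [← C.conj_x g h, inv_mul_cancel_right]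

theorem x_rot (h : D3 a b c) : C.x b c a = C.x a b c := by rw [x, x, cyc_rot h]

theorem x_inv (h : D3 a b c) : (C.x a b c)⁻¹ = C.x b a c :=
  C.uniq (q := 3) (by decide) (by rw [inv_pow, x_pow, inv_one]) (C.x_pow _ _ _)
    (by rw [map_inv, C.π_x h, C.π_x h.swap, inv_eq_iff_mul_eq_one, cyc_mul_swap h])

theorem x_mul_swap (h : D3 a b c) : C.x a b c * C.x b a c = 1 := by
  rw [← C.x_inv h, mul_inv_cancel]

theorem x_mul_self (h : D3 a b c) : C.x a b c * C.x a b c = C.x b a c := by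
  rw [← C.x_inv h, eq_inv_iff_mul_eq_one, ← C.x_pow a b c, pow_three']

theorem comm_x {g : G} (h : D3 a b c) (h1 : C.π g a = a) (h2 : C.π g b = b) (h3 : C.π g c = c) :
    g * C.x a b c = C.x a b c * g := by rw [C.mul_x g h, h1, h2, h3]

theorem x_step (h : D3 a b c) (h' : D3 a b d) (hcd : c ≠ d) :
    C.x a b c * C.x a b d * (C.x a b c)⁻¹ = C.x b c d := by
  rw [C.conj_x _ h', C.π_x h, cyc_fst h, cyc_snd h, cyc_of_ne h'.2.1.symm h'.2.2.symm hcd.symm]

/-- The 3-cycles through two fixed points generate. -/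
theorem mem_of_base {M : Subgroup G} {S : Set α} (hab : a ≠ b)
    (h : ∀ i ∈ S, i ≠ a → i ≠ b → C.x a b i ∈ M) :
    ∀ i ∈ S, ∀ j ∈ S, ∀ k ∈ S, D3 i j k → C.x i j k ∈ M := by
  have step : ∀ {a b c d : α}, D3 a b c → D3 a b d → c ≠ d → C.x a b c ∈ M → C.x a b d ∈ M →
      C.x b c d ∈ M := fun h h' hcd h1 h2 =>
    C.x_step h h' hcd ▸ M.mul_mem (M.mul_mem h1 h2) (M.inv_mem h1)
  have inv : ∀ {a b c : α}, D3 a b c → C.x a b c ∈ M → C.x b a c ∈ M := fun h h1 =>
    C.x_inv h ▸ M.inv_mem h1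
  have p1 : ∀ i ∈ S, ∀ j ∈ S, D3 a i j → C.x a i j ∈ M := fun i hi j hj hd => by
    by_cases h1 : i = b
    · subst h1; exact h j hj hd.2.1.symm hd.2.2.symm
    have h3 : D3 a b i := ⟨hab, hd.1, Ne.symm h1⟩
    by_cases h2 : j = b
    · subst h2
      rw [C.x_rot h3.swap]
      exact inv h3 (h i hi hd.1.symm h1)
    have h4 : D3 a b j := ⟨hab, hd.2.1, Ne.symm h2⟩
    exact step h3.swap h4.swap hd.2.2 (inv h3 (h i hi hd.1.symm h1)) (inv h4 (h j hj hd.2.1.symm h2))
  intro i hi j hj k hk hd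
  by_cases h1 : i = a
  · subst h1; exact p1 j hj k hk hd
  by_cases h2 : j = a
  · subst h2; rw [← C.x_rot hd]; exact p1 k hk i hi hd.rot
  by_cases h3 : k = a
  · subst h3; rw [C.x_rot hd.rot.rot]; exact p1 i hi j hj hd.rot.rot
  have h4 : D3 a i j := ⟨Ne.symm h1, Ne.symm h2, hd.1⟩
  have h5 : D3 a i k := ⟨Ne.symm h1, Ne.symm h3, hd.2.1⟩
  exact step h4 h5 hd.2.2 (p1 i hi j hj h4) (p1 i hi k hk h5)

theorem exists_map_finset {S T : Finset α} (h : S.card = T.card) (h2 : 2 ≤ S.card) :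
    ∃ g : G, S.map (C.π g).toEmbedding = T := by
  obtain ⟨σ, hσ⟩ := Perm.exists_map_finset_eq S T h
  rcases Int.units_eq_one_or (sign σ) with h1 | h1
  · obtain ⟨g, rfl⟩ := C.surj σ h1
    exact ⟨g, hσ⟩
  · obtain ⟨s, hs, t, ht, hst⟩ := Finset.one_lt_card.1 h2
    obtain ⟨g, hg⟩ := C.surj (σ * swap s t) (by rw [map_mul, h1, sign_swap hst]; simp)
    refine ⟨g, ?_⟩
    rw [hg, ← hσ]
    have h3 : S.map (swap s t).toEmbedding = S := by
      refine Finset.eq_of_subset_of_card_le (fun i hi => ?_) (by simp)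
      obtain ⟨j, hj, rfl⟩ := Finset.mem_map.1 hi
      simp only [coe_toEmbedding, swap_apply_def]
      split_ifs <;> assumption
    conv_rhs => rw [← h3, Finset.map_map]
    rfl

theorem exists_map_emb {m : ℕ} (hm : m + 2 ≤ Fintype.card α) (u v : Fin m ↪ α) :
    ∃ g : G, ∀ i, C.π g (u i) = v i := by
  have := alternatingGroup.isMultiplyPretransitive α
  have h1 : MulAction.IsMultiplyPretransitive (alternatingGroup α) α m :=
    MulAction.isMultiplyPretransitive_of_le (n := Nat.card α - 2)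
      (by rw [Nat.card_eq_fintype_card]; omega) (Nat.sub_le _ _)
  obtain ⟨σ, hσ⟩ := MulAction.isMultiplyPretransitive_iff.1 h1 u v
  obtain ⟨g, hg⟩ := C.surj σ σ.2
  exact ⟨g, fun i => by rw [hg, ← hσ]; rfl⟩

theorem ker_le (h5 : 5 ≤ Fintype.card α) {N : Subgroup G} [hN : N.Normal]
    (hx : C.x a b c ∉ N) {g : G} (hg : g ∈ N) : C.π g = 1 := by
  have := alternatingGroup.isSimpleGroup (α := α) (by rwa [Nat.card_eq_fintype_card])
  let f : G →* alternatingGroup α := C.π.codRestrict _ C.even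
  have hf : Function.Surjective f := fun σ => by
    obtain ⟨g, hg⟩ := C.surj σ σ.2
    exact ⟨g, Subtype.ext hg⟩
  rcases (hN.map f hf).eq_bot_or_eq_top with h1 | h1
  · have h2 : f g ∈ N.map f := ⟨g, hg, rfl⟩
    rw [h1] at h2
    exact congrArg Subtype.val (Subgroup.mem_bot.1 h2)
  · obtain ⟨y, hy, h2⟩ : f (C.x a b c) ∈ N.map f := h1 ▸ trivial
    have h3 : C.π y = C.π (C.x a b c) := congrArg Subtype.val h2
    have h4 : C.π (y ^ 3) = 1 := by rw [map_pow, h3, ← map_pow, x_pow, map_one]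
    refine absurd ?_ hx
    rw [← C.uniq (q := 3) (by decide) (g := y ^ 4) (h := C.x a b c) ?_ (C.x_pow _ _ _)
      (by rw [pow_succ, map_mul, h4, one_mul, h3])]
    · exact N.pow_mem hy 4
    · have h6 := (C.cen _ h4).1
      calc (y ^ 4) ^ 3 = (y ^ 3 * y ^ 3) ^ 2 := by group
        _ = 1 := by rw [h6, one_pow]

section res

variable {β : Type*} [Fintype β] [DecidableEq β] (f : β ↪ α)

/-- Extension of permutations along an embedding. -/
noncomputable def ext : Perm β →* Perm α := extendDomainHom f.toEquivRange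

theorem ext_apply (σ : Perm β) (i : β) : ext f σ (f i) = f (σ i) :=
  viaFintypeEmbedding_apply_image σ f i

theorem ext_of_notMem (σ : Perm β) {i : α} (h : i ∉ Set.range f) : ext f σ i = i :=
  viaFintypeEmbedding_apply_notMem_range σ f h

theorem sign_ext (σ : Perm β) : sign (ext f σ) = sign σ := viaFintypeEmbedding_sign σ f

theorem ext_inj : Function.Injective (ext f) := extendDomainHom_injective _

theorem ext_cyc {a b c : β} (h : D3 a b c) : ext f (cyc a b c) = cyc (f a) (f b) (f c) := by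
  have h' := h.map f.injective
  refine perm_ext3 (f a) (f b) (f c) (by rw [ext_apply, cyc_fst h, cyc_fst h'])
    (by rw [ext_apply, cyc_snd h, cyc_snd h']) (by rw [ext_apply, cyc_thd, cyc_thd])
    fun i h1 h2 h3 => ?_
  rw [cyc_of_ne h1 h2 h3]
  by_cases h4 : i ∈ Set.range f
  · obtain ⟨i, rfl⟩ := h4
    rw [ext_apply, cyc_of_ne (mt (congrArg f) h1) (mt (congrArg f) h2) (mt (congrArg f) h3)]
  · exact ext_of_notMem f _ h4

/-- The preimage of the permutations supported on the range of an embedding. -/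
noncomputable def sub : Subgroup G := (ext f).range.comap C.π

/-- The restricted cover. -/
noncomputable def res : AltCov (C.sub f) β where
  π := (MonoidHom.ofInjective (ext_inj f)).symm.toMonoidHom.comp
    ((C.π.comp (C.sub f).subtype).codRestrict _ fun g => g.2)
  even g := by
    rw [← sign_ext f, ← C.even g]
    exact congrArg sign (MonoidHom.apply_ofInjective_symm (ext_inj f) _)
  surj σ hσ := by
    obtain ⟨g, hg⟩ := C.surj (ext f σ) (by rw [sign_ext, hσ])
    exact ⟨⟨g, σ, hg.symm⟩, ext_inj f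
      ((MonoidHom.apply_ofInjective_symm (ext_inj f) _).trans hg)⟩
  cen z hz := by
    have h1 : C.π z = 1 := by
      rw [← map_one (ext f), ← hz]
      exact (MonoidHom.apply_ofInjective_symm (ext_inj f) ⟨C.π z, z.2⟩).symm
    exact ⟨Subtype.ext (C.cen _ h1).1, fun g => Subtype.ext ((C.cen _ h1).2 g)⟩

theorem ext_res (g : C.sub f) : ext f ((C.res f).π g) = C.π g :=
  MonoidHom.apply_ofInjective_symm (ext_inj f) _

theorem sub_fix (g : C.sub f) {i : α} (h : i ∉ Set.range f) : C.π g i = i := by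
  rw [← C.ext_res f g, ext_of_notMem f _ h]

theorem res_x {a b c : β} (h : D3 a b c) :
    ((C.res f).x a b c : G) = C.x (f a) (f b) (f c) :=
  C.uniq (q := 3) (by decide) (congrArg Subtype.val ((C.res f).x_pow a b c)) (C.x_pow _ _ _)
    (by rw [← C.ext_res f, (C.res f).π_x h, ext_cyc f h, C.π_x (h.map f.injective)])

end res

end AltCov

end Cfsg.Agent.H29
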