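import Mathlib
import Cfsg.Agent.H29.AltCov

/-! Modules for covers of alternating groups on which disjoint 3-cycles have orthogonal commutator
spaces. -/

set_option autoImplicit false

namespace Cfsg.Agent.H29

open Equiv Equiv.Perm Module

variable {G : Type*} [Group G] {k : Type*} [Field k] {V : Type*} [AddCommGroup V] [Module k V]

theorem rep_mul (ρ : Representation k G V) (g h : G) (v : V) : ρ (g * h) v = ρ g (ρ h v) := by
  rw [map_mul]; rfl

theorem rep_inj (ρ : Representation k G V) (g : G) : Function.Injective (ρ g) := fun v w h => by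
  have := congrArg (ρ g⁻¹) h
  rwa [← rep_mul, ← rep_mul, inv_mul_cancel, map_one] at this

/-- The stabiliser of a vector. -/
def stb (ρ : Representation k G V) (v : V) : Subgroup G where
  carrier := {g | ρ g v = v}
  mul_mem' {g h} hg hh := (rep_mul ρ g h v).trans ((congrArg (ρ g) hh).trans hg)
  one_mem' := by change ρ 1 v = v; rw [map_one]; rfl
  inv_mem' {g} hg := rep_inj ρ g (by rw [← rep_mul, mul_inv_cancel, map_one]; exact hg.symm)

namespace AltCov

variable {α : Type*} [Fintype α] [DecidableEq α] (C : AltCov G α) (ρ : Representation k G V)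

/-- The vectors fixed by the 3-cycles supported on `S`. -/
def Fx (S : Finset α) : Submodule k V where
  carrier := {v | ∀ i ∈ S, ∀ j ∈ S, ∀ l ∈ S, D3 i j l → ρ (C.x i j l) v = v}
  add_mem' hv hw i hi j hj l hl h := by rw [map_add, hv i hi j hj l hl h, hw i hi j hj l hl h]
  zero_mem' _ _ _ _ _ _ _ := map_zero _
  smul_mem' c v hv i hi j hj l hl h := by rw [map_smul, hv i hi j hj l hl h]

/-- The commutator space of a 3-cycle. -/
noncomputable def Wx (a b c : α) : Submodule k V := LinearMap.range (ρ (C.x a b c) - 1)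

variable {C ρ} {S T : Finset α} {a b c d : α} {v : V}

theorem Fx_anti (h : S ⊆ T) : C.Fx ρ T ≤ C.Fx ρ S :=
  fun _ hv i hi j hj l hl => hv i (h hi) j (h hj) l (h hl)

theorem mem_Fx_of_base (hab : a ≠ b) (h : ∀ i ∈ S, i ≠ a → i ≠ b → ρ (C.x a b i) v = v) :
    v ∈ C.Fx ρ S := C.mem_of_base (M := stb ρ v) (S := (S : Set α)) hab h

theorem mem_Fx_union {U : Finset α} (h1 : v ∈ C.Fx ρ S) (h2 : v ∈ C.Fx ρ T) (hab : a ≠ b)
    (ha : a ∈ S) (hb : b ∈ S) (ha' : a ∈ T) (hb' : b ∈ T) (hU : ∀ i ∈ U, i ∈ S ∨ i ∈ T) :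
    v ∈ C.Fx ρ U :=
  mem_Fx_of_base hab fun i hi h3 h4 => (hU i hi).elim
    (fun h => h1 a ha b hb i h ⟨hab, h3.symm, h4.symm⟩)
    fun h => h2 a ha' b hb' i h ⟨hab, h3.symm, h4.symm⟩

theorem smul_mem_Fx (g : G) (h : v ∈ C.Fx ρ S) (hT : ∀ i, C.π g i ∈ T → i ∈ S) :
    ρ g v ∈ C.Fx ρ T := by
  intro i hi j hj l hl hd
  obtain ⟨i, rfl⟩ := (C.π g).surjective i
  obtain ⟨j, rfl⟩ := (C.π g).surjective j
  obtain ⟨l, rfl⟩ := (C.π g).surjective l
  have hd' : D3 i j l := ⟨mt (congrArg _) hd.1, mt (congrArg _) hd.2.1, mt (congrArg _) hd.2.2⟩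
  rw [← rep_mul, ← C.mul_x g hd', rep_mul, h i (hT i hi) j (hT j hj) l (hT l hl) hd']

theorem ker_eq_Fx (h : D3 a b c) : LinearMap.ker (ρ (C.x a b c) - 1) = C.Fx ρ {a, b, c} := by
  ext v
  rw [LinearMap.mem_ker, LinearMap.sub_apply, sub_eq_zero]
  refine ⟨fun h1 => mem_Fx_of_base h.1 fun i hi h2 h3 => ?_, fun h1 => h1 a (by simp) b (by simp) c
    (by simp) h⟩
  obtain rfl : i = c := by simpa [h2, h3] using hi
  exact h1

theorem mem_Wx (a b c : α) (v : V) : ρ (C.x a b c) v - v ∈ C.Wx ρ a b c := ⟨v, rfl⟩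

theorem sum_eq_zero_of_mem_Wx (h : D3 a b c) (hv : v ∈ C.Wx ρ a b c) :
    v + ρ (C.x a b c) v + ρ (C.x b a c) v = 0 := by
  obtain ⟨w, rfl⟩ := hv
  simp only [LinearMap.sub_apply, End.one_apply, map_sub, ← rep_mul, C.x_mul_self h,
    C.x_mul_swap h.swap, map_one]
  abel

theorem smul_mem_Wx (g : G) (h : D3 a b c) (hv : v ∈ C.Wx ρ a b c) :
    ρ g v ∈ C.Wx ρ (C.π g a) (C.π g b) (C.π g c) := by
  obtain ⟨w, rfl⟩ := hv
  exact ⟨ρ g w, by simp only [LinearMap.sub_apply, End.one_apply, map_sub, ← rep_mul, C.mul_x g h]⟩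

theorem Wx_swap (h : D3 a b c) : C.Wx ρ b a c ≤ C.Wx ρ a b c := by
  rintro _ ⟨w, rfl⟩
  refine ⟨-ρ (C.x b a c) w, ?_⟩
  simp only [LinearMap.sub_apply, End.one_apply, map_neg, ← rep_mul, C.x_mul_swap h, map_one]
  abel

variable [FiniteDimensional k V]

theorem finrank_Fx_le (h : S.card = T.card) (h2 : 2 ≤ S.card) :
    finrank k (C.Fx ρ S) ≤ finrank k (C.Fx ρ T) := by
  obtain ⟨g, rfl⟩ := C.exists_map_finset h h2
  refine LinearMap.finrank_le_finrank_of_injective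
    (f := (ρ g).restrict fun v hv => smul_mem_Fx g hv fun i hi => ?_) fun v w e =>
      Subtype.ext (rep_inj ρ g (congrArg Subtype.val e))
  exact (Finset.mem_map' _).1 hi

theorem finrank_Fx_eq (h : S.card = T.card) (h2 : 2 ≤ S.card) :
    finrank k (C.Fx ρ S) = finrank k (C.Fx ρ T) :=
  le_antisymm (finrank_Fx_le h h2) (finrank_Fx_le h.symm (h ▸ h2))

theorem finrank_insert_lt (h0 : C.Fx ρ Finset.univ = ⊥) (h2 : 2 ≤ S.card) (ha : a ∉ S)
    (h : C.Fx ρ S ≠ ⊥) : finrank k (C.Fx ρ (insert a S)) < finrank k (C.Fx ρ S) := by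
  by_contra h1
  obtain ⟨s, hs, t, ht, hst⟩ := Finset.one_lt_card.1 h2
  refine h (eq_bot_iff.2 fun v hv => h0 ▸ mem_Fx_of_base hst fun i _ h3 h4 => ?_)
  by_cases hi : i ∈ S
  · exact hv s hs t ht i hi ⟨hst, h3.symm, h4.symm⟩
  have h5 : C.Fx ρ (insert i S) = C.Fx ρ S := Submodule.eq_of_le_of_finrank_le
    (Fx_anti (Finset.subset_insert _ _)) ((not_lt.1 h1).trans (finrank_Fx_le
      (by rw [Finset.card_insert_of_notMem ha, Finset.card_insert_of_notMem hi])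
      (h2.trans (Finset.card_le_card (Finset.subset_insert _ _)))))
  rw [← h5] at hv
  exact hv s (by simp [hs]) t (by simp [ht]) i (by simp) ⟨hst, h3.symm, h4.symm⟩

theorem chain (h0 : C.Fx ρ Finset.univ = ⊥) (m : ℕ) : ∀ S T : Finset α, 2 ≤ S.card →
    T.card = S.card + m → C.Fx ρ T ≠ ⊥ → finrank k (C.Fx ρ T) + m ≤ finrank k (C.Fx ρ S) := by
  induction m with
  | zero => exact fun S T h1 h2 _ => finrank_Fx_le h2 (by omega)
  | succ m ih =>
    intro S T h1 h2 h3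
    obtain ⟨a, ha⟩ := Finset.card_pos.1 (show 0 < T.card by omega)
    have h4 := Finset.card_erase_of_mem ha
    have h5 : C.Fx ρ (T.erase a) ≠ ⊥ := fun h => h3 (eq_bot_iff.2
      (h ▸ Fx_anti (Finset.erase_subset _ _)))
    have h6 := finrank_insert_lt h0 (S := T.erase a) (by omega) (Finset.notMem_erase a T) h5
    rw [Finset.insert_erase ha] at h6
    have := ih S (T.erase a) h1 (by omega) h5
    omega

omit [Fintype α] in
theorem card_three (h : D3 a b c) : ({a, b, c} : Finset α).card = 3 :=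
  Finset.card_eq_three.2 ⟨a, b, c, h.1, h.2.1, h.2.2, rfl⟩

theorem finrank_Wx (h : D3 a b c) :
    finrank k (C.Wx ρ a b c) + finrank k (C.Fx ρ {a, b, c}) = finrank k V := by
  rw [← ker_eq_Fx h]
  exact LinearMap.finrank_range_add_finrank_ker _

theorem exists_two_notMem (S : Finset α) (h : S.card + 2 ≤ Fintype.card α) :
    ∃ s t, s ≠ t ∧ s ∉ S ∧ t ∉ S := by
  obtain ⟨s, hs, t, ht, hst⟩ := Finset.one_lt_card.1 (show 1 < Sᶜ.card by
    rw [Finset.card_compl]; omega)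
  exact ⟨s, t, hst, Finset.mem_compl.1 hs, Finset.mem_compl.1 ht⟩

theorem quad_aux {R : Type*} [Ring R] {N M : R} (hN : N * N = 0) (hM : M * M = 0)
    (h3 : (1 + N) ^ 3 = 1) (h3' : (1 + M) ^ 3 = 1)
    (h : (1 + N) * (1 + M) * ((1 + N) * (1 + M)) = 1) : N = -M := by
  have e1 : (1 + N) * (1 - N) = 1 := by noncomm_ring [hN]
  have e1' : (1 - N) * (1 + N) = 1 := by noncomm_ring [hN]
  have e2 : (1 + M) * (1 - M) = 1 := by noncomm_ring [hM]
  have e3 : (1 + N) * (1 + M) = (1 - M) * (1 - N) := by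
    calc _ = (1 + N) * (1 + M) * ((1 + N) * ((1 + M) * (1 - M)) * (1 - N)) := by
          rw [e2, mul_one, e1, mul_one]
      _ = (1 + N) * (1 + M) * ((1 + N) * (1 + M)) * ((1 - M) * (1 - N)) := by
          simp only [mul_assoc]
      _ = _ := by rw [h, one_mul]
  have e4 : (1 + M) * (1 + N) = (1 - N) * (1 - M) := by
    calc _ = ((1 - N) * (1 + N)) * (1 + M) * (1 + N) * ((1 + M) * (1 - M)) := by
          rw [e2, mul_one, e1', one_mul]
      _ = (1 - N) * ((1 + N) * (1 + M) * ((1 + N) * (1 + M))) * (1 - M) := by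
          simp only [mul_assoc]
      _ = _ := by rw [h, mul_one]
  have e5 : (1 + N) ^ 3 = 1 + 3 • N := by
    rw [pow_three]; noncomm_ring [hN]
  have e6 : (1 + M) ^ 3 = 1 + 3 • M := by
    rw [pow_three]; noncomm_ring [hM]
  rw [e5] at h3
  rw [e6] at h3'
  simp only [mul_add, add_mul, mul_sub, sub_mul, one_mul, mul_one] at e3 e4
  linear_combination (norm := abel1) e3 + e4 - h3 - h3'

omit [FiniteDimensional k V] in
theorem x_ne_one (hF : ∀ g, ρ g = 1 → C.π g = 1) (h : D3 a b c) : ρ (C.x a b c) ≠ 1 := fun h1 => by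
  have h2 := congrArg (fun f : Perm α => f a) (hF _ h1)
  simp only [C.π_x h, cyc_fst h] at h2
  exact h.1 h2.symm

omit [FiniteDimensional k V] in
theorem Wx_ne_bot (hF : ∀ g, ρ g = 1 → C.π g = 1) (h : D3 a b c) : C.Wx ρ a b c ≠ ⊥ := fun h1 =>
  x_ne_one hF h (sub_eq_zero.1 (LinearMap.range_eq_bot.1 h1))

omit [FiniteDimensional k V] in
theorem inf_Wx_le (h9 : 6 ≤ Fintype.card α)
    (hA : ∀ a b c, D3 a b c → C.Wx ρ a b c ≤ C.Fx ρ {a, b, c}ᶜ) (h : D3 a b c) (h' : D3 a b d)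
    (hcd : c ≠ d) : C.Wx ρ a b c ⊓ C.Wx ρ a b d ≤ C.Fx ρ {a, b}ᶜ := fun v hv => by
  obtain ⟨s, t, hst, hs, ht⟩ := exists_two_notMem ({a, b, c, d} : Finset α)
    (by have := Finset.card_le_four (a := a) (b := b) (c := c) (d := d); omega)
  simp only [Finset.mem_insert, Finset.mem_singleton, not_or] at hs ht
  refine mem_Fx_union (hA a b c h hv.1) (hA a b d h' hv.2) hst (by simp [hs]) (by simp [ht])
    (by simp [hs]) (by simp [ht]) fun i hi => ?_
  simp only [Finset.mem_compl, Finset.mem_insert, Finset.mem_singleton, not_or] at hi ⊢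
  by_cases h1 : i = c
  · exact Or.inr ⟨hi.1, hi.2, h1 ▸ hcd⟩
  · exact Or.inl ⟨hi.1, hi.2, h1⟩

omit [FiniteDimensional k V] in
theorem not_Wx_le (h9 : 6 ≤ Fintype.card α) (hF : ∀ g, ρ g = 1 → C.π g = 1)
    (h0 : C.Fx ρ Finset.univ = ⊥)
    (hA : ∀ a b c, D3 a b c → C.Wx ρ a b c ≤ C.Fx ρ {a, b, c}ᶜ) (h : D3 a b c) (h' : D3 a b d)
    (hcd : c ≠ d) : ¬ C.Wx ρ a b c ≤ C.Wx ρ a b d := fun hle => by
  have h1 : C.Wx ρ a b c ≤ C.Fx ρ {a, b}ᶜ := (le_inf le_rfl hle).trans (inf_Wx_le h9 hA h h' hcd)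
  have h2 : ∀ v ∈ C.Wx ρ a b c, ρ (C.x a b c) v ∈ C.Wx ρ a b c := fun v hv => by
    have := add_mem (mem_Wx (C := C) (ρ := ρ) a b c v) hv
    rwa [sub_add_cancel] at this
  have h3 : ∀ v, ρ (C.x a b c) (ρ (C.x a b c) (ρ (C.x a b c) v)) = v := fun v => by
    rw [← rep_mul, ← rep_mul, ← pow_three', x_pow, map_one]; rfl
  refine Wx_ne_bot hF h (eq_bot_iff.2 fun v hv => h0 ▸ ?_)
  have h4 : v ∈ C.Fx ρ {b, c}ᶜ := h3 v ▸ smul_mem_Fx _ (h1 (h2 _ (h2 _ hv))) fun i hi => by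
    simp only [Finset.mem_compl, Finset.mem_insert, Finset.mem_singleton, not_or, C.π_x h] at hi ⊢
    exact ⟨fun e => hi.1 (by rw [e, cyc_fst h]), fun e => hi.2 (by rw [e, cyc_snd h])⟩
  have h5 : v ∈ C.Fx ρ {c, a}ᶜ := by
    have h6 : ρ (C.x b a c) (ρ (C.x a b c) v) = v := by
      rw [← rep_mul, C.x_mul_swap h.swap, map_one]; rfl
    refine h6 ▸ smul_mem_Fx _ (h1 (h2 _ hv)) fun i hi => ?_
    simp only [Finset.mem_compl, Finset.mem_insert, Finset.mem_singleton, not_or,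
      C.π_x h.swap] at hi ⊢
    exact ⟨fun e => hi.1 (by rw [e, cyc_snd h.swap]), fun e => hi.2 (by rw [e, cyc_fst h.swap])⟩
  obtain ⟨s, t, hst, hs, ht⟩ := exists_two_notMem ({a, b, c} : Finset α)
    (by rw [card_three h]; omega)
  simp only [Finset.mem_insert, Finset.mem_singleton, not_or] at hs ht
  have h6 : v ∈ C.Fx ρ {b}ᶜ := mem_Fx_union (h1 hv) h4 hst (by simp [hs]) (by simp [ht])
    (by simp [hs]) (by simp [ht]) fun i hi => by
      by_cases h7 : i = a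
      · exact Or.inr (by simp [h7, h.1, h.2.1])
      · exact Or.inl (by simpa [h7] using hi)
  exact mem_Fx_union h6 h5 hst (by simp [hs]) (by simp [ht]) (by simp [hs]) (by simp [ht])
    fun i _ => by
      by_cases h7 : i = b
      · exact Or.inr (by simp [h7, h.1.symm, h.2.2])
      · exact Or.inl (by simpa using h7)

theorem sq_eq_zero_of_finrank (h9 : 5 ≤ Fintype.card α) (h : D3 a b c)
    (hw : finrank k (C.Wx ρ a b c) ≤ 1) : (ρ (C.x a b c) - 1) * (ρ (C.x a b c) - 1) = 0 := by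
  ext v
  obtain ⟨u, hu, e⟩ : ∃ u ∈ C.Wx ρ a b c, (ρ (C.x a b c) - 1) v = u := ⟨_, ⟨v, rfl⟩, rfl⟩
  rw [End.mul_apply, e, LinearMap.sub_apply, LinearMap.zero_apply, sub_eq_zero, End.one_apply]
  rcases eq_or_ne u 0 with rfl | hu0
  · exact map_zero _
  have h1 : ∀ w ∈ C.Wx ρ a b c, ∃ μ : k, μ • u = w := fun w hw' => by
    have : Nontrivial (C.Wx ρ a b c) := ⟨⟨u, hu⟩, 0, fun e => hu0 (congrArg Subtype.val e)⟩
    obtain ⟨μ, hμ⟩ := exists_smul_eq_of_finrank_eq_one (le_antisymm hw finrank_pos)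
      (x := (⟨u, hu⟩ : C.Wx ρ a b c)) (fun e => hu0 (congrArg Subtype.val e)) ⟨w, hw'⟩
    exact ⟨μ, congrArg Subtype.val hμ⟩
  obtain ⟨s, t, hst, hs, ht⟩ := exists_two_notMem ({a, b, c} : Finset α)
    (by rw [card_three h]; omega)
  simp only [Finset.mem_insert, Finset.mem_singleton, not_or] at hs ht
  obtain ⟨g, hg⟩ := C.surj (swap a b * swap s t) (by rw [map_mul, sign_swap h.1, sign_swap hst]; simp)
  have g1 : C.π g a = b := by simp [hg, swap_apply_of_ne_of_ne (Ne.symm hs.1) (Ne.symm ht.1)]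
  have g2 : C.π g b = a := by simp [hg, swap_apply_of_ne_of_ne (Ne.symm hs.2.1) (Ne.symm ht.2.1)]
  have g3 : C.π g c = c := by
    simp [hg, swap_apply_of_ne_of_ne (Ne.symm hs.2.2) (Ne.symm ht.2.2),
      swap_apply_of_ne_of_ne h.2.1.symm h.2.2.symm]
  obtain ⟨μ, hμ⟩ := h1 (ρ (C.x a b c) u) (by
    have := add_mem (mem_Wx (C := C) (ρ := ρ) a b c u) hu
    rwa [sub_add_cancel] at this)
  obtain ⟨ν, hν⟩ := h1 (ρ g u) (Wx_swap h (by have := smul_mem_Wx g h hu; rwa [g1, g2, g3] at this))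
  have h2 : C.x a b c * (g * C.x a b c) = g := by
    rw [C.mul_x g h, g1, g2, g3, ← mul_assoc, C.x_mul_swap h, one_mul]
  have h3 : (μ * ν * μ) • u = ν • u := by
    conv_rhs => rw [hν, ← h2, rep_mul, rep_mul, ← hμ, map_smul, ← hν, map_smul, map_smul, ← hμ]
    rw [mul_smul, mul_smul]
  have h4 : (μ * μ * μ) • u = (1 : k) • u := by
    have h5 : ρ (C.x a b c ^ 3) u = u := by rw [x_pow, map_one]; rfl
    rw [pow_three', rep_mul, rep_mul, ← hμ, map_smul, ← hμ, map_smul, map_smul, ← hμ] at h5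
    rw [mul_smul, mul_smul, h5, one_smul]
  have hν0 : ν ≠ 0 := fun e => hu0 (rep_inj ρ g (by rw [← hν, e, zero_smul, map_zero]))
  have h5 := smul_left_injective k hu0 h3
  have h6 := smul_left_injective k hu0 h4
  have h7 : μ * μ = 1 := mul_left_cancel₀ hν0 (by linear_combination h5)
  rw [h7, one_mul] at h6
  rw [← hμ, h6, one_smul]

theorem finrank_Wx_eq {a' b' c' : α} (h : D3 a b c) (h' : D3 a' b' c') :
    finrank k (C.Wx ρ a b c) = finrank k (C.Wx ρ a' b' c') := by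
  have h1 := finrank_Wx (C := C) (ρ := ρ) h
  have h2 := finrank_Wx (C := C) (ρ := ρ) h'
  have h3 := finrank_Fx_eq (C := C) (ρ := ρ) ((card_three h).trans (card_three h').symm)
    (by rw [card_three h]; omega)
  omega

theorem two_le_finrank_Wx (h9 : 8 ≤ Fintype.card α) (hF : ∀ g, ρ g = 1 → C.π g = 1)
    (h0 : C.Fx ρ Finset.univ = ⊥) (hz : ∀ z, C.π z = 1 → ρ z = 1 ∨ ∀ v, ρ z v = v → v = 0)
    (hA : ∀ a b c, D3 a b c → C.Wx ρ a b c ≤ C.Fx ρ {a, b, c}ᶜ) (h : D3 a b c) :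
    2 ≤ finrank k (C.Wx ρ a b c) := by
  by_contra hw
  obtain ⟨d, s, hds, hd, hs⟩ := exists_two_notMem ({a, b, c} : Finset α)
    (by rw [card_three h]; omega)
  obtain ⟨t, u, htu, ht, hu⟩ := exists_two_notMem ({s, a, b, c, d} : Finset α)
    (by have := Finset.card_le_five (a := s) (b := a) (c := b) (d := c) (e := d); omega)
  simp only [Finset.mem_insert, Finset.mem_singleton, not_or] at hd hs ht hu
  have h' : D3 a b d := ⟨h.1, Ne.symm hd.1, Ne.symm hd.2.1⟩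
  have h1 := sq_eq_zero_of_finrank (C := C) (ρ := ρ) (by omega) h (by omega)
  have h2 := sq_eq_zero_of_finrank (C := C) (ρ := ρ) (by omega) h'
    (by rw [← finrank_Wx_eq h h']; omega)
  rcases hz (C.x a b c * C.x a b d * (C.x a b c * C.x a b d)) (by
    simp only [map_mul, C.π_x h, C.π_x h', cyc_mul_sq h h' (Ne.symm hd.2.2)]) with h3 | h3
  · have h4 := quad_aux h1 h2 (by rw [add_sub_cancel, ← map_pow, x_pow, map_one])
      (by rw [add_sub_cancel, ← map_pow, x_pow, map_one])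
      (by simpa only [add_sub_cancel, map_mul] using h3)
    refine not_Wx_le (by omega) hF h0 hA h h' (Ne.symm hd.2.2) ?_
    rw [Wx, h4, LinearMap.range_neg]
    exact le_rfl
  · have h4 : D3 s t u := ⟨Ne.symm ht.1, Ne.symm hu.1, htu⟩
    refine Wx_ne_bot hF h4 (eq_bot_iff.2 fun v hv => h3 v ?_)
    have h5 := hA s t u h4 hv
    have ha : a ∈ ({s, t, u} : Finset α)ᶜ := by simp [Ne.symm hs.1, Ne.symm ht.2.1, Ne.symm hu.2.1]
    have hb : b ∈ ({s, t, u} : Finset α)ᶜ := by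
      simp [Ne.symm hs.2.1, Ne.symm ht.2.2.1, Ne.symm hu.2.2.1]
    have h6 := h5 a ha b hb c (by simp [Ne.symm hs.2.2, Ne.symm ht.2.2.2.1, Ne.symm hu.2.2.2.1]) h
    have h7 := h5 a ha b hb d (by simp [hds, Ne.symm ht.2.2.2.2, Ne.symm hu.2.2.2.2]) h'
    simp only [rep_mul, h6, h7]

omit [FiniteDimensional k V] in
theorem sum_eq (h9 : 6 ≤ Fintype.card α) (h1 : ∀ a, C.Fx ρ {a}ᶜ = ⊥)
    (hW : ∀ a b c, D3 a b c → C.Wx ρ a b c = C.Fx ρ {a, b, c}ᶜ) (hab : a ≠ b)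
    (hv : v ∈ C.Fx ρ {a, b}ᶜ) : ∑ j ∈ {a, b}ᶜ, ρ (C.x b a j) v = v := by
  have e1 : ∀ j, D3 a b j → ρ (C.x b a j) v ∈ C.Fx ρ {a, j}ᶜ := fun j h =>
    smul_mem_Fx _ hv fun i hi => by
      simp only [Finset.mem_compl, Finset.mem_insert, Finset.mem_singleton, not_or,
        C.π_x h.swap] at hi ⊢
      exact ⟨fun e => hi.2 (by rw [e, cyc_snd h.swap]), fun e => hi.1 (by rw [e, cyc_fst h.swap])⟩
  have e2 : ∀ j l, D3 a b j → D3 a b l → j ≠ l → ρ (C.x b j l) v = -ρ (C.x b a j) v := by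
    intro j l h h' hjl
    have hd : D3 b j l := ⟨h.2.2, h'.2.2, hjl⟩
    have k1 : ρ (C.x b j l) v ∈ C.Fx ρ {a, j}ᶜ := smul_mem_Fx _ hv fun i hi => by
      simp only [Finset.mem_compl, Finset.mem_insert, Finset.mem_singleton, not_or,
        C.π_x hd] at hi ⊢
      exact ⟨fun e => hi.1 (by rw [e, cyc_of_ne h.1 h.2.1 h'.2.1]),
        fun e => hi.2 (by rw [e, cyc_fst hd])⟩
    have k2 : ρ (C.x a b j) v ∈ C.Fx ρ {b, j, l}ᶜ := smul_mem_Fx _ hv fun i hi => by
      simp only [Finset.mem_compl, Finset.mem_insert, Finset.mem_singleton, not_or,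
        C.π_x h] at hi ⊢
      exact ⟨fun e => hi.1 (by rw [e, cyc_fst h]), fun e => hi.2.1 (by rw [e, cyc_snd h])⟩
    have k3 := sum_eq_zero_of_mem_Wx h (hW a b j h ▸ Fx_anti (by intro i; simp; tauto) hv)
    have k4 : ρ (C.x b j l) v + ρ (C.x b a j) v ∈ C.Fx ρ {b, j, l}ᶜ := by
      have := sub_mem (hW b j l hd ▸ mem_Wx (C := C) (ρ := ρ) b j l v) k2
      rwa [sub_sub, eq_neg_of_add_eq_zero_left k3, sub_neg_eq_add] at this
    obtain ⟨s, t, hst, hs, ht⟩ := exists_two_notMem ({a, b, j, l} : Finset α)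
      (by have := Finset.card_le_four (a := a) (b := b) (c := j) (d := l); omega)
    simp only [Finset.mem_insert, Finset.mem_singleton, not_or] at hs ht
    have k5 : _ ∈ C.Fx ρ {j}ᶜ := mem_Fx_union (add_mem k1 (e1 j h)) k4 hst (by simp [hs])
      (by simp [ht]) (by simp [hs]) (by simp [ht]) fun i hi => by
        by_cases h7 : i = a
        · exact Or.inr (by simp [h7, h.1, h.2.1, h'.2.1])
        · exact Or.inl (by simpa [h7] using hi)
    rw [h1] at k5
    exact eq_neg_of_add_eq_zero_left k5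
  obtain ⟨j, -, -, hj, -⟩ := exists_two_notMem ({a, b} : Finset α)
    (by have := Finset.card_le_two (a := a) (b := b); omega)
  have hj' := hj
  simp only [Finset.mem_insert, Finset.mem_singleton, not_or] at hj'
  have h : D3 a b j := ⟨hab, Ne.symm hj'.1, Ne.symm hj'.2⟩
  rw [← sub_eq_zero, ← Submodule.mem_bot k, ← h1 a]
  refine mem_Fx_of_base h.2.2 fun l hl h2 h3 => ?_
  have h' : D3 a b l := ⟨hab, Ne.symm (by simpa using hl), Ne.symm h2⟩
  have hd : D3 b j l := ⟨h.2.2, h'.2.2, Ne.symm h3⟩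
  have k1 := e2 j l h h' hd.2.2
  have k2 := e2 l j h' h h3
  have k3 : C.x b l j = C.x j b l := C.x_rot hd.swap
  have k4 : ρ (C.x b j l) (ρ (C.x b a l) v) = -v := by
    rw [← neg_neg (ρ (C.x b a l) v), ← k2, map_neg, ← rep_mul, k3, C.x_mul_swap hd, map_one]; rfl
  have k5 : ρ (C.x b j l) (ρ (C.x b a j) v) = ρ (C.x b a l) v := by
    rw [← neg_neg (ρ (C.x b a j) v), ← k1, map_neg, ← rep_mul, C.x_mul_self hd, ← k3, k2, neg_neg]
  have hl' : l ∈ ({a, b}ᶜ : Finset α).erase j := by simp [h3, h2, h'.2.1.symm]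
  rw [← Finset.add_sum_erase _ _ (Finset.mem_compl.2 hj), ← Finset.add_sum_erase _ _ hl', map_sub,
    map_add, map_add, map_sum, k1, k4, k5, Finset.sum_congr rfl (g := fun i => ρ (C.x b a i) v)]
  · abel
  · intro i hi
    simp only [Finset.mem_erase, Finset.mem_compl, Finset.mem_insert, Finset.mem_singleton,
      not_or] at hi
    exact e1 i ⟨hab, Ne.symm hi.2.2.1, Ne.symm hi.2.2.2⟩ b (by simp [hab.symm, Ne.symm hi.2.2.2]) j
      (by simp [hj'.1, Ne.symm hi.2.1]) l (by simp [h'.2.1.symm, Ne.symm hi.1]) hd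

theorem caseA (h9 : 8 ≤ Fintype.card α) (hF : ∀ g, ρ g = 1 → C.π g = 1)
    (h0 : C.Fx ρ Finset.univ = ⊥) (hz : ∀ z, C.π z = 1 → ρ z = 1 ∨ ∀ v, ρ z v = v → v = 0)
    (hA : ∀ a b c, D3 a b c → C.Wx ρ a b c ≤ C.Fx ρ {a, b, c}ᶜ) :
    Fintype.card α ≤ finrank k V + 2 ∧
      ((Fintype.card α : k) ≠ 0 → Fintype.card α ≤ finrank k V + 1) := by
  obtain ⟨a, b, hab, -, -⟩ := exists_two_notMem (∅ : Finset α) (by rw [Finset.card_empty]; omega)
  obtain ⟨c, d, hcd, hc, hd⟩ := exists_two_notMem ({a, b} : Finset α)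
    (by have := Finset.card_le_two (a := a) (b := b); omega)
  simp only [Finset.mem_insert, Finset.mem_singleton, not_or] at hc hd
  have h : D3 a b c := ⟨hab, Ne.symm hc.1, Ne.symm hc.2⟩
  have h' : D3 a b d := ⟨hab, Ne.symm hd.1, Ne.symm hd.2⟩
  have h1 := two_le_finrank_Wx h9 hF h0 hz hA h
  have h2 := finrank_Wx (C := C) (ρ := ρ) h
  have h3 : ∀ (T : Finset α) (m : ℕ), T.card = 3 + m → C.Fx ρ T ≠ ⊥ →
      finrank k (C.Fx ρ T) + m ≤ finrank k (C.Fx ρ {a, b, c}) := fun T m h4 h5 =>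
    chain h0 m _ T (by rw [card_three h]; omega) (by rw [card_three h, h4]) h5
  have h4 : ∀ {a b c : α}, D3 a b c → finrank k (C.Fx ρ {a, b, c}ᶜ) + (Fintype.card α - 6) ≤ _ :=
    fun h => h3 _ _ (by rw [Finset.card_compl, card_three h]; omega) fun e =>
      Wx_ne_bot hF h (eq_bot_iff.2 (e ▸ hA _ _ _ h))
  have h5 := Submodule.finrank_mono (hA a b c h)
  have h6 := h4 h
  refine ⟨by omega, fun hr => ?_⟩
  by_contra h7
  have hW : ∀ a b c, D3 a b c → C.Wx ρ a b c = C.Fx ρ {a, b, c}ᶜ := fun a' b' c' h'' =>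
    Submodule.eq_of_le_of_finrank_le (hA _ _ _ h'') (by
      have := h4 h''
      have := finrank_Wx_eq (C := C) (ρ := ρ) h h''
      omega)
  have h8 : ∀ a, C.Fx ρ {a}ᶜ = ⊥ := fun a => by
    by_contra e
    have := h3 {a}ᶜ (Fintype.card α - 4) (by rw [Finset.card_compl, Finset.card_singleton]; omega) e
    have := Submodule.one_le_finrank_iff.2 e
    omega
  have h10 : C.Wx ρ a b c ⊔ C.Wx ρ a b d ≤ C.Fx ρ {a, b, c, d}ᶜ := sup_le
    ((hA _ _ _ h).trans (Fx_anti (by intro i; simp; tauto)))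
    ((hA _ _ _ h').trans (Fx_anti (by intro i; simp; tauto)))
  have h11 : ({a, b, c, d} : Finset α).card = 4 := by
    rw [Finset.card_insert_of_notMem (by simp [hab, h.2.1, h'.2.1]), card_three ⟨h.2.2, h'.2.2, hcd⟩]
  have h12 := h3 {a, b, c, d}ᶜ (Fintype.card α - 7) (by rw [Finset.card_compl, h11]; omega) fun e =>
    Wx_ne_bot hF h (eq_bot_iff.2 (e ▸ le_sup_left.trans h10))
  have h13 := Submodule.finrank_mono h10
  have h14 := Submodule.finrank_sup_add_finrank_inf_eq (C.Wx ρ a b c) (C.Wx ρ a b d)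
  have h15 := finrank_Wx_eq (C := C) (ρ := ρ) h h'
  obtain ⟨v, hv, hv0⟩ := (Submodule.ne_bot_iff _).1 (Submodule.one_le_finrank_iff.1
    (show 1 ≤ finrank k ↥(C.Wx ρ a b c ⊓ C.Wx ρ a b d) by omega))
  have h16 := inf_Wx_le (by omega) hA h h' hcd hv
  have h17 := sum_eq (by omega) h8 hW hab h16
  have h18 := sum_eq (by omega) h8 hW hab.symm (Finset.pair_comm a b ▸ h16)
  rw [Finset.pair_comm b a] at h18
  have h19 : ∑ j ∈ ({a, b}ᶜ : Finset α), (v + ρ (C.x a b j) v + ρ (C.x b a j) v) = 0 :=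
    Finset.sum_eq_zero fun j hj => by
      simp only [Finset.mem_compl, Finset.mem_insert, Finset.mem_singleton, not_or] at hj
      have hj' : D3 a b j := ⟨hab, Ne.symm hj.1, Ne.symm hj.2⟩
      exact sum_eq_zero_of_mem_Wx hj' (hW a b j hj' ▸ Fx_anti (by intro i; simp; tauto) h16)
  rw [Finset.sum_add_distrib, Finset.sum_add_distrib, h17, h18, Finset.sum_const, Finset.card_compl,
    Finset.card_pair hab, ← succ_nsmul, ← succ_nsmul, show Fintype.card α - 2 + 1 + 1 =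
      Fintype.card α by omega, ← Nat.cast_smul_eq_nsmul k] at h19
  exact hv0 ((smul_eq_zero.1 h19).resolve_left hr)

end AltCov

end Cfsg.Agent.H29
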