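import Mathlib
import Cfsg.Agent.H29.AltDimA

/-! Weights of commuting families and small-degree bounds for covers of alternating groups. -/

set_option autoImplicit false

namespace Cfsg.Agent.H29

open Equiv Equiv.Perm Module

variable {G : Type*} [Group G] {k : Type*} [Field k] {V : Type*} [AddCommGroup V] [Module k V]

theorem wt_indep {ι J : Type*} (f : ι → End k V) (v : J → V) (μ : J → ι → k) (hv : ∀ j, v j ≠ 0)
    (hμ : Function.Injective μ) (h : ∀ j i, f i (v j) = μ j i • v j) : LinearIndependent k v := by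
  classical
  rw [linearIndependent_iff']
  intro s
  induction s using Finset.induction_on with
  | empty => simp
  | insert a s ha ih =>
    intro g hg
    rw [Finset.sum_insert ha] at hg
    have h1 : ∀ b ∈ s, g b = 0 := fun b hb => by
      obtain ⟨i, hi⟩ := Function.ne_iff.1 (hμ.ne (ne_of_mem_of_not_mem hb ha))
      have h2 := congrArg (fun w => f i w - μ a i • w) hg
      simp only [map_add, map_sum, map_smul, h, map_zero, smul_zero, sub_zero, smul_add,
        Finset.smul_sum] at h2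
      have h3 := ih (fun j => g j * (μ j i - μ a i)) (by
        rw [← h2, smul_comm (g a), add_sub_add_left_eq_sub, ← Finset.sum_sub_distrib]
        exact Finset.sum_congr rfl fun j _ => by rw [smul_smul, smul_smul, ← sub_smul]; ring_nf) b hb
      exact (mul_eq_zero.1 h3).resolve_right (sub_ne_zero.2 hi)
    intro b hb
    rcases Finset.mem_insert.1 hb with rfl | hb
    · rw [Finset.sum_eq_zero fun j hj => by rw [h1 j hj, zero_smul], add_zero] at hg
      exact (smul_eq_zero.1 hg).resolve_right (hv _)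
    · exact h1 b hb

variable [FiniteDimensional k V]

theorem wt_card {ι J : Type*} [Fintype J] (f : ι → End k V) (v : J → V) (μ : J → ι → k)
    (hv : ∀ j, v j ≠ 0) (hμ : Function.Injective μ) (h : ∀ j i, f i (v j) = μ j i • v j) :
    Fintype.card J ≤ finrank k V := (wt_indep f v μ hv hμ h).fintype_card_le_finrank

theorem exists_wt [IsAlgClosed k] {ι : Type*} (f : ι → End k V) (hc : ∀ i j, f i * f j = f j * f i)
    (W : Submodule k V) (hW0 : W ≠ ⊥) (hW : ∀ i, ∀ v ∈ W, f i v ∈ W) :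
    ∃ v ∈ W, v ≠ 0 ∧ ∃ μ : ι → k, ∀ i, f i v = μ i • v := by
  classical
  have hex : ∃ n, ∃ U ≤ W, U ≠ ⊥ ∧ (∀ i, ∀ v ∈ U, f i v ∈ U) ∧ finrank k U = n :=
    ⟨_, W, le_rfl, hW0, hW, rfl⟩
  obtain ⟨U, hUW, hU0, hU, hUn⟩ := Nat.find_spec hex
  have hUnt : Nontrivial U := Submodule.nontrivial_iff_ne_bot.mpr hU0
  have key : ∀ i, ∃ μ : k, ∀ v ∈ U, f i v = μ • v := by
    intro i
    obtain ⟨μ, hμ⟩ := End.exists_eigenvalue ((f i).restrict (hU i))
    obtain ⟨w, hw⟩ := hμ.exists_hasEigenvector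
    have hw1 : f i w = μ • (w : V) := congrArg Subtype.val (End.mem_eigenspace_iff.mp hw.1)
    have h1 : Nat.find hex ≤ finrank k ↥(U ⊓ (f i).eigenspace μ) := Nat.find_min' hex
      ⟨_, inf_le_left.trans hUW, fun h => by
        have : (w : V) ∈ U ⊓ (f i).eigenspace μ := ⟨w.2, End.mem_eigenspace_iff.mpr hw1⟩
        rw [h, Submodule.mem_bot] at this
        exact hw.2 (Subtype.ext this), fun j v hv => ⟨hU j v hv.1, End.mem_eigenspace_iff.mpr (by
          rw [← End.mul_apply, hc, End.mul_apply, End.mem_eigenspace_iff.mp hv.2, map_smul])⟩, rfl⟩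
    have h2 := Submodule.eq_of_le_of_finrank_le inf_le_left (hUn ▸ h1)
    exact ⟨μ, fun v hv => End.mem_eigenspace_iff.mp (h2 ▸ hv :).2⟩
  choose μ hμ using key
  obtain ⟨v, hv, hv0⟩ := (Submodule.ne_bot_iff _).1 hU0
  exact ⟨v, hUW hv, hv0, μ, fun i => hμ i v hv⟩

omit [FiniteDimensional k V] in
theorem rep_pow (ρ : Representation k G V) {g : G} {v : V} {μ : k} (h : ρ g v = μ • v) (n : ℕ) :
    ρ (g ^ n) v = μ ^ n • v := by
  induction n with
  | zero => simp
  | succ n ih => rw [pow_succ, rep_mul, h, map_smul, ih, smul_smul, ← pow_succ']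

theorem orbit_card (ρ : Representation k G V) {ι J : Type*} [Fintype J] (t : ι → G) (g : J → G)
    (τ : J → ι → ι) (n : J → ι → ℕ) (h : ∀ j i, t i * g j = g j * t (τ j i) ^ n j i) {v : V}
    (hv0 : v ≠ 0) {μ : ι → k} (hv : ∀ i, ρ (t i) v = μ i • v)
    (hμ : Function.Injective fun j i => μ (τ j i) ^ n j i) : Fintype.card J ≤ finrank k V :=
  wt_card (fun i => ρ (t i)) (fun j => ρ (g j) v) _
    (fun j e => hv0 (rep_inj ρ (g j) (e.trans (map_zero _).symm))) hμ fun j i => by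
      rw [← rep_mul, h, rep_mul, rep_pow ρ (hv _), map_smul]

theorem exists_root_wt [IsAlgClosed k] (ρ : Representation k G V) {ι : Type*} {q : ℕ}
    (hq : q.Prime) (hk : (q : k) ≠ 0) (t : ι → G) (ht : ∀ i, t i ^ q = 1)
    (hc : ∀ i j, t i * t j = t j * t i) {a b : ι} (h : (ρ (t a) - 1) * (ρ (t b) - 1) ≠ 0) :
    ∃ (ω : k) (e : ι → Fin q) (v : V), orderOf ω = q ∧ (e a : ℕ) ≠ 0 ∧ (e b : ℕ) ≠ 0 ∧ v ≠ 0 ∧
      ∀ i, ρ (t i) v = ω ^ (e i : ℕ) • v := by
  have hc' : ∀ i j, Commute (ρ (t i)) (ρ (t j)) := fun i j => by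
    rw [Commute, SemiconjBy, ← map_mul, hc, map_mul]
  obtain ⟨v, ⟨w, rfl⟩, hv0, μ, hμ⟩ := exists_wt (fun i => ρ (t i)) hc' (LinearMap.range
    ((ρ (t a) - 1) * (ρ (t b) - 1))) (mt LinearMap.range_eq_bot.1 h) (by
      rintro i _ ⟨w, rfl⟩
      exact ⟨ρ (t i) w, by rw [← End.mul_apply, ← End.mul_apply, (((hc' i a).sub_right
        (Commute.one_right _)).mul_right ((hc' i b).sub_right (Commute.one_right _))).eq]⟩)
  have h1 : ∀ i, μ i ^ q = 1 := fun i => smul_left_injective k hv0 (by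
    simp only [← rep_pow ρ (hμ i), ht, map_one, one_smul, End.one_apply])
  have h2 : ∀ {i} (u : V), (ρ (t i) - 1) u = ((ρ (t a) - 1) * (ρ (t b) - 1)) w → μ i ≠ 1 := by
    intro i u hu e
    have h3 : (∑ j ∈ Finset.range q, ρ (t i) ^ j) ((ρ (t i) - 1) u) = 0 := by
      rw [← End.mul_apply, geom_sum_mul, ← map_pow, ht, map_one, sub_self, LinearMap.zero_apply]
    rw [hu, LinearMap.sum_apply, Finset.sum_congr rfl fun j _ => by
      rw [← map_pow, rep_pow ρ (hμ i), e, one_pow, one_smul], Finset.sum_const, Finset.card_range,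
      ← Nat.cast_smul_eq_nsmul k] at h3
    exact hv0 ((smul_eq_zero.1 h3).resolve_left hk)
  have h3 := h2 (i := a) _ rfl
  have h4 := h2 (i := b) ((ρ (t a) - 1) w) (by
    rw [← End.mul_apply, (((hc' b a).sub_right (Commute.one_right _)).sub_left
      (Commute.one_left _)).eq])
  have := Fact.mk hq
  have h5 := orderOf_eq_prime (h1 a) h3
  choose e he h6 using fun i => (IsPrimitiveRoot.iff_orderOf.2 h5).eq_pow_of_pow_eq_one (h1 i)
  exact ⟨μ a, fun i => ⟨e i, he i⟩, _, h5, fun h7 => h3 (by rw [← h6 a, show e a = 0 from h7, pow_zero]),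
    fun h7 => h4 (by rw [← h6 b, show e b = 0 from h7, pow_zero]), hv0, fun i => by
      rw [h6 i]; exact hμ i⟩

namespace AltCov

variable {α : Type*} [Fintype α] [DecidableEq α] (C : AltCov G α) (ρ : Representation k G V)

theorem conj_eq {q n : ℕ} (hq : Odd q) {u w g : G} (hu : u ^ q = 1) (hw : w ^ q = 1)
    (h : C.π u * C.π g = C.π g * C.π w ^ n) : u * g = g * w ^ n := by
  rw [← C.uniq (g := g⁻¹ * u * g) (h := w ^ n) hq (by
    rw [← inv_inv g, inv_inv g⁻¹, conj_pow, hu, mul_one, mul_inv_cancel])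
    (by rw [← pow_mul, mul_comm, pow_mul, hw, one_pow])
    (by rw [map_mul, map_mul, map_inv, mul_assoc, h, inv_mul_cancel_left, map_pow]), ← mul_assoc,
    mul_inv_cancel_left]

theorem orbit_bound [IsAlgClosed k] {ι J : Type*} [Fintype J] {q : ℕ} (hq : q.Prime) (hq' : Odd q)
    (hk : (q : k) ≠ 0) (c : ι → Perm α) (hc : ∀ i, sign (c i) = 1 ∧ c i ^ q = 1)
    (hcc : ∀ i j, c i * c j = c j * c i) (σ : J → Perm α) (hσ : ∀ j, sign (σ j) = 1)
    (τ : J → ι → ι) (n : J → ι → ℕ) (h : ∀ j i, c i * σ j = σ j * c (τ j i) ^ n j i) {a b : ι}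
    (hab : (ρ (C.lf q (c a)) - 1) * (ρ (C.lf q (c b)) - 1) ≠ 0)
    (hinj : ∀ e : ι → Fin q, (e a : ℕ) ≠ 0 → (e b : ℕ) ≠ 0 → ∀ j j',
      (∀ i, (e (τ j i) * n j i) % q = (e (τ j' i) * n j' i) % q) → j = j') :
    Fintype.card J ≤ finrank k V := by
  have h1 := fun i => C.π_lf hq' (hc i).1 (hc i).2
  obtain ⟨ω, e, v, h2, h3, h4, h5, h6⟩ := exists_root_wt ρ hq hk (fun i => C.lf q (c i))
    (fun i => C.lf_pow _ _) (fun i j => by
      rw [C.conj_eq (n := 1) hq' (C.lf_pow _ _) (C.lf_pow q (c i)) (by rw [h1, h1, pow_one, hcc]),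
        pow_one]) hab
  choose g hg using fun j => C.surj _ (hσ j)
  refine orbit_card ρ _ g τ n (fun j i => C.conj_eq hq' (C.lf_pow _ _) (C.lf_pow _ _)
    (by rw [h1, h1, hg, h])) h5 h6 fun j j' e' => hinj e h3 h4 j j' fun i => ?_
  have h7 := congrFun e' i
  simp only [← pow_mul, (orderOf_pos_iff.1 (h2 ▸ hq.pos)).pow_eq_pow_iff_modEq, h2] at h7
  exact h7

end AltCov

end Cfsg.Agent.H29
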