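import Mathlib
import Cfsg.Agent.H29.AltDimW

/-! Small-degree bounds for covers of alternating groups. -/

set_option autoImplicit false

namespace Cfsg.Agent.H29

open Equiv Equiv.Perm Module

variable {G : Type*} [Group G] {k : Type*} [Field k] {V : Type*} [AddCommGroup V] [Module k V]

theorem comm7 (g : G) (t : ℤ → G) (ht : ∀ i j, t (i + j) = g ^ i * t j * (g ^ i)⁻¹)
    (h7 : ∀ i, t (i + 7) = t i) {z c : G} (hz : ∀ a, a * z = z * a) (hc : ∀ a, a * c = c * a)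
    (h3 : t 3 = t 0 * t 1 * z) (h1 : t 0 * t 1 = c * (t 1 * t 0)) (i j : ℤ) :
    t i * t j = t j * t i := by
  have sh : ∀ {a b : ℤ} {c : G}, (∀ a, a * c = c * a) → t a * t b = c * (t b * t a) → ∀ i,
      t (i + a) * t (i + b) = c * (t (i + b) * t (i + a)) := fun {a b c} hc h i => by
    rw [ht, ht, conj_mul, conj_mul, h, ← mul_assoc (g ^ i), hc, mul_assoc c, mul_assoc c]
  have hc' : ∀ a, a * c⁻¹ = c⁻¹ * a := fun a => (Commute.inv_right (hc a)).eq
  have e3 : t 0 * t 3 = c * (t 3 * t 0) := by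
    calc _ = t 0 * (t 0 * t 1) * z := by rw [h3]; group
      _ = t 0 * c * t 1 * (t 0 * z) := by rw [h1]; group
      _ = _ := by rw [hc, hz, h3]; group
  have e2 : t 0 * t 2 = c⁻¹ * (t 2 * t 0) := by
    refine sh (a := 1) (b := 3) hc' ?_ (-1)
    calc _ = c⁻¹ * (c * (t 1 * t 0)) * (t 1 * z) := by rw [h3]; group
      _ = _ := by rw [← h1, hz, h3]; group
  have h4 : t 4 = t 1 * t 2 * z := by
    rw [show t 4 = t (1 + 3) from rfl, show t 2 = t (1 + 1) from rfl, show t 1 = t (1 + 0) from rfl,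
      ht, ht, ht, conj_mul, h3, ← mul_assoc _ _ z, mul_assoc _ z, ← hz, ← mul_assoc]
  have e4 : t 0 * t 4 = 1 * (t 4 * t 0) := by
    calc _ = t 0 * t 1 * t 2 * z := by rw [h4]; group
      _ = c * t 1 * (t 0 * t 2) * z := by rw [h1]; group
      _ = t 1 * t 2 * (t 0 * z) := by rw [e2, ← hc]; group
      _ = _ := by rw [hz, h4]; group
  have one : ∀ a : G, a * 1 = 1 * a := fun a => by rw [mul_one, one_mul]
  have e5 : t 3 * t 0 = 1 * (t 0 * t 3) := (h7 0).symm ▸ sh one e4 3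
  obtain rfl : c = 1 := by rwa [e3, one_mul, eq_comm, mul_eq_right] at e5
  rw [inv_one] at e2
  have e6 : ∀ r : ℤ, 0 ≤ r → r < 7 → t 0 * t r = 1 * (t r * t 0) := fun r h1' h2' => by
    interval_cases r
    · rw [one_mul]
    · exact h1
    · exact e2
    · exact e3
    · exact e4
    · have := sh one e2 5
      rw [one_mul] at this ⊢
      exact h7 0 ▸ this.symm
    · have := sh one h1 6
      rw [one_mul] at this ⊢
      exact h7 0 ▸ this.symm
  have h8 : t j = t (i + (j - i) % 7) := by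
    rw [← Function.Periodic.int_mul h7 ((j - i) / 7) (i + (j - i) % 7)]
    congr 1
    simp only [Int.cast_id]
    omega
  have := sh one (e6 ((j - i) % 7) (by omega) (by omega)) i
  rwa [add_zero, one_mul, ← h8] at this

namespace AltCov

variable [FiniteDimensional k V] [IsAlgClosed k]

/-- The 7-cycle. -/
def γ7 : Perm (Fin 8) := swap 1 2 * swap 2 4 * swap 4 3 * swap 3 6 * swap 6 7 * swap 7 5

/-- The translation. -/
def σ7 : Perm (Fin 8) := swap 0 1 * swap 2 3 * swap 4 5 * swap 6 7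

theorem bound7 (C : AltCov G (Fin 8)) (ρ : Representation k G V) (h2 : (2 : k) ≠ 0)
    (hF : ∀ g, ρ g = 1 → C.π g = 1) : 7 ≤ finrank k V := by
  obtain ⟨g, hg, hg7⟩ := C.exists_lift (q := 7) (by decide) (c := γ7) (by decide +kernel)
    (by decide +kernel)
  obtain ⟨s, hs⟩ := C.surj σ7 (by decide +kernel)
  let t : ℤ → G := fun i => g ^ i * s * (g ^ i)⁻¹
  have ht : ∀ i j, t (i + j) = g ^ i * t j * (g ^ i)⁻¹ := fun i j => by
    simp only [t, zpow_add]; group
  have h7 : ∀ i, t (i + 7) = t i := fun i => by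
    simp only [t, zpow_add, zpow_ofNat, hg7, mul_one]
  have p : ∀ i : ℕ, C.π (t i) = γ7 ^ i * σ7 * (γ7 ^ i)⁻¹ := fun i => by
    simp only [t, map_mul, map_inv, zpow_natCast, map_pow, hg, hs]
  clear_value t
  have p0 : C.π (t 0) = _ := p 0
  have p1 : C.π (t 1) = _ := p 1
  have p3 : C.π (t 3) = _ := p 3
  have hc := comm7 g t ht h7 (z := (t 0 * t 1)⁻¹ * t 3) (c := t 0 * t 1 * (t 1 * t 0)⁻¹)
    (C.cen _ (by rw [map_mul, map_inv, map_mul, p0, p1, p3]; decide +kernel)).2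
    (C.cen _ (by rw [map_mul, map_inv, map_mul, map_mul, p0, p1]; decide +kernel)).2
    (by group) (by group)
  have hc' : ∀ i j, Commute (ρ (t i)) (ρ (t j)) := fun i j => by
    rw [Commute, SemiconjBy, ← map_mul, hc, map_mul]
  have hsq : t 1 * t 1 = t 0 * t 0 := by
    rw [show t 1 = t (1 + 0) from rfl, ht, conj_mul,
      (C.cen (t 0 * t 0) (by rw [map_mul, p0]; decide +kernel)).2, mul_inv_cancel_right]
  obtain ⟨v, ⟨w, rfl⟩, hv0, μ, hμ⟩ := exists_wt (fun i => ρ (t i)) hc' (LinearMap.range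
    (ρ (t 0) - ρ (t 1))) (fun e => by
      have h3 := hF (t 0 * (t 1)⁻¹) (by
        rw [map_mul, sub_eq_zero.1 (LinearMap.range_eq_bot.1 e), ← map_mul, mul_inv_cancel, map_one])
      rw [map_mul, map_inv, p0, p1] at h3
      exact absurd h3 (by decide +kernel)) (by
      rintro i _ ⟨w, rfl⟩
      exact ⟨ρ (t i) w, by
        rw [← End.mul_apply, ← End.mul_apply, ((hc' i 0).sub_right (hc' i 1)).eq]⟩)
  have h01 : μ 0 ≠ μ 1 := fun e => by
    have h3 : ρ (t 0) ((ρ (t 0) - ρ (t 1)) w) + ρ (t 1) ((ρ (t 0) - ρ (t 1)) w) = 0 := by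
      simp only [LinearMap.sub_apply, map_sub, ← rep_mul, hsq, hc 1 0]; abel
    rw [hμ, hμ, ← e, ← two_smul k, smul_eq_zero, ← hμ] at h3
    exact hv0 (rep_inj ρ _ ((h3.resolve_left h2).trans (map_zero _).symm))
  have hp : Function.Periodic μ 7 := fun i => smul_left_injective k hv0 (by
    simp only [← hμ, h7])
  refine (Fintype.card_fin 7).symm.trans_le (orbit_card ρ t (fun j : Fin 7 => g ^ (j : ℤ))
    (fun j i => i - j) (fun _ _ => 1) (fun j i => by
      rw [pow_one, ← add_sub_cancel (j : ℤ) i, ht, add_sub_cancel_left, inv_mul_cancel_right])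
    hv0 hμ fun j j' e => ?_)
  by_contra hne
  have h4 : Function.Periodic μ (j - j' : ℤ) := fun i => by
    have := congrFun e (i + j)
    simp only [pow_one, add_sub_cancel_right] at this
    rw [this, add_sub_assoc]
  obtain ⟨a, b, h5⟩ := (Int.prime_iff_natAbs_prime.2 (by norm_num) : Prime (7 : ℤ)
    ).coprime_iff_not_dvd.2 (show ¬ (7 : ℤ) ∣ (j - j' : ℤ) by omega)
  have h6 := (hp.int_mul a).add_period (h4.int_mul b) 0
  simp only [Int.cast_id, h5, zero_add] at h6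
  exact h01 h6.symm

theorem bound33 (C : AltCov G (Fin 9)) (ρ : Representation k G V) (h3 : ((3 : ℕ) : k) ≠ 0)
    (h : (ρ (C.x 0 1 2) - 1) * (ρ (C.x 3 4 5) - 1) ≠ 0) : 8 ≤ finrank k V :=
  C.orbit_bound ρ (J := Fin 2 × Fin 4) Nat.prime_three (by decide) h3
    ![cyc 0 1 2, cyc 3 4 5, cyc 6 7 8] (by decide +kernel) (by decide +kernel)
    (fun j => ![1, swap 0 1 * swap 3 4, swap 0 1 * swap 6 7, swap 3 4 * swap 6 7] j.2 *
      ![1, swap 3 6 * swap 4 7 * swap 5 8 * swap 0 1] j.1) (by decide +kernel)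
    (fun j => ![![0, 1, 2], ![0, 2, 1]] j.1)
    (fun j => ![![![1, 1, 1], ![2, 2, 1], ![2, 1, 2], ![1, 2, 2]],
      ![![2, 1, 1], ![1, 2, 1], ![1, 1, 2], ![2, 2, 2]]] j.1 j.2) (by decide +kernel)
    (a := 0) (b := 1) h (by decide +kernel)

omit [FiniteDimensional k V] [IsAlgClosed k] in
theorem kill_step {α : Type*} [Fintype α] [DecidableEq α] (C : AltCov G α)
    (ρ : Representation k G V) {t y g : G} (hc : g * t = t * g) (h : (ρ y - 1) * (ρ t - 1) = 0)
    {a b c : α} (hd : D3 a b c) (e : C.π y * C.π g * (C.π y)⁻¹ * (C.π g)⁻¹ = cyc a b c) :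
    (ρ (C.x a b c) - 1) * (ρ t - 1) = 0 := by
  have h1 : ∀ v, y ∈ stb ρ ((ρ t - 1) v) := fun v => sub_eq_zero.1 (LinearMap.congr_fun h v)
  have h2 : C.π ((y * g * y⁻¹ * g⁻¹) ^ 3) = 1 := by
    rw [map_pow, map_mul, map_mul, map_mul, map_inv, map_inv, e, cyc_pow hd]
  ext v
  rw [← C.uniq (q := 3) (by decide) (g := (y * g * y⁻¹ * g⁻¹) ^ 4) (h := C.x a b c) ?_
    (C.x_pow _ _ _) (by rw [pow_succ, map_mul, h2, one_mul, map_mul, map_mul, map_mul, map_inv,
      map_inv, e, C.π_x hd])]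
  · refine sub_eq_zero.2 ((stb ρ ((ρ t - 1) v)).pow_mem (x := y * g * y⁻¹ * g⁻¹) ?_ 4)
    rw [mul_assoc, mul_assoc]
    refine mul_mem (h1 v) ?_
    have h3 : ρ g⁻¹ ((ρ t - 1) v) = (ρ t - 1) (ρ g⁻¹ v) := by
      simp only [LinearMap.sub_apply, End.one_apply, map_sub, ← rep_mul,
        (Commute.inv_left hc).eq]
    have h4 : ρ y⁻¹ ((ρ t - 1) (ρ g⁻¹ v)) = _ := inv_mem (h1 _)
    change ρ _ _ = _
    rw [rep_mul, rep_mul, h3, h4, ← h3, ← rep_mul, mul_inv_cancel, map_one, End.one_apply]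
  · rw [← pow_mul, show 4 * 3 = 3 * 2 * 2 from rfl, pow_mul, pow_mul, pow_two (_ ^ 3),
      (C.cen _ h2).1, one_pow]

/-- The two 5-cycles. -/
def c5 : Fin 2 → Perm (Fin 10) :=
  ![swap 0 1 * swap 1 2 * swap 2 3 * swap 3 4, swap 5 6 * swap 6 7 * swap 7 8 * swap 8 9]

theorem bound55 (C : AltCov G (Fin 10)) (ρ : Representation k G V) (h5 : ((5 : ℕ) : k) ≠ 0)
    (h : (ρ (C.x 5 8 6) - 1) * (ρ (C.x 0 3 1) - 1) ≠ 0) : 10 ≤ finrank k V := by
  have p : ∀ i, C.π (C.lf 5 (c5 i)) = c5 i := fun i =>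
    C.π_lf (by decide) (by revert i; decide +kernel) (by revert i; decide +kernel)
  refine C.orbit_bound ρ (J := Fin 2 × Fin 5) Nat.prime_five (by decide) h5 c5
    (by decide +kernel) (by decide +kernel)
    (fun j => (swap 0 5 * swap 1 6 * swap 2 7 * swap 3 8 * swap 4 9) ^ (j.1 : ℕ) *
      (swap 1 2 * swap 2 4 * swap 4 3) ^ (![![0, 0, 1, 1, 2], ![0, 0, 1, 1, 2]] j.1 j.2) *
      (swap 6 7 * swap 7 9 * swap 9 8) ^ (![![0, 2, 1, 3, 0], ![1, 3, 0, 2, 1]] j.1 j.2))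
    (by decide +kernel) (fun j => ![![0, 1], ![1, 0]] j.1)
    (fun j => ![![![1, 1], ![1, 4], ![3, 3], ![3, 2], ![4, 1]],
      ![![3, 1], ![2, 1], ![1, 3], ![4, 3], ![3, 4]]] j.1 j.2) (by decide +kernel)
    (a := 0) (b := 1) (fun e => h ?_) (by decide +kernel)
  have d1 : D3 (0 : Fin 10) 1 2 := by unfold D3; decide
  have d2 : D3 (0 : Fin 10) 3 1 := by unfold D3; decide
  have d3 : D3 (5 : Fin 10) 6 7 := by unfold D3; decide
  have d4 : D3 (5 : Fin 10) 8 6 := by unfold D3; decide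
  have c1 : ∀ {a b c : Fin 10}, D3 a b c → c5 1 * cyc a b c = cyc a b c * c5 1 ^ 1 →
      C.lf 5 (c5 1) * C.x a b c = C.x a b c * C.lf 5 (c5 1) := fun d e =>
    (C.conj_eq (n := 1) (q := 5) (by decide) (C.lf_pow _ _) (C.lf_pow _ _)
      (by rw [p, C.π_x d, e])).trans (by rw [pow_one])
  have h1 := C.kill_step ρ (c1 d1 (by decide +kernel)).symm e d2
    (by rw [p, C.π_x d1]; decide +kernel)
  have h2 : Commute (ρ (C.x 0 3 1)) (ρ (C.lf 5 (c5 1))) := by
    rw [Commute, SemiconjBy, ← map_mul, ← c1 d2 (by decide +kernel), map_mul]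
  rw [((h2.sub_right (Commute.one_right _)).sub_left (Commute.one_left _)).eq] at h1
  exact C.kill_step ρ (C.comm_x (g := C.x 5 6 7) d2 (by rw [C.π_x d3]; decide +kernel)
    (by rw [C.π_x d3]; decide +kernel) (by rw [C.π_x d3]; decide +kernel)) h1 d4
    (by rw [p, C.π_x d3]; decide +kernel)

end AltCov

end Cfsg.Agent.H29
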