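import Mathlib
import Cfsg.Agent.H29.AltDimS

/-! The minimal degree of a nontrivial module for a cover of an alternating group. -/

set_option autoImplicit false

namespace Cfsg.Agent.H29

open Equiv Equiv.Perm Module

namespace AltCov

section

variable {G : Type*} [Group G] {k : Type*} [Field k] {V : Type*} [AddCommGroup V] [Module k V]
variable {α : Type*} [Fintype α] [DecidableEq α] {C : AltCov G α} {ρ : Representation k G V}
variable {S : Finset α} {a b c : α} {v : V}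

theorem mem_Fx_of_sub (h5 : 5 ≤ S.card)
    (hv : ∀ i ∈ S, ∀ j ∈ S, ∀ l ∈ S, D3 i j l → ρ (C.x i j l) v - v ∈ C.Fx ρ S) : v ∈ C.Fx ρ S := by
  intro d hd e he f hf h
  obtain ⟨g, hg, i, hi, hgi⟩ := Finset.one_lt_card.1 (show 1 < (S \ {d, e, f}).card by
    have := Finset.le_card_sdiff {d, e, f} S
    rw [card_three h] at this
    omega)
  simp only [Finset.mem_sdiff, Finset.mem_insert, Finset.mem_singleton, not_or] at hg hi
  have key : ∀ {a b c a' b' c'}, a ∈ S → b ∈ S → c ∈ S → a' ∈ S → b' ∈ S → c' ∈ S → D3 a b c →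
      D3 a' b' c' → ∀ {i j l}, cyc a' b' c' a = i → cyc a' b' c' b = j → cyc a' b' c' c = l →
      i ∈ S → j ∈ S → l ∈ S → ρ (C.x i j l) v = ρ (C.x a b c) v := by
    intro a b c a' b' c' ha hb hc ha' hb' hc' h h' i j l e1 e2 e3 hi hj hl
    have h1 := C.mul_x (C.x a' b' c') h
    rw [C.π_x h', e1, e2, e3] at h1
    have h2 := hv a' ha' b' hb' c' hc' h'
    have h3 := h2 i hi j hj l hl (e1 ▸ e2 ▸ e3 ▸ h.map (cyc a' b' c').injective)
    have h4 := hv a ha b hb c hc h a' ha' b' hb' c' hc' h'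
    rw [map_sub, ← rep_mul] at h3 h4
    rw [← h1] at h3
    linear_combination (norm := abel1) h4 - h3
  have h1 : D3 d e g := ⟨h.1, Ne.symm hg.2.1, Ne.symm hg.2.2.1⟩
  have h2 : D3 g d i := ⟨hg.2.1, hgi, Ne.symm hi.2.1⟩
  have h3 : D3 e g f := ⟨Ne.symm hg.2.2.1, h.2.2, hg.2.2.2⟩
  have h4 := key hd he hf hd he hg.1 h h1 (cyc_fst h1) (cyc_snd h1)
    (cyc_of_ne h.2.1.symm h.2.2.symm (Ne.symm hg.2.2.2)) he hg.1 hf
  have h5 := key he hg.1 hf hg.1 hd hi.1 h3 h2 (cyc_of_ne h3.1 h.1.symm (Ne.symm hi.2.2.1))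
    (cyc_fst h2) (cyc_of_ne h3.2.2.symm h.2.1.symm (Ne.symm hi.2.2.2)) he hd hf
  have h6 := hv d hd e he f hf h d hd e he f hf h
  have h7 := hv d hd e he f hf h e he d hd f hf h.swap
  rw [map_sub, ← rep_mul, C.x_mul_self h, h5, h4] at h6
  rw [map_sub, ← rep_mul, C.x_mul_swap h.swap, map_one, End.one_apply, h5, h4] at h7
  linear_combination (norm := abel1) -h6

theorem faithful_res {β : Type*} [Fintype β] [DecidableEq β] (f : β ↪ α)
    (hF : ∀ g, ρ g = 1 → C.π g = 1) (g : C.sub f) (hg : ρ.comp (C.sub f).subtype g = 1) :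
    (C.res f).π g = 1 := ext_inj f (by rw [C.ext_res, map_one]; exact hF g hg)

theorem faithful_of_ne (h5 : 5 ≤ Fintype.card α) (h : ρ (C.x a b c) ≠ 1) (g : G) (hg : ρ g = 1) :
    C.π g = 1 := C.ker_le h5 (N := ρ.ker) h hg

variable [FiniteDimensional k V]

theorem split [IsAlgClosed k] (h : D3 a b c) {β : Type*} [Fintype β] [DecidableEq β] (f : β ↪ α)
    (hf : ∀ i, i ∈ Set.range f ↔ i ∈ ({a, b, c}ᶜ : Finset α)) (h5 : 5 ≤ Fintype.card β)
    (hB : ¬ C.Wx ρ a b c ≤ C.Fx ρ {a, b, c}ᶜ) {m : ℕ}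
    (hm : ∀ (U : Submodule k V) (σ : Representation k (C.sub f) U),
      (∀ g, σ g = 1 → (C.res f).π g = 1) → m ≤ finrank k U) : 2 * m ≤ finrank k V := by
  obtain ⟨ω, hω⟩ : ∃ ω : k, ω ^ 2 + ω + 1 = 0 := by
    obtain ⟨ω, hω⟩ := IsAlgClosed.exists_root (Polynomial.X ^ 2 + Polynomial.X + 1 : Polynomial k)
      (by rw [show (Polynomial.X ^ 2 + Polynomial.X + 1 : Polynomial k).degree = 2 by
        compute_degree!]; decide)
    exact ⟨ω, by simpa using hω⟩
  have hS : 5 ≤ ({a, b, c}ᶜ : Finset α).card := by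
    refine h5.trans (Finset.card_le_card_of_injOn (s := Finset.univ) f (fun i _ => ?_)
      f.injective.injOn)
    exact (hf _).1 ⟨i, rfl⟩
  have hc : ∀ g : C.sub f, (g : G) * C.x a b c = C.x a b c * g := fun g =>
    C.comm_x h (C.sub_fix f g (by simp [hf])) (C.sub_fix f g (by simp [hf]))
      (C.sub_fix f g (by simp [hf]))
  have hy : ∀ {i j l}, i ∈ ({a, b, c}ᶜ : Finset α) → j ∈ ({a, b, c}ᶜ : Finset α) →
      l ∈ ({a, b, c}ᶜ : Finset α) → D3 i j l → ∀ w,
      ρ (C.x a b c) (ρ (C.x i j l) w) = ρ (C.x i j l) (ρ (C.x a b c) w) := by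
    intro i j l hi hj hl hd w
    simp only [Finset.mem_compl, Finset.mem_insert, Finset.mem_singleton, not_or] at hi hj hl
    rw [← rep_mul, ← rep_mul, C.comm_x hd] <;> rw [C.π_x h]
    exacts [cyc_of_ne hi.1 hi.2.1 hi.2.2, cyc_of_ne hj.1 hj.2.1 hj.2.2, cyc_of_ne hl.1 hl.2.1 hl.2.2]
  have key : ∀ U : Submodule k V, (∀ g, g * C.x a b c = C.x a b c * g → U ≤ U.comap (ρ g)) →
      ¬ U ≤ C.Fx ρ {a, b, c}ᶜ → m ≤ finrank k U := fun U hU h1 => by
    refine hm U (Representation.subrepresentation (ρ.comp (C.sub f).subtype) U fun g => hU g (hc g)) ?_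
    by_contra h2
    refine h1 fun v hv i hi j hj l hl hd => ?_
    obtain ⟨i, rfl⟩ := (hf i).2 hi
    obtain ⟨j, rfl⟩ := (hf j).2 hj
    obtain ⟨l, rfl⟩ := (hf l).2 hl
    have hd' : D3 i j l := ⟨mt (congrArg _) hd.1, mt (congrArg _) hd.2.1, mt (congrArg _) hd.2.2⟩
    by_contra h3
    refine h2 (faithful_of_ne h5 (a := i) (b := j) (c := l) fun e => h3 ?_)
    rw [← C.res_x f hd']
    exact congrArg Subtype.val (LinearMap.congr_fun e ⟨v, hv⟩)
  obtain ⟨s, hs, t, ht, hst⟩ := Finset.one_lt_card.1 (show 1 < _ from lt_of_lt_of_le (by decide) hS)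
  have hs' := hs
  have ht' := ht
  simp only [Finset.mem_compl, Finset.mem_insert, Finset.mem_singleton, not_or] at hs' ht'
  obtain ⟨g, hg⟩ := C.surj (swap a b * swap s t) (by rw [map_mul, sign_swap h.1, sign_swap hst]; simp)
  have g1 : C.π g a = b := by simp [hg, swap_apply_of_ne_of_ne (Ne.symm hs'.1) (Ne.symm ht'.1)]
  have g2 : C.π g b = a := by simp [hg, swap_apply_of_ne_of_ne (Ne.symm hs'.2.1) (Ne.symm ht'.2.1)]
  have g3 : C.π g c = c := by
    simp [hg, swap_apply_of_ne_of_ne (Ne.symm hs'.2.2) (Ne.symm ht'.2.2),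
      swap_apply_of_ne_of_ne h.2.1.symm h.2.2.symm]
  have sym : ∀ μ ν : k, μ * μ = ν → (∀ w, ρ (C.x a b c) w = ν • w → w ∈ C.Fx ρ {a, b, c}ᶜ) →
      ∀ w, ρ (C.x a b c) w = μ • w → w ∈ C.Fx ρ {a, b, c}ᶜ := fun μ ν e h1 w hw => by
    have h2 : ρ (C.x a b c) (ρ g w) = ν • ρ g w := by
      have h3 := C.mul_x g h.swap
      rw [g1, g2, g3] at h3
      rw [← rep_mul, ← h3, ← C.x_mul_self h, rep_mul, rep_mul, hw, map_smul, hw, smul_smul, e,
        map_smul]
    have h3 := smul_mem_Fx g⁻¹ (h1 _ h2) (T := {a, b, c}ᶜ) fun i hi => by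
      simp only [Finset.mem_compl, Finset.mem_insert, Finset.mem_singleton, not_or, map_inv,
        Perm.inv_eq_iff_eq, g1, g2, g3] at hi ⊢
      exact ⟨hi.2.1, hi.1, hi.2.2⟩
    rwa [← rep_mul, inv_mul_cancel, map_one] at h3
  have k1 : ¬ LinearMap.ker (ρ (C.x a b c) - ω • 1) ≤ C.Fx ρ {a, b, c}ᶜ := fun h1 => by
    have h2 : ∀ w, ρ (C.x a b c) w = ω • w → w ∈ C.Fx ρ {a, b, c}ᶜ := fun w hw =>
      h1 (sub_eq_zero.2 hw)
    refine hB fun w hw => mem_Fx_of_sub hS fun i hi j hj l hl hd =>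
      sym (ω ^ 2) ω (by linear_combination (ω ^ 2 - ω) * hω) h2 _ ?_
    have h3 := sum_eq_zero_of_mem_Wx h hw
    rw [← C.x_mul_self h, rep_mul] at h3
    have h4 := h2 (ρ (C.x a b c) w - ω ^ 2 • w) (by
      rw [map_sub, map_smul]
      linear_combination (norm := module) h3 - hω • ρ (C.x a b c) w + (ω - 1) • hω • w)
      i hi j hj l hl hd
    rw [map_sub, map_smul] at h4
    rw [map_sub, hy hi hj hl hd]
    linear_combination (norm := module) h4
  have k2 : ¬ LinearMap.range (ρ (C.x a b c) - ω • 1) ≤ C.Fx ρ {a, b, c}ᶜ := fun h1 => by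
    by_cases h2 : ω = 1
    · rw [h2, one_smul] at h1
      exact hB h1
    refine k1 fun w hw => sym ω (ω ^ 2) (sq ω).symm (fun w hw => h1 ?_) w (sub_eq_zero.1 hw)
    have h3 : ω ^ 2 - ω ≠ 0 := fun e => h2 (by linear_combination (-ω - 1) * e + (ω - 1) * hω)
    refine ⟨(ω ^ 2 - ω)⁻¹ • w, ?_⟩
    rw [map_smul, LinearMap.sub_apply, hw, LinearMap.smul_apply, End.one_apply, ← sub_smul,
      inv_smul_smul₀ h3]
  have hA : ∀ g, g * C.x a b c = C.x a b c * g → Commute (ρ g) (ρ (C.x a b c) - ω • 1) :=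
    fun g hg => Commute.sub_right (by rw [Commute, SemiconjBy, ← map_mul, hg, map_mul])
      ((Commute.one_right _).smul_right ω)
  have k3 := key _ (fun g hg w hw => by
    rw [Submodule.mem_comap, LinearMap.mem_ker, ← End.mul_apply, ← (hA g hg).eq, End.mul_apply,
      LinearMap.mem_ker.1 hw, map_zero]) k1
  have k4 := key _ (fun g hg => by
    rintro _ ⟨w, rfl⟩
    exact ⟨ρ g w, by rw [← End.mul_apply, ← (hA g hg).eq, End.mul_apply]⟩) k2
  have := LinearMap.finrank_range_add_finrank_ker (ρ (C.x a b c) - ω • 1)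
  omega

theorem exists_emb {m : ℕ} (hm : m ≤ Fintype.card α) : Nonempty (Fin m ↪ α) :=
  Function.Embedding.nonempty_of_card_le (by rwa [Fintype.card_fin])

omit [FiniteDimensional k V] in
theorem ne_zero_of_caseB (h8 : 8 ≤ Fintype.card α) (h : D3 a b c)
    (hB : ¬ C.Wx ρ a b c ≤ C.Fx ρ {a, b, c}ᶜ) (u : Fin 6 ↪ α) :
    (ρ (C.x (u 0) (u 1) (u 2)) - 1) * (ρ (C.x (u 3) (u 4) (u 5)) - 1) ≠ 0 := fun e => by
  refine hB ?_
  rintro _ ⟨w, rfl⟩ i hi j hj l hl hd
  simp only [Finset.mem_compl, Finset.mem_insert, Finset.mem_singleton, not_or] at hi hj hl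
  obtain ⟨g, hg⟩ := C.exists_map_emb h8 ⟨[i, j, l, a, b, c].get, List.Nodup.injective_get
    (by simp [hi, hj, hl, h.1, h.2.1, h.2.2, hd.1, hd.2.1, hd.2.2])⟩ u
  rw [← hg 0, ← hg 1, ← hg 2, ← hg 3, ← hg 4, ← hg 5] at e
  have h1 := LinearMap.congr_fun e (ρ g w)
  have h2 := C.mul_x g hd
  have h3 := C.mul_x g h
  refine sub_eq_zero.1 (rep_inj ρ g (Eq.trans ?_ (h1.trans (map_zero _).symm)))
  simp only [End.mul_apply, LinearMap.sub_apply, End.one_apply, map_sub, ← rep_mul, ← mul_assoc,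
    h2, h3]
  rw [mul_assoc _ g, h3, ← mul_assoc]
  exact sub_sub_sub_comm _ _ _ _

variable [IsAlgClosed k]

theorem bound7' (h8 : 8 ≤ Fintype.card α) (h2 : (2 : k) ≠ 0) (hF : ∀ g, ρ g = 1 → C.π g = 1) :
    7 ≤ finrank k V := by
  obtain ⟨f⟩ := exists_emb h8
  exact (C.res f).bound7 _ h2 (faithful_res f hF)

theorem bound33' (h9 : 9 ≤ Fintype.card α) (h3 : ((3 : ℕ) : k) ≠ 0) (h : D3 a b c)
    (hB : ¬ C.Wx ρ a b c ≤ C.Fx ρ {a, b, c}ᶜ) : 8 ≤ finrank k V := by
  obtain ⟨f⟩ := exists_emb h9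
  refine (C.res f).bound33 (ρ.comp (C.sub f).subtype) h3 ?_
  simp only [MonoidHom.comp_apply, Subgroup.coe_subtype]
  rw [C.res_x f (by unfold D3; decide), C.res_x f (by unfold D3; decide)]
  exact ne_zero_of_caseB (by omega) h hB ((Fin.castLEEmb (by decide)).trans f)

theorem bound55' (h9 : 10 ≤ Fintype.card α) (h5 : ((5 : ℕ) : k) ≠ 0) (h : D3 a b c)
    (hB : ¬ C.Wx ρ a b c ≤ C.Fx ρ {a, b, c}ᶜ) : 10 ≤ finrank k V := by
  obtain ⟨f⟩ := exists_emb h9
  refine (C.res f).bound55 (ρ.comp (C.sub f).subtype) h5 ?_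
  simp only [MonoidHom.comp_apply, Subgroup.coe_subtype]
  rw [C.res_x f (by unfold D3; decide), C.res_x f (by unfold D3; decide)]
  exact ne_zero_of_caseB (by omega) h hB
    ((⟨![5, 8, 6, 0, 3, 1], by decide⟩ : Fin 6 ↪ Fin 10).trans f)

end

universe u v

theorem altDim {k : Type*} [Field k] [IsAlgClosed k] (r : ℕ) : 9 ≤ r → ∀ (n : ℕ) {G : Type u}
    [Group G] (C : AltCov G (Fin r)) {V : Type v} [AddCommGroup V] [Module k V]
    [FiniteDimensional k V] (ρ : Representation k G V), (∀ g, ρ g = 1 → C.π g = 1) →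
    finrank k V = n → r ≤ n + 2 ∧ ((r : k) ≠ 0 → r ≤ n + 1) := by
  induction r using Nat.strong_induction_on with
  | _ r ihr =>
  intro hr n
  induction n using Nat.strong_induction_on with
  | _ n ihn =>
  intro G _ C V _ _ _ ρ hF hn
  have hcard := Fintype.card_fin r
  obtain ⟨u⟩ := exists_emb (α := Fin r) (m := 3) (by omega)
  have hu : D3 (u 0) (u 1) (u 2) := D3.map u.injective (by unfold D3; decide)
  by_cases hirr : ∃ U : Submodule k V, (∀ g, U ≤ U.comap (ρ g)) ∧ U ≠ ⊥ ∧ U ≠ ⊤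
  · obtain ⟨U, hU, h0, h1⟩ := hirr
    have h2 := U.finrank_quotient_add_finrank
    have h3 := Submodule.finrank_lt h1
    have h4 := Submodule.one_le_finrank_iff.2 h0
    by_cases h5 : ∀ g, ρ.subrepresentation U hU g = 1 → C.π g = 1
    · have := ihn _ (by omega) C _ h5 rfl
      exact ⟨by omega, fun h => by have := this.2 h; omega⟩
    by_cases h6 : ∀ g, ρ.quotient U hU g = 1 → C.π g = 1
    · have := ihn _ (by omega) C _ h6 rfl
      exact ⟨by omega, fun h => by have := this.2 h; omega⟩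
    refine (x_ne_one hF hu (LinearMap.ext fun v => mem_Fx_of_sub (S := Finset.univ) (by simp; omega)
      (fun i _ j _ l _ _ i' _ j' _ l' _ _ => ?_) _ (by simp) _ (by simp) _ (by simp) hu)).elim
    have h7 : ρ (C.x i j l) v - v ∈ U := (Submodule.Quotient.eq U).1 (LinearMap.congr_fun
      (not_not.1 fun e => h6 (faithful_of_ne (a := i) (b := j) (c := l) (by omega) e))
      (Submodule.Quotient.mk v))
    exact congrArg Subtype.val (LinearMap.congr_fun
      (not_not.1 fun e => h5 (faithful_of_ne (a := i') (b := j') (c := l') (by omega) e)) ⟨_, h7⟩)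
  push Not at hirr
  by_cases hA : ∀ a b c, D3 a b c → C.Wx ρ a b c ≤ C.Fx ρ {a, b, c}ᶜ
  · rw [← hcard, ← hn]
    refine caseA (by omega) hF (by_contra fun h => x_ne_one hF hu (LinearMap.ext fun v => ?_))
      (fun z hz => or_iff_not_imp_right.2 fun h => ?_) hA
    · have h1 : v ∈ C.Fx ρ Finset.univ :=
        hirr _ (fun g w hw => smul_mem_Fx g hw fun _ _ => Finset.mem_univ _) h ▸ trivial
      exact h1 _ (by simp) _ (by simp) _ (by simp) hu
    · refine sub_eq_zero.1 (LinearMap.ker_eq_top.1 (hirr _ (fun g w hw => ?_) fun e => h fun v hv =>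
        (Submodule.eq_bot_iff _).1 e v (sub_eq_zero.2 hv)))
      have h1 : ρ z w = w := sub_eq_zero.1 hw
      exact sub_eq_zero.2 (by rw [← rep_mul, ← (C.cen z hz).2, rep_mul, h1]; rfl)
  push Not at hA
  obtain ⟨a, b, c, h, hB⟩ := hA
  obtain ⟨f, hf⟩ : ∃ f : Fin (r - 3) ↪ Fin r,
      ∀ i, i ∈ Set.range f ↔ i ∈ ({a, b, c}ᶜ : Finset (Fin r)) :=
    ⟨(({a, b, c}ᶜ : Finset (Fin r)).orderEmbOfFin
      (by rw [Finset.card_compl, card_three h, hcard])).toEmbedding, fun i => by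
        rw [← Finset.mem_coe, ← Finset.range_orderEmbOfFin]; rfl⟩
  have hs := fun m => split (m := m) h f hf (by simp; omega) hB
  have h23 : (2 : k) ≠ 0 ∨ ((3 : ℕ) : k) ≠ 0 := or_iff_not_imp_left.2 fun e e' =>
    one_ne_zero (α := k) (by push_cast at e'; linear_combination e' - not_not.1 e)
  have h25 : (2 : k) ≠ 0 ∨ ((5 : ℕ) : k) ≠ 0 := or_iff_not_imp_left.2 fun e e' =>
    one_ne_zero (α := k) (by push_cast at e'; linear_combination e' - 2 * not_not.1 e)
  have h35 : ((3 : ℕ) : k) ≠ 0 ∨ ((5 : ℕ) : k) ≠ 0 := or_iff_not_imp_left.2 fun e e' =>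
    one_ne_zero (α := k) (by
      rw [not_not] at e; push_cast at e e'; linear_combination 2 * e - e')
  rw [hn] at hs
  rcases (show r = 9 ∨ r = 10 ∨ r = 11 ∨ 12 ≤ r by omega) with rfl | rfl | rfl | h12
  · by_cases h3 : ((3 : ℕ) : k) = 0
    · have := bound7' (by omega) (h23.resolve_right (not_not.2 h3)) hF
      exact ⟨by omega, fun e => absurd (by push_cast at h3 ⊢; linear_combination 3 * h3) e⟩
    · have := bound33' (by omega) h3 h hB
      omega
  · by_cases h5 : ((5 : ℕ) : k) = 0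
    · have := bound33' (by omega) (h35.resolve_right (not_not.2 h5)) h hB
      exact ⟨by omega, fun e => absurd (by push_cast at h5 ⊢; linear_combination 2 * h5) e⟩
    · have := bound55' (by omega) h5 h hB
      omega
  · rcases h25 with h2 | h5
    · have := hs 7 fun U σ hσ => bound7' (by simp) h2 hσ
      omega
    · have := bound55' (by omega) h5 h hB
      omega
  · have := hs (r - 5) fun U σ hσ => by
      have := (ihr (r - 3) (by omega) (by omega) _ (C.res f) σ hσ rfl).1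
      omega
    omega

end AltCov

end Cfsg.Agent.H29
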