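import Mathlib
import Cfsg.Agent.H29.AltDimB
import Cfsg.Agent.H62.ElemAb
import Cfsg.Agent.S0892

/-! Alternating sections of linear groups (the Feit-Tits reduction). -/

set_option autoImplicit false

namespace Cfsg.Agent.H29

open Equiv Equiv.Perm Module
open scoped MatrixGroups

theorem exists_glRep {G F : Type*} [Group G] [Field F] {n : ℕ} (φ : G →* GL (Fin n) F) :
    ∃ ρ : Representation (AlgebraicClosure F) G (Fin n → AlgebraicClosure F),
      ∀ g, ρ g = 1 → φ g = 1 := by
  refine ⟨(Matrix.toLinAlgEquiv' (R := AlgebraicClosure F) (n := Fin n)).toMulEquiv.toMonoidHom.comp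
    (((algebraMap F (AlgebraicClosure F)).mapMatrix.toMonoidHom.comp (Units.coeHom _)).comp φ),
    fun g hg => Units.ext (Matrix.map_injective (algebraMap F (AlgebraicClosure F)).injective ?_)⟩
  have h1 := (map_eq_one_iff _ (Matrix.toLinAlgEquiv' (R := AlgebraicClosure F) (n := Fin n)
    ).injective).1 hg
  exact h1.trans (map_one (algebraMap F (AlgebraicClosure F)).mapMatrix).symm

/-- The alternating group as a cover of itself. -/
def AltCov.self (α : Type*) [Fintype α] [DecidableEq α] : AltCov (alternatingGroup α) α where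
  π := (alternatingGroup α).subtype
  even g := g.2
  surj c hc := ⟨⟨c, hc⟩, rfl⟩
  cen z hz := by
    obtain rfl : z = 1 := Subtype.ext hz
    simp

theorem sq_lt_two_pow {m : ℕ} (h : 5 ≤ m) : m * m < 2 ^ m := by
  induction m, h using Nat.le_induction with
  | base => decide
  | succ m h ih => rw [pow_succ]; nlinarith

theorem alt_gl_dim {F : Type*} [Field F] {r d : ℕ} (hr : 9 ≤ r)
    (φ : alternatingGroup (Fin r) →* GL (Fin d) F) (hφ : Function.Injective φ) : r ≤ d + 2 := by
  obtain ⟨ρ, hρ⟩ := exists_glRep φ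
  exact (AltCov.altDim r hr d (AltCov.self _) ρ (fun g hg => congrArg Subtype.val
    (hφ ((hρ g hg).trans (map_one φ).symm))) (by simp)).1

section

variable {H : Type*} [Group H] [Finite H] {k : Type*} [Field k] [IsAlgClosed k] {V : Type*}
  [AddCommGroup V] [Module k V] [FiniteDimensional k V] {r : ℕ}
  {π : H →* alternatingGroup (Fin r)} {ρ : Representation k H V}

theorem scalar_of_abelian [Nontrivial V] (hπ : Function.Surjective π)
    (hN : ∀ N : Subgroup H, N.Normal → N ≤ π.ker ∨ N = ⊤)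
    (hirr : ∀ U : Submodule k V, (∀ g, U ≤ U.comap (ρ g)) → U ≠ ⊥ → U = ⊤) (hr : 3 ≤ r)
    (hn : finrank k V < r) (A : Subgroup H) [A.Normal] (hA : ∀ a ∈ A, ∀ b ∈ A, a * b = b * a) :
    ∀ a ∈ A, ∃ μ : k, ∀ v, ρ a v = μ • v := by
  obtain ⟨v, -, hv0, μ, hμ⟩ := exists_wt (fun a : A => ρ a) (fun a b => by
    rw [← map_mul, hA a a.2 b b.2, map_mul]) ⊤ top_ne_bot fun _ _ _ => trivial
  letI := MulAction.compHom A (MulAut.conjNormal : H →* MulAut A)
  letI : MulAction H (A → k) := arrowAction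
  have h1 : ∀ (g : H) {w : V}, (∀ a : A, ρ a w = μ a • w) → ∀ a : A,
      ρ a (ρ g w) = (g • μ) a • ρ g w := fun g w hw a => by
    rw [← map_smul, ← rep_mul, show (g • μ) a = μ (MulAut.conjNormal g⁻¹ a) from rfl, ← hw,
      ← rep_mul]
    simp [mul_assoc]
  have : Finite (MulAction.orbit H μ) := (Set.finite_range _).to_subtype
  have := Fintype.ofFinite (MulAction.orbit H μ)
  rcases hN (MulAction.toPermHom H (MulAction.orbit H μ)).ker inferInstance with h | h
  · choose g hg using fun ω : MulAction.orbit H μ => ω.2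
    have h2 := wt_card (fun a : A => ρ a) (fun ω => ρ (g ω) v) (fun ω => ω.1)
      (fun j e => hv0 (rep_inj ρ (g j) (e.trans (map_zero _).symm))) Subtype.val_injective
      fun ω a => by rw [← hg ω]; exact h1 _ hμ a
    have h3 := Subgroup.index_dvd_of_le h
    rw [Subgroup.index_ker, Subgroup.index_ker, MonoidHom.range_eq_top.2 hπ, Subgroup.card_top] at h3
    have h4 := Nat.le_of_dvd Nat.card_pos (h3.trans (Subgroup.card_subgroup_dvd_card _))
    obtain ⟨r, rfl⟩ : ∃ s, r = s + 2 := ⟨r - 2, by omega⟩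
    have h5 := two_mul_nat_card_alternatingGroup (α := Fin (r + 2))
    rw [Nat.card_perm, Nat.card_fin, Nat.factorial_succ] at h5
    rw [Nat.card_perm, Nat.card_eq_fintype_card (α := MulAction.orbit H μ)] at h4
    have h6 := h4.trans (Nat.factorial_le (show _ ≤ r + 1 by omega))
    have := Nat.factorial_pos (r + 1)
    nlinarith
  · have h2 : ∀ g : H, g • μ = μ := fun g => congrArg
      (fun f : Perm (MulAction.orbit H μ) => (f ⟨μ, MulAction.mem_orbit_self μ⟩).1)
      (MonoidHom.mem_ker.1 (h ▸ Subgroup.mem_top g :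
        g ∈ (MulAction.toPermHom H (MulAction.orbit H μ)).ker))
    have h3 := hirr (⨅ a : A, End.eigenspace (ρ a) (μ a)) (fun g w hw => by
      simp only [Submodule.mem_comap, Submodule.mem_iInf, End.mem_eigenspace_iff] at hw ⊢
      exact fun a => (h1 g hw a).trans (by rw [h2])) fun e => hv0 ((Submodule.eq_bot_iff _).1 e v
        (by simpa only [Submodule.mem_iInf, End.mem_eigenspace_iff] using hμ))
    exact fun a ha => ⟨μ ⟨a, ha⟩, fun w => End.mem_eigenspace_iff.1
      ((Submodule.mem_iInf _).1 (h3 ▸ Submodule.mem_top (x := w)) ⟨a, ha⟩)⟩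

theorem ft_core [Nontrivial V] (hr : 9 ≤ r) (hπ : Function.Surjective π)
    (hN : ∀ N : Subgroup H, N.Normal → N ≤ π.ker ∨ N = ⊤) (hK : π.ker ≤ frattini H)
    (hirr : ∀ U : Submodule k V, (∀ g, U ≤ U.comap (ρ g)) → U ≠ ⊥ → U = ⊤)
    (hρ : Function.Injective ρ) [Group.IsPerfect H] :
    r ≤ finrank k V + 2 ∧ ((r : k) ≠ 0 → r ≤ finrank k V + 1) := by
  by_cases hn : finrank k V < r
  swap
  · omega
  have hs := scalar_of_abelian hπ hN hirr (by omega) hn
  by_cases hZ : π.ker ≤ Subgroup.center H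
  · have h1 := S0892.result r (by omega) (by omega) (by omega) π.ker hZ
      (fun _ _ => Group.IsPerfect.mem_commutator) (QuotientGroup.quotientKerEquivOfSurjective π hπ)
    refine AltCov.altDim r hr _ ⟨(alternatingGroup _).subtype.comp π, fun g => (π g).2, fun c hc =>
      (hπ ⟨c, hc⟩).imp fun g hg => congrArg Subtype.val hg, fun z hz => ?_⟩ ρ (fun g hg => ?_) rfl
    · have h2 : z ∈ π.ker := Subtype.ext hz
      refine ⟨?_, Subgroup.mem_center_iff.1 (hZ h2)⟩
      have h3 : z ^ Nat.card π.ker = 1 := congrArg Subtype.val (pow_card_eq_one' (x := (⟨z, h2⟩ : π.ker)))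
      have h4 := Nat.card_pos (α := π.ker)
      obtain h | h : Nat.card π.ker = 1 ∨ Nat.card π.ker = 2 := by omega
      · rw [h, pow_one] at h3
        rw [h3, one_mul]
      · rwa [h, pow_two] at h3
    · rw [hρ (hg.trans (map_one ρ).symm), map_one]
  let p := QuotientGroup.mk' (Subgroup.center H)
  have hp : Function.Surjective p := QuotientGroup.mk'_surjective _
  have hKn : (π.ker.map p).Normal := Subgroup.Normal.map inferInstance p hp
  have := frattini_nilpotent (G := H)
  have := Group.nilpotent_of_mulEquiv (Subgroup.subgroupOfEquivOfLe hK)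
  have := Group.nilpotent_of_surjective _ (p.subgroupMap_surjective π.ker)
  have : Nontrivial (π.ker.map p) := (Subgroup.nontrivial_iff_ne_bot _).2 fun e =>
    hZ (by rwa [Subgroup.map_eq_bot_iff, QuotientGroup.ker_mk'] at e)
  have : Nontrivial (Subgroup.center (π.ker.map p)) :=
    (Subgroup.nontrivial_iff_ne_bot _).2 (Group.IsNilpotent.center_ne_bot _)
  obtain ⟨s, hs', h1⟩ := Nat.exists_prime_and_dvd (Finite.one_lt_card
    (α := Subgroup.center (π.ker.map p))).ne'
  have := Fact.mk hs'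
  obtain ⟨y, hy⟩ := exists_prime_orderOf_dvd_card' s h1
  let Q : Subgroup (H ⧸ Subgroup.center H) :=
    { carrier := {y | y ∈ π.ker.map p ∧ (∀ b ∈ π.ker.map p, b * y = y * b) ∧ y ^ s = 1}
      mul_mem' := fun {a b} ha hb => ⟨mul_mem ha.1 hb.1, fun c hc => by
        rw [← mul_assoc, ha.2.1 c hc, mul_assoc, hb.2.1 c hc, mul_assoc], by
        rw [Commute.mul_pow (hb.2.1 a ha.1), ha.2.2, hb.2.2, one_mul]⟩
      one_mem' := ⟨one_mem _, by simp, one_pow s⟩
      inv_mem' := fun {a} ha => ⟨inv_mem ha.1, fun c hc => (Commute.inv_right (ha.2.1 c hc)).eq, by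
        rw [inv_pow, ha.2.2, inv_one]⟩ }
  have hQ : Q.Normal := ⟨fun a ha g => ⟨hKn.conj_mem a ha.1 g, fun c hc => by
    have := ha.2.1 _ (hKn.conj_mem' c hc g)
    calc _ = g * (g⁻¹ * c * g * a) * g⁻¹ := by group
      _ = _ := by rw [this]; group, by rw [conj_pow, ha.2.2, mul_one, mul_inv_cancel]⟩⟩
  obtain ⟨d, hd, φ, hφ⟩ := H62.exists_hom_GL_ker_eq_centralizer Q (p := s)
    ⟨⟨fun a b => Subtype.ext (b.2.2.1 a a.2.1)⟩⟩ fun a ha => ha.2.2
  have h2 : π.ker ≤ (φ.comp p).ker := fun g hg => by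
    rw [← MonoidHom.comap_ker, hφ]
    exact fun q hq => (hq.2.1 _ ⟨g, hg, rfl⟩).symm
  have h3 : (φ.comp p).ker ≤ π.ker := (hN _ inferInstance).resolve_right fun e => by
    have h4 : (y : H ⧸ Subgroup.center H) ∈ Subgroup.center _ := Subgroup.mem_center_iff.2 fun g => by
      obtain ⟨g, rfl⟩ := hp g
      have h5 : g ∈ (φ.comp p).ker := e ▸ Subgroup.mem_top g
      rw [← MonoidHom.comap_ker, hφ] at h5
      refine (h5 _ ⟨y.1.2, fun b hb => congrArg Subtype.val
        (Subgroup.mem_center_iff.1 y.2 ⟨b, hb⟩), ?_⟩).symm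
      exact congrArg (fun a : Subgroup.center (π.ker.map p) => a.1.1) (hy ▸ pow_orderOf_eq_one y :
        y ^ s = 1)
    rw [Group.IsPerfect.center_quotient_center_eq_bot] at h4
    rw [show y = 1 from Subtype.ext (Subtype.ext h4), orderOf_one] at hy
    exact hs'.one_lt.ne hy
  have h4 := alt_gl_dim hr (π.liftOfSurjective hπ ⟨_, h2⟩) ((injective_iff_map_eq_one _).2
    fun a ha => by
      obtain ⟨g, rfl⟩ := hπ a
      rw [MonoidHom.liftOfRightInverse_comp_apply] at ha
      exact h3 ha)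
  choose q hq hq' using fun a : Q => a.2.1
  have h5 : ∀ (a : Q) (b : π.ker), b * q a * (b : H)⁻¹ * (q a)⁻¹ ∈ Subgroup.center H := fun a b => by
    rw [← QuotientGroup.ker_mk' (Subgroup.center H), MonoidHom.mem_ker]
    change p _ = 1
    rw [map_mul, map_mul, map_mul, map_inv, map_inv, hq', a.2.2.1 _ ⟨b, b.2, rfl⟩]
    group
  choose μ hμ using fun a b => hs (Subgroup.center H)
    (fun a _ b hb => Subgroup.mem_center_iff.1 hb a) _ (h5 a b)
  have := Fintype.ofFinite Q
  have h6 := wt_card (V := End k V) (fun b : π.ker => (LinearMap.mulLeft k (ρ b)).comp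
    (LinearMap.mulRight k (ρ (b : H)⁻¹))) (fun a => ρ (q a)) μ (fun a e => by
      obtain ⟨v, hv⟩ := exists_ne (0 : V)
      exact hv (rep_inj ρ (q a) (by rw [e]; rfl))) (fun a a' e => ?_) fun a b => by
      ext v
      simp only [LinearMap.comp_apply, LinearMap.mulLeft_apply, LinearMap.mulRight_apply,
        LinearMap.smul_apply, ← hμ, ← map_mul, ← rep_mul, mul_assoc, inv_mul_cancel, mul_one]
  · rw [finrank_linearMap, ← Nat.card_eq_fintype_card, hd] at h6
    have h7 : 2 ^ (r - 2) ≤ s ^ d :=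
      (Nat.pow_le_pow_right two_pos (by omega)).trans (Nat.pow_le_pow_left hs'.two_le d)
    have h8 := sq_lt_two_pow (m := r - 2) (by omega)
    have h9 : r - 2 < finrank k V := by
      by_contra h
      have := Nat.mul_le_mul (not_lt.1 h) (not_lt.1 h)
      omega
    omega
  obtain ⟨ν, hν⟩ := hs (π.ker ⊓ Subgroup.centralizer π.ker) (fun a ha b hb => hb.2 a ha.1)
    ((q a')⁻¹ * q a) ⟨π.ker.mul_mem (π.ker.inv_mem (hq a')) (hq a), fun b hb => by
      have h7 : b⁻¹ * q a * (b⁻¹)⁻¹ * (q a)⁻¹ = b⁻¹ * q a' * (b⁻¹)⁻¹ * (q a')⁻¹ :=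
        hρ (LinearMap.ext fun v => by
          rw [hμ a ⟨_, inv_mem hb⟩, hμ a' ⟨_, inv_mem hb⟩, e])
      calc _ = (q a')⁻¹ * b * (b⁻¹ * q a' * (b⁻¹)⁻¹ * (q a')⁻¹) * q a := by group
        _ = _ := by rw [← h7]; group⟩
  have h7 : (q a')⁻¹ * q a ∈ Subgroup.center H := Subgroup.mem_center_iff.2 fun g =>
    hρ (LinearMap.ext fun v => by rw [rep_mul, rep_mul ρ _ g, hν, hν, map_smul])
  exact Subtype.ext (by rw [← hq', ← hq']; exact (QuotientGroup.eq.2 h7).symm)

end

universe u v

theorem feitTits {k : Type*} [Field k] [IsAlgClosed k] {r : ℕ} (hr : 9 ≤ r) (N : ℕ) :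
    ∀ {H : Type u} [Group H] [Finite H] (π : H →* alternatingGroup (Fin r)),
    Function.Surjective π → ∀ {V : Type v} [AddCommGroup V] [Module k V] [FiniteDimensional k V]
    (ρ : Representation k H V), ρ.ker ≤ π.ker → Nat.card H + finrank k V = N →
    r ≤ finrank k V + 2 ∧ ((r : k) ≠ 0 → r ≤ finrank k V + 1) := by
  induction N using Nat.strong_induction_on with
  | _ N ih =>
  intro H _ _ π hπ V _ _ _ ρ hρ hN
  by_cases hmin : ∃ M : Subgroup H, Function.Surjective (π.comp M.subtype) ∧ M ≠ ⊤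
  · obtain ⟨M, h1, h2⟩ := hmin
    have := lt_of_le_of_ne M.card_le_card_group (mt (Subgroup.eq_top_of_card_eq M) h2)
    exact ih _ (by omega) _ h1 (ρ.comp M.subtype) (fun g hg => hρ hg) rfl
  push Not at hmin
  by_cases hker : ρ.ker = ⊥
  swap
  · have h1 := Subgroup.card_eq_card_quotient_mul_card_subgroup ρ.ker
    have h2 := (Subgroup.one_lt_card_iff_ne_bot _).2 hker
    have h3 := Nat.card_pos (α := H ⧸ ρ.ker)
    refine ih _ (by nlinarith) (QuotientGroup.lift ρ.ker π hρ) (fun a => (hπ a).elim fun g h => ⟨g, h⟩)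
      (QuotientGroup.lift ρ.ker ρ le_rfl) (fun g hg => ?_) rfl
    obtain ⟨g, rfl⟩ := QuotientGroup.mk_surjective g
    exact hρ hg
  have hs := alternatingGroup.isSimpleGroup (α := Fin r) (by rw [Nat.card_fin]; omega)
  have hm : ∀ M : Subgroup H, M.map π = ⊤ → M = ⊤ := fun M h => hmin M fun a => by
    obtain ⟨g, hg, e⟩ : a ∈ M.map π := h ▸ Subgroup.mem_top a
    exact ⟨⟨g, hg⟩, e⟩
  have hn : ∀ M : Subgroup H, M.Normal → M ≤ π.ker ∨ M = ⊤ := fun M h =>
    (h.map π hπ).eq_bot_or_eq_top.imp (Subgroup.map_eq_bot_iff _).1 (hm M)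
  have hp : Group.IsPerfect H := ⟨hm _ (by
    rw [map_commutator_eq, MonoidHom.range_eq_top.2 hπ]
    exact commutator_alternatingGroup_eq_top (by rw [Nat.card_fin]; omega))⟩
  have : Nontrivial H := hπ.nontrivial
  have hi : ∀ g, ρ g = 1 → g = 1 := fun g hg => Subgroup.mem_bot.1 (hker ▸ MonoidHom.mem_ker.2 hg)
  by_cases hirr : ∃ U : Submodule k V, (∀ g, U ≤ U.comap (ρ g)) ∧ U ≠ ⊥ ∧ U ≠ ⊤
  · obtain ⟨U, hU, h0, h1⟩ := hirr
    have h2 := U.finrank_quotient_add_finrank
    have h3 := Submodule.finrank_lt h1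
    have h4 := Submodule.one_le_finrank_iff.2 h0
    rcases hn (ρ.subrepresentation U hU).ker inferInstance with h5 | h5
    · have := ih _ (by omega) π hπ _ h5 rfl
      exact ⟨by omega, fun h => by have := this.2 h; omega⟩
    rcases hn (ρ.quotient U hU).ker inferInstance with h6 | h6
    · have := ih _ (by omega) π hπ _ h6 rfl
      exact ⟨by omega, fun h => by have := this.2 h; omega⟩
    refine (Group.IsPerfect.not_isMulCommutative (G := H) ⟨⟨fun a b => ?_⟩⟩).elim
    have h7 : ∀ g v, ρ g v - v ∈ U := fun g v => (Submodule.Quotient.eq U).1 (LinearMap.congr_fun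
      (MonoidHom.mem_ker.1 (h6 ▸ Subgroup.mem_top g : g ∈ (ρ.quotient U hU).ker))
      (Submodule.Quotient.mk v))
    have h8 : ∀ g g' v, ρ g (ρ g' v) - ρ g v = ρ g' v - v := fun g g' v => by
      rw [← map_sub]
      exact congrArg Subtype.val (LinearMap.congr_fun (MonoidHom.mem_ker.1
        (h5 ▸ Subgroup.mem_top g : g ∈ (ρ.subrepresentation U hU).ker)) ⟨_, h7 g' v⟩)
    refine (injective_iff_map_eq_one ρ).2 hi (LinearMap.ext fun v => ?_)
    rw [rep_mul, rep_mul]
    linear_combination (norm := abel1) h8 a b v - h8 b a v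
  push Not at hirr
  have : Nontrivial V := by
    by_contra h
    obtain ⟨g, hg⟩ := exists_ne (1 : H)
    have := not_nontrivial_iff_subsingleton.1 h
    exact hg (hi g (Subsingleton.elim _ _))
  refine ft_core hr hπ hn (le_iInf₂ fun M hM => ?_) hirr ((injective_iff_map_eq_one ρ).2 hi)
  by_contra h
  refine hM.1 (hm M ?_)
  rw [← sup_bot_eq (M.map π), ← (Subgroup.map_eq_bot_iff _).2 (le_refl π.ker), ← Subgroup.map_sup,
    hM.2 _ (left_lt_sup.2 h), Subgroup.map_top_of_surjective _ hπ]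

end Cfsg.Agent.H29
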