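import Mathlib
import Cfsg.Agent.H29.AltDimFT
import Cfsg.Agent.H34.AltSec

/-! Alternating sections: minimal covers, sectional ranks, coprime lifting. -/

set_option autoImplicit false

namespace Cfsg.Agent.H29

open Equiv

universe u

theorem exists_altCover {G : Type u} [Group G] {H : Subgroup G} {K : Subgroup H} [K.Normal]
    {r n : ℕ} (e : H ⧸ K ≃* alternatingGroup (Fin r)) (hn : n ≤ r) :
    ∃ (Γ : Type u) (_ : Group Γ) (j : Γ →* G) (π : Γ →* alternatingGroup (Fin n)),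
      Function.Injective j ∧ Function.Surjective π := by
  obtain ⟨f, hf⟩ := H34.exists_altEmb hn
  let φ := e.toMonoidHom.comp (QuotientGroup.mk' K)
  have hφ : Function.Surjective φ := e.surjective.comp (QuotientGroup.mk'_surjective K)
  refine ⟨f.range.comap φ, inferInstance, H.subtype.comp (Subgroup.subtype _),
    (MonoidHom.ofInjective hf).symm.toMonoidHom.comp (φ.subgroupComap f.range),
    H.subtype_injective.comp (Subgroup.subtype_injective _),
    (MonoidHom.ofInjective hf).symm.surjective.comp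
      (φ.subgroupComap_surjective_of_surjective _ hφ)⟩

/-- Elementary abelian `s`-sections have order at most `s ^ d`. -/
def SRank (s d : ℕ) (Γ : Type*) [Group Γ] : Prop :=
  ∀ P M : Subgroup Γ, IsPGroup s P → (∀ a ∈ P, a ^ s ∈ M) →
    (∀ a ∈ P, ∀ b ∈ P, a * b * a⁻¹ * b⁻¹ ∈ M) → M.relIndex P ≤ s ^ d

theorem SRank.of_injective {s d : ℕ} {Γ A : Type*} [Group Γ] [Group A] (h : SRank s d Γ)
    (f : A →* Γ) (hf : Function.Injective f) : SRank s d A := fun P M hP h1 h2 => by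
  rw [← Subgroup.comap_map_eq_self_of_injective hf M, Subgroup.relIndex_comap]
  refine h _ _ (hP.map f) ?_ ?_
  · rintro _ ⟨a, ha, rfl⟩
    exact ⟨_, h1 a ha, map_pow _ _ _⟩
  · rintro _ ⟨a, ha, rfl⟩ _ ⟨b, hb, rfl⟩
    exact ⟨_, h2 a ha b hb, by simp⟩

theorem SRank.of_surjective {s d : ℕ} [Fact s.Prime] {Γ A : Type*} [Group Γ] [Finite Γ] [Group A]
    (h : SRank s d Γ) (f : Γ →* A) (hf : Function.Surjective f) : SRank s d A :=
  fun P M hP h1 h2 => by
  obtain ⟨Q, hQ, rfl, -⟩ := H51.exists_isPGroup_map_normalizer hf hP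
  rw [← Subgroup.relIndex_comap]
  exact h _ _ hQ (fun a ha => by simpa using h1 _ ⟨a, ha, rfl⟩)
    fun a ha b hb => by simpa using h2 _ ⟨a, ha, rfl⟩ _ ⟨b, hb, rfl⟩

theorem SRank.mono {s d d' : ℕ} (hs : 0 < s) {Γ : Type*} [Group Γ] (h : SRank s d Γ) (hd : d ≤ d') :
    SRank s d' Γ := fun P M hP h1 h2 => (h P M hP h1 h2).trans (Nat.pow_le_pow_right hs hd)

theorem kred_core {r s : ℕ} (hr : 9 ≤ r) [hs : Fact s.Prime] (h2 : s ≠ 2) (N : ℕ) :
    ∀ {H : Type u} [Group H] [Finite H] (π : H →* alternatingGroup (Fin r)),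
    Function.Surjective π → (∀ M : Subgroup H, M.map π = ⊤ → M = ⊤) → SRank s (r - 3) H →
    Nat.card H = N → ¬ s ∣ Nat.card π.ker := by
  induction N using Nat.strong_induction_on with
  | _ N ih =>
  intro H _ _ π hπ hm hR hN hd
  by_cases h0 : ∃ L : Subgroup H, L.Normal ∧ L ≤ π.ker ∧ L ≠ ⊥ ∧ s ∣ L.relIndex π.ker
  · obtain ⟨L, _, h1, h3, h4⟩ := h0
    have h5 := Subgroup.card_eq_card_quotient_mul_card_subgroup L
    have h6 := (Subgroup.one_lt_card_iff_ne_bot _).2 h3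
    have h7 := Nat.card_pos (α := H ⧸ L)
    have h8 := QuotientGroup.mk'_surjective L
    refine ih _ (by nlinarith) (QuotientGroup.lift L π h1) (fun a => (hπ a).elim fun g h => ⟨g, h⟩)
      (fun M hM => ?_) (hR.of_surjective _ h8) rfl ?_
    · rw [← Subgroup.map_comap_eq_self_of_surjective h8 M] at hM ⊢
      rw [Subgroup.map_map] at hM
      rw [hm _ hM, Subgroup.map_top_of_surjective _ h8]
    · rwa [QuotientGroup.ker_lift, ← Subgroup.relIndex_ker, QuotientGroup.ker_mk']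
  push Not at h0
  have hK : IsPGroup s π.ker := by
    refine IsPGroup.of_card (Nat.eq_prime_pow_of_unique_prime_dvd Nat.card_pos.ne' fun {t} ht h1 => ?_)
    have := Fact.mk ht
    obtain ⟨T⟩ : Nonempty (Sylow t π.ker) := inferInstance
    have h3 := T.normalizer_sup_eq_top
    have h4 : Subgroup.normalizer (((T : Subgroup π.ker).map π.ker.subtype : Subgroup H) : Set H) = ⊤ :=
      hm _ (by
        rw [← sup_bot_eq (Subgroup.map _ _), ← (Subgroup.map_eq_bot_iff _).2 (le_refl π.ker),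
          ← Subgroup.map_sup, h3, Subgroup.map_top_of_surjective _ hπ])
    have h5 := h0 _ (Subgroup.normalizer_eq_top_iff.1 h4) (Subgroup.map_subtype_le _) (by
      rw [Ne, Subgroup.map_eq_bot_iff_of_injective _ (Subgroup.subtype_injective _)]
      exact T.ne_bot_of_dvd_card h1)
    rw [Subgroup.relIndex, Subgroup.subgroupOf, Subgroup.comap_map_eq_self_of_injective
      (Subgroup.subtype_injective _)] at h5
    obtain ⟨k, hk⟩ := T.isPGroup'.exists_card_eq
    rw [← (T : Subgroup π.ker).card_mul_index, hk] at hd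
    exact ((Nat.prime_dvd_prime_iff_eq hs.out ht).1 (hs.out.dvd_of_dvd_pow
      ((hs.out.dvd_mul.1 hd).resolve_right h5))).symm
  have : Nontrivial π.ker := Finite.one_lt_card_iff_nontrivial.1
    (hs.out.one_lt.trans_le (Nat.le_of_dvd Nat.card_pos hd))
  have := hK.center_nontrivial
  obtain ⟨y, hy⟩ := exists_prime_orderOf_dvd_card' (G := Subgroup.center π.ker) s
    ((hK.to_subgroup _).card_eq_or_dvd.resolve_left Finite.one_lt_card.ne')
  let Q : Subgroup H :=
    { carrier := {y | y ∈ π.ker ∧ (∀ b ∈ π.ker, b * y = y * b) ∧ y ^ s = 1}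
      mul_mem' := fun {a b} ha hb => ⟨mul_mem ha.1 hb.1, fun c hc => by
        rw [← mul_assoc, ha.2.1 c hc, mul_assoc, hb.2.1 c hc, mul_assoc], by
        rw [Commute.mul_pow (hb.2.1 a ha.1), ha.2.2, hb.2.2, one_mul]⟩
      one_mem' := ⟨one_mem _, by simp, one_pow s⟩
      inv_mem' := fun {a} ha => ⟨inv_mem ha.1, fun c hc => (Commute.inv_right (ha.2.1 c hc)).eq, by
        rw [inv_pow, ha.2.2, inv_one]⟩ }
  have hQ : Q.Normal := ⟨fun a ha g => ⟨π.normal_ker.conj_mem a ha.1 g, fun c hc => by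
    have := ha.2.1 _ (π.normal_ker.conj_mem' c hc g)
    calc _ = g * (g⁻¹ * c * g * a) * g⁻¹ := by group
      _ = _ := by rw [this]; group, by rw [conj_pow, ha.2.2, mul_one, mul_inv_cancel]⟩⟩
  have h3 := h0 Q hQ (fun a ha => ha.1) fun e => by
    have h4 : (y : H) ∈ Q := ⟨y.1.2, fun b hb => congrArg Subtype.val
      (Subgroup.mem_center_iff.1 y.2 ⟨b, hb⟩),
      congrArg (fun a : Subgroup.center π.ker => a.1.1) (hy ▸ pow_orderOf_eq_one y : y ^ s = 1)⟩
    rw [e, Subgroup.mem_bot] at h4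
    rw [show y = 1 from Subtype.ext (Subtype.ext h4), orderOf_one] at hy
    exact hs.out.one_lt.ne hy
  obtain ⟨k, hk⟩ := hK.index (Q.subgroupOf π.ker)
  have h4 : π.ker ≤ Q := by
    rw [← Subgroup.relIndex_eq_one, Subgroup.relIndex, hk]
    rcases k with _ | k
    · rfl
    · exact absurd ((dvd_pow_self s k.succ_ne_zero).trans hk.symm.dvd) h3
  obtain ⟨d, hd', φ, hφ⟩ := H62.exists_hom_GL_ker_eq_centralizer π.ker (p := s)
    ⟨⟨fun a b => Subtype.ext ((h4 b.2).2.1 a a.2)⟩⟩ fun a ha => (h4 ha).2.2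
  have h5 := hR π.ker ⊥ hK (fun a ha => (h4 ha).2.2) fun a ha b hb => by
    rw [(h4 hb).2.1 a ha]; simp
  rw [Subgroup.relIndex_bot_left, hd', Nat.pow_le_pow_iff_right hs.out.one_lt] at h5
  have hA := alternatingGroup.isSimpleGroup (α := Fin r) (by rw [Nat.card_fin]; omega)
  rcases (φ.normal_ker.map π hπ).eq_bot_or_eq_top with h6 | h6
  · obtain ⟨ρ, hρ⟩ := exists_glRep φ
    have := (feitTits hr _ π hπ ρ (fun g hg => (Subgroup.map_eq_bot_iff _).1 h6 (hρ g hg)) rfl).1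
    rw [Module.finrank_fin_fun] at this
    omega
  have h7 := hm _ h6
  have h8 : commutator H = ⊤ := hm _ (by
    rw [map_commutator_eq, MonoidHom.range_eq_top.2 hπ]
    exact commutator_alternatingGroup_eq_top (by rw [Nat.card_fin]; omega))
  have h9 := S0892.result r (by omega) (by omega) (by omega) π.ker (fun a ha =>
    Subgroup.mem_center_iff.2 fun g => ((hφ ▸ h7 ▸ Subgroup.mem_top g :
      g ∈ Subgroup.centralizer (π.ker : Set H)) a ha).symm) (h8 ▸ le_top)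
    (QuotientGroup.quotientKerEquivOfSurjective π hπ)
  have := hs.out.two_le
  have := Nat.le_of_dvd Nat.card_pos hd
  omega

theorem kred {r : ℕ} (hr : 9 ≤ r) {Γ : Type u} [Group Γ] [Finite Γ]
    (π : Γ →* alternatingGroup (Fin r)) (hπ : Function.Surjective π) :
    ∃ M : Subgroup Γ, Function.Surjective (π.comp M.subtype) ∧ ∀ s : ℕ, s.Prime → s ≠ 2 →
      SRank s (r - 3) Γ → ¬ s ∣ Nat.card (π.comp M.subtype).ker := by
  obtain ⟨M, hM⟩ := exists_minimal_of_wellFoundedLT (fun M : Subgroup Γ => M.map π = ⊤)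
    ⟨⊤, Subgroup.map_top_of_surjective _ hπ⟩
  have h1 : Function.Surjective (π.comp M.subtype) := fun a => by
    obtain ⟨g, hg, e⟩ : a ∈ M.map π := hM.1 ▸ Subgroup.mem_top a
    exact ⟨⟨g, hg⟩, e⟩
  refine ⟨M, h1, fun s hs h2 hR => ?_⟩
  have := Fact.mk hs
  refine kred_core hr h2 _ _ h1 (fun L hL => ?_) (hR.of_injective _ M.subtype_injective) rfl
  rw [← Subgroup.map_map] at hL
  exact top_unique fun g _ => by
    obtain ⟨a, ha, e⟩ := hM.2 hL (Subgroup.map_subtype_le _) g.2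
    exact Subtype.ext e ▸ ha

section lift

variable {Γ A : Type*} [Group Γ] [Finite Γ] [Group A] {π : Γ →* A} {s : ℕ} [hs : Fact s.Prime]

theorem lift_inj (h : ¬ s ∣ Nat.card π.ker) {P : Subgroup Γ} (hP : IsPGroup s P) {a b : Γ}
    (ha : a ∈ P) (hb : b ∈ P) (e : π a = π b) : a = b := by
  obtain ⟨k, hk⟩ := hP ⟨a⁻¹ * b, mul_mem (inv_mem ha) hb⟩
  have h1 : a⁻¹ * b ∈ π.ker := by rw [MonoidHom.mem_ker, map_mul, map_inv, e, inv_mul_cancel]
  have h2 := Nat.dvd_gcd (orderOf_dvd_of_pow_eq_one (congrArg Subtype.val hk))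
    (π.ker.orderOf_dvd_natCard h1)
  rw [((hs.out.coprime_iff_not_dvd.2 h).pow_left k), Nat.dvd_one, orderOf_eq_one_iff] at h2
  exact inv_mul_eq_one.1 h2

/-- An element normalising the image of a coprime `s`-subgroup lifts. -/
theorem lift_norm (hπ : Function.Surjective π) (h : ¬ s ∣ Nat.card π.ker) {P : Subgroup Γ}
    (hP : IsPGroup s P) {y : A} (hy : ∀ a ∈ P, ∃ b ∈ P, y * π a * y⁻¹ = π b) :
    ∃ g, π g = y ∧ ∀ a ∈ P, ∀ b ∈ P, y * π a * y⁻¹ = π b → g * a * g⁻¹ = b := by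
  obtain ⟨g, rfl⟩ := hπ y
  have h1 : ¬ s ∣ (P.subgroupOf (P ⊔ π.ker)).index := fun hd => h (by
    have h2 := (P.subgroupOf (P ⊔ π.ker)).card_mul_index
    have h3 := (π.ker.subgroupOf (P ⊔ π.ker)).card_mul_index
    have h4 := (π.ker.subgroupOf P).card_mul_index
    rw [Nat.card_congr (Subgroup.subgroupOfEquivOfLe le_sup_left).toEquiv] at h2
    rw [Nat.card_congr (Subgroup.subgroupOfEquivOfLe le_sup_right).toEquiv, ← Subgroup.relIndex,
      Subgroup.relIndex_sup_right, ← h2, ← h4, mul_right_comm] at h3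
    rw [Nat.eq_of_mul_eq_mul_right (Nat.pos_of_ne_zero Subgroup.index_ne_zero_of_finite) h3]
    exact hd.mul_left _)
  obtain ⟨u, hu⟩ := H34.exists_conj_le h1
    ((hP.map (MulAut.conj g).toMonoidHom).comap_subtype (K := P ⊔ π.ker))
  have h2 : π u ∈ P.map π := by
    have := Subgroup.mem_map_of_mem π u.2
    rwa [Subgroup.map_sup, (Subgroup.map_eq_bot_iff _).2 le_rfl, sup_bot_eq] at this
  obtain ⟨p, hp, e⟩ := h2
  refine ⟨p⁻¹ * u * g, by simp [e], fun a ha b hb e' => lift_inj h hP ?_ hb (by simp [← e', e])⟩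
  obtain ⟨c, hc, e1⟩ := hy a ha
  have h3 := hu ⟨g * a * g⁻¹, by
    rw [← mul_inv_cancel_left c (g * a * g⁻¹)]
    exact Subgroup.mul_mem_sup hc (by simp [MonoidHom.mem_ker, e1])⟩ ⟨a, ha, rfl⟩
  have h4 := P.mul_mem (P.mul_mem (P.inv_mem hp) h3) hp
  simpa [mul_assoc] using h4

theorem lift_gen (hπ : Function.Surjective π) (h : ¬ s ∣ Nat.card π.ker) {P : Subgroup Γ}
    (hP : IsPGroup s P) {S : Set Γ} (hS : S ⊆ P) {y : A}
    (hy : ∀ a ∈ S, ∃ b ∈ Subgroup.closure S, y * π a * y⁻¹ = π b) :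
    ∃ g, π g = y ∧ ∀ a ∈ Subgroup.closure S, (g * a * g⁻¹ ∈ Subgroup.closure S) ∧
      ∀ b ∈ P, y * π a * y⁻¹ = π b → g * a * g⁻¹ = b := by
  have h1 := (Subgroup.closure_le P).2 hS
  have h2 : ∀ a ∈ Subgroup.closure S, ∃ b ∈ Subgroup.closure S, y * π a * y⁻¹ = π b := by
    intro a ha
    induction ha using Subgroup.closure_induction with
    | mem a ha => exact hy a ha
    | one => exact ⟨1, one_mem _, by simp⟩
    | mul a b _ _ iha ihb =>
      obtain ⟨c, hc, e⟩ := iha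
      obtain ⟨d, hd, e'⟩ := ihb
      exact ⟨c * d, mul_mem hc hd, by simp [← e, ← e', mul_assoc]⟩
    | inv a _ ih =>
      obtain ⟨c, hc, e⟩ := ih
      exact ⟨c⁻¹, inv_mem hc, by simp [← e, mul_assoc]⟩
  obtain ⟨g, rfl, hg⟩ := lift_norm hπ h (hP.to_le h1) h2
  refine ⟨g, rfl, fun a ha => ?_⟩
  obtain ⟨c, hc, e⟩ := h2 a ha
  rw [hg a ha c hc e]
  exact ⟨hc, fun b hb e' => lift_inj h hP (h1 hc) hb (e.symm.trans e')⟩

end lift

theorem isPGroup_closure_of_comm {G : Type*} [Group G] {s : ℕ} {S : Set G}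
    (h1 : ∀ a ∈ S, a ^ s = 1) (h2 : ∀ a ∈ S, ∀ b ∈ S, a * b = b * a) :
    IsPGroup s (Subgroup.closure S) := by
  have h3 : ∀ a ∈ Subgroup.closure S, ∀ b ∈ Subgroup.closure S, a * b = b * a := fun a ha b hb =>
    congrArg Subtype.val ((Subgroup.isMulCommutative_closure h2).is_comm.comm ⟨a, ha⟩ ⟨b, hb⟩)
  rintro ⟨a, ha⟩
  refine ⟨1, Subtype.ext ?_⟩
  rw [pow_one, Subgroup.coe_pow, Subgroup.coe_one]
  induction ha using Subgroup.closure_induction with
  | mem a ha => exact h1 a ha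
  | one => exact one_pow _
  | mul a b ha hb iha ihb => rw [Commute.mul_pow (h3 a ha b hb), iha, ihb, one_mul]
  | inv a _ ih => rw [inv_pow, ih, inv_one]

/-- The Frattini argument for an element normalising a subgroup. -/
theorem frattini_elt {G : Type*} [Group G] [Finite G] {s : ℕ} [Fact s.Prime] {C Q : Subgroup G}
    (hQ : IsPGroup s Q) (h : Q ≤ C) {g : G} (hg : ∀ c ∈ C, g * c * g⁻¹ ∈ C) :
    ∃ A : Subgroup G, Q ≤ A ∧ IsPGroup s A ∧ ∃ c ∈ C, c * g ∈ Subgroup.normalizer (A : Set G) := by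
  obtain ⟨T, hT⟩ := (hQ.comap_subtype (K := C)).exists_le_sylow
  have hA := T.isPGroup'.map C.subtype
  obtain ⟨u, hu⟩ := H34.exists_conj_le T.not_dvd_index
    ((hA.map (MulAut.conj g).toMonoidHom).comap_subtype (K := C))
  refine ⟨(T : Subgroup C).map C.subtype, fun a ha => ⟨⟨a, h ha⟩, hT ha, rfl⟩, hA, u, u.2,
    Subgroup.mem_normalizer_fintype ?_⟩
  rintro _ ⟨a, ha, rfl⟩
  exact ⟨_, hu ⟨g * a * g⁻¹, hg _ a.2⟩ ⟨a, ⟨a, ha, rfl⟩, rfl⟩, by simp [mul_assoc]⟩

end Cfsg.Agent.H29
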