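import Mathlib
import Cfsg.Agent.H34.WAdj

/-! Additive functions on roots: the alcove lemma and certified finite checks. -/

set_option autoImplicit false

namespace Cfsg.Agent.H29

open Equiv Cfsg.Lie H37 H40 H34 Finset

section RS

variable {ι Φ : Type*} [Fintype ι] [DecidableEq ι] {R : RS ι Φ} {f g : Φ → ℤ}

variable (R) in
/-- An additive function on the roots. -/
def IsAdd (f : Φ → ℤ) : Prop := ∀ r, f r = ∑ j, R.rc r j * f (R.simple j)

theorem isAdd_of (v : ι → ℤ) (h : ∀ r, f r = ∑ j, R.rc r j * v j) : IsAdd R f := fun r => by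
  rw [h r]
  refine sum_congr rfl fun j _ => ?_
  simp [h, R.rc_simple, Pi.single_apply]

theorem IsAdd.comp (hf : IsAdd R f) {w : Perm Φ} (hw : w ∈ R.W) : IsAdd R fun r => f (w r) :=
  fun r => by
  simp only [hf (w _), R.rc_W hw r, Finset.sum_apply, Pi.smul_apply, smul_eq_mul, sum_mul, mul_sum,
    mul_assoc]
  exact sum_comm

theorem IsAdd.add (hf : IsAdd R f) (hg : IsAdd R g) : IsAdd R fun r => f r + g r := fun r => by
  simp only [hf r, hg r, mul_add, sum_add_distrib]

theorem IsAdd.mul (hf : IsAdd R f) (c : ℤ) : IsAdd R fun r => c * f r := fun r => by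
  simp only [hf r, mul_sum, mul_left_comm]

theorem IsAdd.sub (hf : IsAdd R f) (hg : IsAdd R g) : IsAdd R fun r => f r - g r := fun r => by
  simp only [hf r, hg r, mul_sub, sum_sub_distrib]

theorem isAdd_rc (i : ι) : IsAdd R fun r => R.rc r i := fun r => by
  simp [R.rc_simple, Pi.single_apply]

theorem isAdd_pair (b : Φ) : IsAdd R (R.pair b) := fun r => R.cp_eq_sum b (R.rc r)

theorem isAdd_ht : IsAdd R R.ht := fun r => by simp [R.ht_simple, R.ht_def r]

theorem IsAdd.τ (hf : IsAdd R f) (b r : Φ) : f (R.τ b r) = f r - R.pair b r * f b := by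
  simp only [hf (R.τ b r), hf r, hf b, R.rc_τ, Pi.sub_apply, Pi.smul_apply, smul_eq_mul, sub_mul,
    sum_sub_distrib, mul_sum, mul_assoc]

theorem IsAdd.sum_pair [Fintype Φ] (hf : IsAdd R f) (b : Φ) :
    2 * ∑ r, R.pair b r * f r = f b * ∑ r, R.pair b r ^ 2 := by
  have := Equiv.sum_comp (R.τ b) fun r => R.pair b r * f r
  simp only [R.pair_τ_right, hf.τ] at this
  rw [two_mul]
  nth_rewrite 1 [← this]
  rw [← sum_add_distrib, mul_sum]
  exact sum_congr rfl fun r _ => by ring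

theorem IsAdd.alcove [Fintype Φ] (hf : IsAdd R f) {s : ℤ} (hs : 0 < s) :
    ∃ w ∈ R.W, ∃ g, IsAdd R g ∧ (∀ r, s ∣ g r - f (w r)) ∧ ∀ r, R.Pos r → 0 ≤ g r ∧ g r ≤ s := by
  obtain ⟨h, hh⟩ := Finite.exists_le fun r => R.ht r + 1
  let F : (Φ → ℤ) → ℤ := fun g => ∑ r, (h * g r - s * R.ht r) ^ 2
  obtain ⟨g, ⟨w, hw, hg, h1⟩, h2⟩ := exists_minimalFor_of_wellFoundedLT
    (fun g => ∃ w ∈ R.W, IsAdd R g ∧ ∀ r, s ∣ g r - f (w r)) (fun g => (F g).toNat)
    ⟨f, 1, one_mem _, hf, fun r => by simp⟩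
  refine ⟨w, hw, g, hg, h1, fun b hb => ?_⟩
  have hκ : 0 < ∑ r, R.pair b r ^ 2 :=
    sum_pos' (fun r _ => sq_nonneg _) ⟨b, mem_univ _, by rw [R.pair_self]; norm_num⟩
  have h3 := (R.ht_pos_iff b).2 hb
  have h4 := hh b
  have key : ∀ k : ℤ, 0 ≤ (h * s * ∑ r, R.pair b r ^ 2) * ((g b - k * s) * (R.ht b - k * h)) := by
    intro k
    have h5 := @h2 (fun r => g (R.τ b r) + k * s * R.pair b r)
      ⟨w * R.τ b, mul_mem hw (R.τ_mem_W b), (hg.comp (R.τ_mem_W b)).add ((isAdd_pair b).mul _),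
        fun r => by
          obtain ⟨c, hc⟩ := h1 (R.τ b r)
          exact ⟨c + k * R.pair b r, by rw [Perm.mul_apply]; linear_combination hc⟩⟩
    have h6 := ((hg.mul h).sub (isAdd_ht.mul s)).sum_pair b
    have h7 : F (fun r => g (R.τ b r) + k * s * R.pair b r) = F g -
        h * (g b - k * s) * (2 * ∑ r, R.pair b r * (h * g r - s * R.ht r)) +
        (h * (g b - k * s)) ^ 2 * ∑ r, R.pair b r ^ 2 := by
      simp only [F, hg.τ, mul_sum, ← sum_sub_distrib, ← sum_add_distrib]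
      exact sum_congr rfl fun r _ => by ring
    have h8 : ∀ g, 0 ≤ F g := fun g => sum_nonneg fun r _ => sq_nonneg _
    have h9 : F g ≤ F fun r => g (R.τ b r) + k * s * R.pair b r := by
      have := h8 g
      have := h8 fun r => g (R.τ b r) + k * s * R.pair b r
      simp only at h5
      omega
    rw [h7, h6] at h9
    linarith
  have h5 : 0 < h * s * ∑ r, R.pair b r ^ 2 := mul_pos (mul_pos (by omega) hs) hκ
  have h6 := (mul_nonneg_iff_of_pos_left h5).1 (key 0)
  have h7 := (mul_nonneg_iff_of_pos_left h5).1 (key 1)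
  constructor <;> nlinarith

theorem IsAdd.eq_zero (hf : IsAdd R f) {s : ℕ} (h : ∀ j, (f (R.simple j) : ZMod s) = 0) (r : Φ) :
    (f r : ZMod s) = 0 := by
  simp [hf r, h]

theorem rel_pow {s : ℕ} {w : Perm Φ} {k : ZMod s} (h : ∀ r, (f (w r) : ZMod s) = k * f r) (n : ℕ)
    (r : Φ) : (f ((w ^ n) r) : ZMod s) = k ^ n * f r := by
  induction n with
  | zero => simp
  | succ n ih => rw [pow_succ', Perm.mul_apply, h, ih, pow_succ', mul_assoc]

/-- The number of roots on which `f` vanishes modulo `s`. -/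
def z0 [Fintype Φ] (s : ℕ) (f : Φ → ℤ) : ℕ := ∑ r, if (f r : ZMod s) = 0 then 1 else 0

theorem z0_congr [Fintype Φ] {s : ℕ} (w : Perm Φ)
    (h : ∀ r, (f (w r) : ZMod s) = 0 ↔ (g r : ZMod s) = 0) : z0 s f = z0 s g := by
  rw [z0, ← Equiv.sum_comp w]
  simp only [h, z0]

/-- The polynomial `cs` in `w` applied to `f`. -/
def pev (w : Perm Φ) (f : Φ → ℤ) : List ℕ → Φ → ℤ
  | [], _ => 0
  | c :: cs, r => c * f r + pev w f cs (w r)

theorem IsAdd.pev (hf : IsAdd R f) {w : Perm Φ} (hw : w ∈ R.W) (cs : List ℕ) :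
    IsAdd R (pev w f cs) := by
  induction cs with
  | nil => exact fun r => by simp [H29.pev]
  | cons c cs ih => exact (hf.mul c).add (ih.comp hw)

theorem IsAdd.pev_eq (hf : IsAdd R f) (w : Perm Φ) (cs : List ℕ) (r : Φ) :
    H29.pev w f cs r = ∑ i, H29.pev w (fun r => R.rc r i) cs r * f (R.simple i) := by
  induction cs generalizing r with
  | nil => simp [H29.pev]
  | cons c cs ih => simp only [H29.pev, ih, hf r, add_mul, sum_add_distrib, mul_sum, mul_assoc]

theorem pev_eig {s : ℕ} {w : Perm Φ} {k : ℕ} (h : ∀ r, (f (w r) : ZMod s) = k * f r) (cs : List ℕ)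
    (r : Φ) : (pev w f cs r : ZMod s) = (Nat.ofDigits k cs : ℕ) * f r := by
  induction cs generalizing r with
  | nil => simp [pev]
  | cons c cs ih => simp [pev, ih, h, Nat.ofDigits_cons]; ring

/-- The polynomial `x ^ (m + 1) - 1` modulo `s`. -/
def ordP (s m : ℕ) : List ℕ := (s - 1) :: (List.replicate m 0 ++ [1])

theorem pev_ordP {s : ℕ} (hs : 0 < s) (w : Perm Φ) (m : ℕ) (r : Φ) :
    (pev w f (ordP s m) r : ZMod s) = f ((w ^ (m + 1)) r) - f r := by
  have : ∀ r, pev w f (List.replicate m 0 ++ [1]) r = f ((w ^ m) r) := by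
    induction m with
    | zero => simp [pev]
    | succ m ih => simp [List.replicate_succ, pev, ih, pow_succ]
  simp [ordP, pev, this, Nat.cast_sub hs, pow_succ, sub_eq_neg_add]

/-- A vector that is congruent to its images under the Weyl group. -/
theorem sum_W_eq {s : ℕ} (z : ι → ℤ) (hz : ∀ i, ((∑ j, z j * R.A i j : ℤ) : ZMod s) = 0)
    {w : Perm Φ} (hw : w ∈ R.W) : ∀ {f : Φ → ℤ}, IsAdd R f →
      ((∑ j, z j * f (w (R.simple j)) : ℤ) : ZMod s) = (∑ j, z j * f (R.simple j) : ℤ) := by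
  induction hw using R.W_induction with
  | one => exact fun _ => rfl
  | step i w hw ih =>
    intro f hf
    refine (ih (hf.comp (R.σ_mem_W i))).trans ?_
    simp only [← R.τ_simple, hf.τ, R.pair_simple_simple, mul_sub, sum_sub_distrib, ← mul_assoc,
      ← sum_mul]
    rw [Int.cast_sub, Int.cast_mul, hz, zero_mul, sub_zero]

end RS

theorem rc_eq {D : ChevalleyDatum} (C : Cert D) {rc : List (List ℤ)} {T : List RD}
    {E : List (List (ℤ × ℤ))} (hT : TabOK D rc T E) (r : Fin D.nroots) (j : Fin D.rank) :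
    C.R.rc r j = gt rc r j := by
  have := C.wtv_inj (C.R.rc r - fun j : Fin D.rank => gt rc r j) fun i => by
    have h1 := hT.2.1 r r.2 i i.2
    rw [Finset.sum_range, ← C.wt_eq] at h1
    rw [map_sub, sub_eq_zero, RS.wtv_apply _ _ fun _ => _]
    exact h1.trans (sum_congr rfl fun j _ => by rw [C.A_eq, mul_comm])
  exact sub_eq_zero.1 (congrFun this j)

end Cfsg.Agent.H29
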