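import Mathlib
import Cfsg.Agent.H29.AS1
import Cfsg.Agent.H29.AS2
import Cfsg.Agent.H34.AltSec2
import Cfsg.Agent.H34.Split3

/-! Torus elements of finite order and their labels. -/

set_option autoImplicit false

namespace Cfsg.Agent.H29

open Equiv Cfsg.Lie H37 H40 H34 Finset

variable {D : ChevalleyDatum} (C : Cert D) {K : Type*} [Field K]

/-- The torus element `h` has the value `ζ ^ f r` on the root `r`. -/
def Lab (ζ : Kˣ) (h : D.group K) (f : Fin D.nroots → ℤ) : Prop :=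
  IsAdd C.R f ∧ ∃ c, C.tg K c = h ∧ ∀ r : Fin D.nroots, torChar D c r = ζ ^ f r

variable {C} {ζ ξ : Kˣ} {h h' : D.group K} {f g : Fin D.nroots → ℤ} {s : ℕ}

theorem zpow_eq_iff (hζ : IsPrimitiveRoot ζ s) {a b : ℤ} : ζ ^ a = ζ ^ b ↔ (a : ZMod s) = b := by
  rw [zpow_eq_zpow_iff_modEq, ← hζ.eq_orderOf, ZMod.intCast_eq_intCast_iff]

theorem Lab.mem_H (hl : Lab C ζ h f) : h ∈ (C.split K).H :=
  Cert.mem_H_iff.2 (hl.2.imp fun _ h => h.1)

theorem torChar_eq_prod (c : Fin D.rank → Kˣ) (r : Fin D.nroots) :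
    torChar D c r = ∏ j, torChar D c (C.R.simple j) ^ C.R.rc r j := by
  have : wtD D r = ∑ j, C.R.rc r j • wtD D (C.R.simple j) := by
    funext i
    simp only [C.wtD_eq, Finset.sum_apply, Pi.smul_apply, smul_eq_mul, RS.wt_simple, C.R.wt_def r]
  simp only [torChar_eq_evw, this, evw_sum, evw_smul]

theorem exists_lab (hζ : IsPrimitiveRoot ζ s) (hs : s ≠ 0) (hh : h ∈ (C.split K).H) (h1 : h ^ s = 1) :
    ∃ f, Lab C ζ h f := by
  obtain ⟨c, rfl⟩ := Cert.mem_H_iff.1 hh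
  have := NeZero.mk hs
  rw [← map_pow, Cert.tg_eq_one_iff] at h1
  choose v hv using fun j => Subgroup.mem_zpowers_iff.1 (hζ.zpowers_eq.ge ((mem_rootsOfUnity s
    (torChar D c (C.R.simple j))).2 (by
      rw [C.simple_val, torChar_eq_evw, ← evw_pow, ← torChar_eq_evw, h1])))
  refine ⟨fun r => ∑ j, C.R.rc r j * v j, isAdd_of _ fun _ => rfl, c, rfl, fun r => ?_⟩
  simp only [torChar_eq_prod (C := C) c r, ← hv]
  exact evw_zpow ζ v (C.R.rc r) |>.trans (by simp only [mul_comm])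

theorem Lab.mul (hl : Lab C ζ h f) (hl' : Lab C ζ h' g) : Lab C ζ (h * h') fun r => f r + g r := by
  obtain ⟨h1, c, rfl, h2⟩ := hl
  obtain ⟨h3, d, rfl, h4⟩ := hl'
  exact ⟨h1.add h3, c * d, map_mul _ _ _, fun r => by rw [Cert.torChar_mul, h2, h4, zpow_add]⟩

theorem Lab.pow (hl : Lab C ζ h f) (k : ℕ) : Lab C ζ (h ^ k) fun r => k * f r := by
  obtain ⟨h1, c, rfl, h2⟩ := hl
  exact ⟨h1.mul k, c ^ k, map_pow _ _ _, fun r => by
    rw [torChar_eq_evw, evw_pow, ← torChar_eq_evw, h2, ← zpow_natCast, ← zpow_mul, mul_comm]⟩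

theorem Lab.congr (hζ : IsPrimitiveRoot ζ s) (hl : Lab C ζ h f) (hg : IsAdd C.R g)
    (e : ∀ r, (g r : ZMod s) = f r) : Lab C ζ h g := by
  obtain ⟨-, c, rfl, h2⟩ := hl
  exact ⟨hg, c, rfl, fun r => (h2 r).trans ((zpow_eq_iff hζ).2 (e r).symm)⟩

theorem Lab.eq_iff (hl : Lab C ζ h f) (hl' : Lab C ξ h' g) : h = h' ↔ ∀ r, ζ ^ f r = ξ ^ g r := by
  obtain ⟨-, c, rfl, h2⟩ := hl
  obtain ⟨-, d, rfl, h4⟩ := hl'
  simp only [Cert.tg_eq_iff', h2, h4]

theorem lab_one : Lab C ζ 1 fun _ => 0 :=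
  ⟨fun r => by simp, 1, map_one _, fun r => by simp [torChar]⟩

theorem Lab.eq_one_iff (hζ : IsPrimitiveRoot ζ s) (hl : Lab C ζ h f) :
    h = 1 ↔ ∀ r, (f r : ZMod s) = 0 := by
  simp only [hl.eq_iff (lab_one (ζ := ζ)), zpow_eq_iff hζ, Int.cast_zero]

theorem Lab.pow_eq_one (hζ : IsPrimitiveRoot ζ s) (hl : Lab C ζ h f) : h ^ s = 1 :=
  ((hl.pow s).eq_one_iff hζ).2 fun r => by simp

theorem Lab.conj (hl : Lab C ζ h f) {n : D.group K} (hn : n ∈ (C.split K).N) :
    Lab C ζ (n⁻¹ * h * n) fun r => f ((C.split K).ν n r) := by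
  obtain ⟨h1, c, rfl, h2⟩ := hl
  have hw := (C.split K).ν_mem n hn
  refine ⟨h1.comp hw, pull (C.mat ⟨_, hw⟩) c, ?_, fun r => ?_⟩
  · rw [← Cert.conj_tg hn (C.rep_mat ⟨_, hw⟩) c]; group
  · rw [(C.rep_mat ⟨_, hw⟩).torChar_pull, h2]

theorem Lab.rel_N (hζ : IsPrimitiveRoot ζ s) {n : D.group K} (hn : n ∈ (C.split K).N)
    (hl : Lab C ζ h f) (hl' : Lab C ζ (n * h * n⁻¹) g) (r : Fin D.nroots) :
    (g ((C.split K).ν n r) : ZMod s) = f r :=
  (zpow_eq_iff hζ).1 (((hl'.conj hn).eq_iff hl).1 (by group) r)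

variable (C) in
theorem exists_N (y : D.group K) : ∃ n ∈ (C.split K).N, ∀ h ∈ (C.split K).H,
    y * h * y⁻¹ ∈ (C.split K).H → y * h * y⁻¹ = n * h * n⁻¹ := by
  obtain ⟨n, hn, h3⟩ := (Split.Twist.one (C.split K)).exists_N_act (R := ⊤) le_top
    (fun _ _ => rfl) (Subgroup.mem_top y)
  exact ⟨n, hn.1, h3⟩

variable (C) in
/-- Conjugation between torus elements is induced by the Weyl group. -/
theorem exists_act (y : D.group K) : ∃ w ∈ C.S.W, ∀ {ζ : Kˣ} {s : ℕ}, IsPrimitiveRoot ζ s →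
    ∀ {h f g}, Lab C ζ h f → Lab C ζ (y * h * y⁻¹) g → ∀ r, (f (w r) : ZMod s) = g r := by
  obtain ⟨n, hn, h3⟩ := exists_N C y⁻¹
  refine ⟨_, (C.split K).ν_mem n hn, fun hζ h f g hl hl' => hl'.rel_N hζ hn ?_⟩
  rw [← h3 _ hl'.mem_H (by simpa [mul_assoc] using hl.mem_H)]
  simpa [mul_assoc] using hl

theorem exists_act_pow (hζ : IsPrimitiveRoot ζ s) (hl : Lab C ζ h f) {y : D.group K} {k : ℕ}
    (e : y * h * y⁻¹ = h ^ k) : ∃ w ∈ C.S.W, ∀ r, (f (w r) : ZMod s) = k * f r := by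
  obtain ⟨w, hw, h1⟩ := exists_act C y
  exact ⟨w, hw, fun r => (h1 hζ hl (e ▸ hl.pow k) r).trans (by simp)⟩

theorem Lab.conj_xg (hl : Lab C ζ h f) (r : Fin D.nroots) (t : K) :
    h * C.xg K r t * h⁻¹ = C.xg K r ((ζ ^ f r : Kˣ) * t) := by
  obtain ⟨-, c, rfl, h2⟩ := hl
  rw [Cert.tg_conj c r.2, h2]

/-- Comparison of the centralisers of two torus elements. -/
theorem Lab.commute_of {t : ℕ} (hζ : IsPrimitiveRoot ζ s) (hξ : IsPrimitiveRoot ξ t)
    (hl : Lab C ζ h f) (hl' : Lab C ξ h' g) (h1 : ∀ r, (f r : ZMod s) = 0 → (g r : ZMod t) = 0)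
    (h2 : ∀ w ∈ C.S.W, (∀ r, (f (w r) : ZMod s) = f r) → ∀ r, (g (w r) : ZMod t) = g r)
    {x : D.group K} (hx : Commute h x) : Commute h' x := by
  classical
  obtain ⟨a, ha, n, hn, u, hu, rfl⟩ := (C.split K).bruhat x
  have hs := hl.mem_H
  have hN := Split.H_le_N hs
  have e1 : (C.split K).ν (h * n * h⁻¹) = (C.split K).ν n := by
    rw [(C.split K).ν_mul _ (mul_mem hN hn) _ (inv_mem hN), (C.split K).ν_mul _ hN _ hn,
      Split.ν_H hs, Split.ν_H (inv_mem hs), one_mul, mul_one]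
  obtain ⟨e2, e3, e4⟩ := Split.bruhat_unique (Split.conj_U_H hs ha) (cj1 _ hN hn)
    (e1.symm ▸ Split.conj_U_H hs hu) ha hn hu (by
      calc _ = h * (a * n * u) * h⁻¹ := by group
        _ = _ := by rw [hx.eq, mul_inv_cancel_right])
  have key : ∀ v ∈ (C.split K).Up, h * v * h⁻¹ = v → Commute h' v := fun v hv e => by
    let L := (univ.filter C.S.pos).toList
    obtain ⟨y, hy, rfl⟩ := (C.split K).exists_prod C.S.cl_pos (L := L) (nodup_toList _)
      (fun r => by rw [mem_toList, mem_filter]; simp) hv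
    choose t ht using fun r => Cert.mem_X.1 (hy r)
    have h3 := (C.split K).prod_inj (L := L) (nodup_toList _) (fun r hr => (mem_filter.1 (mem_toList.1 hr)).2)
      (y := fun r => h * y r * h⁻¹) (fun r _ => by rw [← ht, hl.conj_xg]; exact C.xg_mem_X _ _)
      (fun r _ => hy r) (by
        rw [← e]
        exact ((map_list_prod (MulAut.conj h) _).trans (by rw [List.map_map]; rfl)).symm)
    refine Commute.list_prod_right _ _ fun _ hz => ?_
    obtain ⟨r, hr, rfl⟩ := List.mem_map.1 hz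
    have h4 := h3 r hr
    simp only [← ht, hl.conj_xg] at h4
    rw [← ht, commute_iff_eq, ← mul_inv_eq_iff_eq_mul, hl'.conj_xg]
    by_cases h5 : t r = 0
    · rw [h5, mul_zero]
    have h6 : ζ ^ f r = ζ ^ (0 : ℤ) :=
      Units.ext (by simpa using (mul_eq_right₀ h5).1 (Cert.xg_injective r.2 h4))
    rw [(zpow_eq_iff hξ).2 ((h1 r (by simpa using (zpow_eq_iff hζ).1 h6)).trans Int.cast_zero.symm)]
    simp
  refine ((key a ha e2).mul_right ?_).mul_right (key u (Split.Uinv_le_Up hu) e4)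
  have h3 := ((hl'.conj hn).eq_iff hl').2 fun r => (zpow_eq_iff hξ).2 (h2 _ ((C.split K).ν_mem n hn)
    (hl.rel_N hζ hn (by rwa [← mul_inv_eq_iff_eq_mul.1 e3, mul_inv_cancel_right])) r)
  rw [commute_iff_eq, ← inv_mul_eq_iff_eq_mul, ← mul_assoc, h3]

theorem lab_tg (hζ : IsPrimitiveRoot ζ s) (hf : IsAdd C.R f) (m : Fin D.rank → ℤ)
    (hm : ∀ j : Fin D.rank, ((∑ i, m i * D.cartan i (D.simple j) : ℤ) : ZMod s) = f (C.R.simple j)) :
    Lab C ζ (C.tg K fun i => ζ ^ m i) f := by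
  refine ⟨hf, _, rfl, fun r => ?_⟩
  have : ∀ j, torChar D (fun i => ζ ^ m i) (C.R.simple j) = ζ ^ f (C.R.simple j) := fun j => by
    rw [torChar_eq_evw, evw_zpow, zpow_eq_iff hζ, ← hm, C.simple_val]; rfl
  simp only [torChar_eq_prod (C := C) _ r, this, hf r]
  exact evw_zpow ζ _ (C.R.rc r) |>.trans (by simp only [mul_comm])

section Fin

variable (C)

theorem exists_prim [Fintype K] (hs : Fintype.card K ≡ 1 [MOD s]) :
    ∃ ζ : Kˣ, IsPrimitiveRoot ζ s := by
  classical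
  obtain ⟨g, hg⟩ := IsCyclic.exists_ofOrder_eq_natCard (α := Kˣ)
  have h1 : s ∣ orderOf g := by
    rw [hg, Nat.card_eq_fintype_card, Fintype.card_units]
    exact (Nat.modEq_iff_dvd' Fintype.card_pos).1 hs.symm
  have h2 := IsPrimitiveRoot.orderOf (g ^ (orderOf g / s))
  rw [orderOf_pow_orderOf_div (orderOf_pos g).ne' h1] at h2
  exact ⟨_, h2⟩

theorem exists_ext_mod (F : Type*) [Field F] [Fintype F] (p : ℕ) [Fact p.Prime] [CharP F p]
    {m : ℕ} (hm : p.Coprime m) (h0 : 0 < m) : ∃ (K : Type) (_ : Field K) (_ : Fintype K)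
      (_ : CharP K p) (_ : F →+* K), Fintype.card K ≡ 1 [MOD m] := by
  have := NeZero.mk (Nat.totient_pos.2 h0).ne'
  obtain ⟨K, _, _, ι, hK⟩ := exists_ext_field F p m.totient
  exact ⟨K, _, inferInstance, charP_of_injective_ringHom ι.injective p, ι,
    hK ▸ card_pow_modEq F p hm⟩

theorem sRank (F : Type*) [Field F] [Fintype F] (p : ℕ) [hp : Fact p.Prime] [CharP F p]
    [hs : Fact s.Prime] (hps : p ≠ s) {k : ℕ} (hk : ¬ s ^ (k + 1) ∣ Nat.card C.S.W) :
    SRank s (D.rank + k) (D.group F) := by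
  obtain ⟨K, _, _, _, ι, hK⟩ := exists_ext_mod F p (m := s ^ (k + 1))
    (((Nat.coprime_primes hp.out hs.out).2 hps).pow_right _) (pow_pos hs.out.pos _)
  refine SRank.of_injective (fun P M hP h1 h2 => ?_) _ (C.V.fieldHom_injective ι)
  obtain ⟨ζ, hζ⟩ := exists_prim (hK.of_dvd (dvd_pow_self s k.succ_ne_zero))
  obtain ⟨g, hg⟩ := exists_conj_relIndex (not_dvd_of_modEq (C.index_H K hK) hk) hP
  set A := (C.split K).H.comap (MulAut.conj g).toMonoidHom ⊓ P
  let φ : A →* A := MonoidHom.mk' (· ^ s) fun a b => Commute.mul_pow (Subtype.ext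
    ((MulAut.conj g).injective (by
      rw [Subgroup.coe_mul, Subgroup.coe_mul, map_mul, map_mul]
      exact Cert.H_comm (C := C) _ a.2.1 _ b.2.1))) s
  choose f hf using fun a : φ.ker => exists_lab (C := C) hζ hs.out.ne_zero a.1.2.1 (by
    rw [← map_pow, show (a.1 : D.group K) ^ s = 1 from congrArg Subtype.val a.2, map_one])
  have h3 : Nat.card φ.ker ≤ s ^ D.rank := by
    refine (Nat.card_le_card_of_injective (fun a j => (f a (C.R.simple j) : ZMod s))
      fun a b e => Subtype.ext (Subtype.ext ((MulAut.conj g).injective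
        (((hf a).eq_iff (hf b)).2 fun r => (zpow_eq_iff hζ).2 ?_)))).trans (by simp)
    simp [(hf a).1 r, (hf b).1 r, show ∀ j, (f a (C.R.simple j) : ZMod s) = f b (C.R.simple j) from
      congrFun e]
  have h4 : M.relIndex A ≤ Nat.card φ.ker := by
    rw [← Subgroup.index_range]
    exact Subgroup.index_antitone (by rintro _ ⟨a, rfl⟩; exact h1 _ a.2.2)
  rw [← Subgroup.inf_relIndex_right] at hg h4
  have h5 := Subgroup.relIndex_mul_relIndex (M ⊓ A) A P inf_le_right inf_le_right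
  refine (Subgroup.relIndex_le_of_le_left (H := M ⊓ A) inf_le_left
    Subgroup.index_ne_zero_of_finite).trans ?_
  rw [pow_add, ← h5]
  exact Nat.mul_le_mul (h4.trans h3) hg

/-- An `s`-group is conjugate into the monomial group if `s` divides the order of the Weyl group
at most once. -/
theorem exists_conj_N [Fintype K] [hs : Fact s.Prime] (hK : Fintype.card K ≡ 1 [MOD s ^ 2])
    (hW : ¬ s ^ 2 ∣ Nat.card C.S.W) (hW' : s ∣ Nat.card C.S.W) {P : Subgroup (D.group K)}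
    (hP : IsPGroup s P) : ∃ g, ∀ x ∈ P, g * x * g⁻¹ ∈ (C.split K).N := by
  refine exists_conj_le (fun hd => not_dvd_of_modEq (C.index_H K hK) hW ?_) hP
  have h1 : (C.split K).H.relIndex (C.split K).N = Nat.card C.S.W := by
    have e1 : (C.split K).νHom.ker = (C.split K).H.subgroupOf (C.split K).N := by
      ext n
      exact ⟨Split.mem_H_of n.2, fun h => Split.ν_H (P := C.split K) (h := n.1) h⟩
    have e2 : (C.split K).νHom.range = C.S.W := by
      ext w
      exact ⟨by rintro ⟨n, rfl⟩; exact (C.split K).ν_mem _ n.2, fun hw => by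
        obtain ⟨n, hn, e⟩ := (C.split K).exists_lift hw
        exact ⟨⟨n, hn⟩, e⟩⟩
    rw [Subgroup.relIndex, ← e1, Subgroup.index_ker, e2]
  rw [← Subgroup.relIndex_mul_index (fun _ => Split.H_le_N), h1, sq]
  exact mul_dvd_mul hW' hd

/-- An elementary abelian group with enough rational elements is toral. -/
theorem toral [Fintype K] [hs : Fact s.Prime] (hK : Fintype.card K ≡ 1 [MOD s ^ 2])
    (hW : ¬ s ^ 2 ∣ Nat.card C.S.W) (hW' : s ∣ Nat.card C.S.W) {k : ℕ}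
    (hc : ∀ f, IsAdd C.R f → (¬ ∀ r, (f r : ZMod s) = 0) → ∀ v ∈ C.S.W,
      (∀ r, (f (v r) : ZMod s) = k * f r) → ∀ w ∈ C.S.W, (∀ r, (f (w r) : ZMod s) = f r) →
      w ^ s = 1 → w = 1)
    {Γ : Type*} [Group Γ] (j : Γ →* D.group K) (hj : Function.Injective j) {P : Subgroup Γ}
    (h1 : ∀ a ∈ P, a ^ s = 1) (h2 : ∀ a ∈ P, ∀ b ∈ P, a * b = b * a) {a b y : Γ} (ha : a ∈ P)
    (hb : b ∈ P) (ha1 : a ≠ 1) (hab : ∀ i < s, b ≠ a ^ i) (hya : y * a * y⁻¹ = a ^ k)
    (hyb : y * b * y⁻¹ = b ^ k) :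
    ∃ j' : Γ →* D.group K, Function.Injective j' ∧ ∀ x ∈ P, j' x ∈ (C.split K).H := by
  have := Finite.of_injective j hj
  have hP : IsPGroup s P := fun x => ⟨1, Subtype.ext (by simpa using h1 x x.2)⟩
  obtain ⟨ζ, hζ⟩ := exists_prim (hK.of_dvd (dvd_pow_self s two_ne_zero))
  obtain ⟨g, hg⟩ := exists_conj_N C hK hW hW' (hP.map j)
  let j' := (MulAut.conj g).toMonoidHom.comp j
  have hj' : Function.Injective j' := (MulAut.conj g).injective.comp hj
  have hN : ∀ x ∈ P, j' x ∈ (C.split K).N := fun x hx => hg _ ⟨x, hx, rfl⟩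
  have hQ : Subgroup.closure {a, b} ≤ P := (Subgroup.closure_le _).2 (Set.pair_subset ha hb)
  obtain ⟨e, he, he1, heH⟩ : ∃ e ∈ Subgroup.closure {a, b}, e ≠ 1 ∧ j' e ∈ (C.split K).H := by
    by_contra! h
    let φ : Subgroup.closure {a, b} →* C.S.W := ((C.split K).νHom.comp
      ((j'.comp (Subgroup.subtype _)).codRestrict _ fun x => hN _ (hQ x.2))).codRestrict _
        fun x => (C.split K).ν_mem _ (hN _ (hQ x.2))
    have h3 := Subgroup.card_dvd_of_injective φ ((injective_iff_map_eq_one _).2 fun x hx =>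
      Subtype.ext (by_contra fun h1 => h x x.2 h1 (Split.mem_H_of (hN _ (hQ x.2))
        (congrArg Subtype.val hx))))
    obtain ⟨n, hn⟩ := (hP.to_le hQ).exists_card_eq
    have h4 : Subgroup.zpowers a ≤ Subgroup.closure {a, b} :=
      Subgroup.zpowers_le.2 (Subgroup.subset_closure (by simp))
    have h5 := orderOf_eq_prime (h1 a ha) ha1
    have h6 : n ≤ 1 := by_contra fun h6 => hW ((pow_dvd_pow s (by omega)).trans (hn ▸ h3))
    obtain ⟨i, hi⟩ := mem_powers_iff_mem_zpowers.2 ((Subgroup.eq_of_le_of_card_ge h4 (by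
      rw [hn, Nat.card_zpowers, h5]
      exact (Nat.pow_le_pow_right hs.out.pos h6).trans_eq (pow_one s))).ge
      (Subgroup.subset_closure (show b ∈ ({a, b} : Set Γ) by simp)))
    exact hab _ (Nat.mod_lt i hs.out.pos) (by rw [← h5, pow_mod_orderOf]; exact hi.symm)
  have h3 : y * e * y⁻¹ = e ^ k := by
    clear he1 heH
    induction he using Subgroup.closure_induction with
    | mem x hx => rcases hx with rfl | rfl <;> assumption
    | one => simp
    | mul x z hx hz ihx ihz =>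
      rw [Commute.mul_pow (h2 _ (hQ hx) _ (hQ hz)), ← ihx, ← ihz]; group
    | inv x _ ih => rw [inv_pow, ← ih]; group
  obtain ⟨f, hf⟩ := exists_lab hζ hs.out.ne_zero heH (by rw [← map_pow, h1 e (hQ he), map_one])
  obtain ⟨v, hv, h4⟩ := exists_act_pow hζ hf (y := j' y) (k := k) (by
    rw [← map_pow, ← h3, map_mul, map_mul, map_inv])
  refine ⟨j', hj', fun x hx => Split.mem_H_of (hN x hx) (hc f hf.1 (fun h => he1 (hj'
    (((hf.eq_one_iff hζ).2 h).trans (map_one j').symm))) v hv h4 _ ((C.split K).ν_mem _ (hN x hx))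
    (hf.rel_N hζ (hN x hx) ?_) ?_)⟩
  · rwa [← map_mul, h2 x hx e (hQ he), map_mul, mul_inv_cancel_right]
  · have := map_pow (C.split K).νHom ⟨_, hN x hx⟩ s
    rw [show (⟨_, hN x hx⟩ : (C.split K).N) ^ s = 1 from
      Subtype.ext (by rw [Subgroup.coe_pow, ← map_pow, h1 x hx, map_one]; rfl), map_one] at this
    exact this.symm

end Fin

end Cfsg.Agent.H29
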