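import Mathlib
import Cfsg.Agent.H29.AS4

/-! Reduced covers of alternating groups inside Chevalley groups. -/

set_option autoImplicit false

namespace Cfsg.Agent.H29

open Equiv Cfsg.Lie H37 H40 H34 Finset

universe u

instance fact5 : Fact (Nat.Prime 5) := ⟨by norm_num⟩

instance fact7 : Fact (Nat.Prime 7) := ⟨by norm_num⟩

instance fact11 : Fact (Nat.Prime 11) := ⟨by norm_num⟩

instance fact13 : Fact (Nat.Prime 13) := ⟨by norm_num⟩

instance fact17 : Fact (Nat.Prime 17) := ⟨by norm_num⟩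

theorem conj_pow'' {G : Type*} [Group G] (u w : G) (n : ℕ) : (u⁻¹ * w * u) ^ n = u⁻¹ * w ^ n * u := by
  simpa using conj_pow (a := u⁻¹) (b := w) (i := n)

theorem exists_setup {D : ChevalleyDatum} (C : Cert D) {F : Type u} [Field F] [Fintype F] (p : ℕ)
    [Fact p.Prime] [CharP F p] {H : Subgroup (D.group F)} {K : Subgroup H} [K.Normal] {r n : ℕ}
    (e : H ⧸ K ≃* alternatingGroup (Fin r)) (hn : n ≤ r) (h9 : 9 ≤ n) {m : ℕ} (hm : p.Coprime m)
    (h0 : 0 < m) : ∃ (L : Type) (_ : Field L) (_ : Fintype L) (_ : CharP L p),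
      Fintype.card L ≡ 1 [MOD m] ∧ ∃ (Γ : Type u) (_ : Group Γ) (_ : Finite Γ)
      (j : Γ →* D.group L) (π : Γ →* alternatingGroup (Fin n)), Function.Injective j ∧
      Function.Surjective π ∧ ∀ s k, s.Prime → s ≠ 2 → p ≠ s → ¬ s ^ (k + 1) ∣ Nat.card C.S.W →
        D.rank + k ≤ n - 3 → ¬ s ∣ Nat.card π.ker := by
  obtain ⟨Γ, _, j, π, hj, hπ⟩ := exists_altCover e hn
  obtain ⟨L, _, _, _, ι, hL⟩ := exists_ext_mod F p hm h0
  have := Finite.of_injective j hj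
  obtain ⟨M, h1, h2⟩ := kred h9 π hπ
  refine ⟨L, _, _, ‹_›, hL, M, _, inferInstance, ((C.V.fieldHom ι).comp j).comp M.subtype, _,
    ((C.V.fieldHom_injective ι).comp hj).comp M.subtype_injective, h1, fun s k hs h3 h4 h5 h6 => ?_⟩
  have := Fact.mk hs
  exact h2 s hs h3 (((sRank C F p h4 h5).mono hs.pos h6).of_injective j hj)

theorem lift_elab {Γ A : Type*} [Group Γ] [Finite Γ] [Group A] {π : Γ →* A} {s : ℕ}
    [Fact s.Prime] (hπ : Function.Surjective π) (h : ¬ s ∣ Nat.card π.ker) {S : Set A}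
    (h1 : ∀ a ∈ S, a ^ s = 1) (h2 : ∀ a ∈ S, ∀ b ∈ S, a * b = b * a) :
    ∃ P : Subgroup Γ, (∀ a ∈ P, a ^ s = 1) ∧ (∀ a ∈ P, ∀ b ∈ P, a * b = b * a) ∧
      (∀ x ∈ S, ∃ a ∈ P, π a = x) ∧ ∀ y, (∀ x ∈ S, y * x * y⁻¹ ∈ Subgroup.closure S) →
      ∃ g, π g = y ∧ ∀ a ∈ P, ∀ b ∈ P, y * π a * y⁻¹ = π b → g * a * g⁻¹ = b := by
  obtain ⟨P, hP, e, -⟩ := H51.exists_isPGroup_map_normalizer hπ (isPGroup_closure_of_comm h1 h2)
  have h3 : ∀ a ∈ Subgroup.closure S, ∀ b ∈ Subgroup.closure S, a * b = b * a := fun a ha b hb =>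
    congrArg Subtype.val ((Subgroup.isMulCommutative_closure h2).is_comm.comm ⟨a, ha⟩ ⟨b, hb⟩)
  have h4 : ∀ a ∈ P, π a ∈ Subgroup.closure S := fun a ha => e.le ⟨a, ha, rfl⟩
  refine ⟨P, fun a ha => lift_inj h hP (pow_mem ha s) (one_mem _) ?_, fun a ha b hb =>
    lift_inj h hP (mul_mem ha hb) (mul_mem hb ha) (by
      rw [map_mul, map_mul, h3 _ (h4 a ha) _ (h4 b hb)]),
    fun x hx => e.ge (Subgroup.subset_closure hx), fun y hy => lift_norm hπ h hP fun a ha => ?_⟩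
  · rw [map_pow, map_one]
    have := h4 a ha
    generalize π a = x at this
    induction this using Subgroup.closure_induction with
    | mem a ha => exact h1 a ha
    | one => exact one_pow _
    | mul a b ha hb iha ihb => rw [Commute.mul_pow (h3 a ha b hb), iha, ihb, one_mul]
    | inv a _ ih => rw [inv_pow, ih, inv_one]
  · have : (Subgroup.closure S).map (MulAut.conj y).toMonoidHom ≤ P.map π := by
      rw [e, MonoidHom.map_closure, Subgroup.closure_le]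
      rintro _ ⟨x, hx, rfl⟩
      exact hy x hx
    obtain ⟨b, hb, e'⟩ := this ⟨_, h4 a ha, rfl⟩
    exact ⟨b, hb, e'.symm⟩

theorem exists_act' {D : ChevalleyDatum} (C : Cert D) {K Γ : Type*} [Field K] [Group Γ]
    (j : Γ →* D.group K) (g : Γ) : ∃ w ∈ C.S.W, ∀ {ζ : Kˣ} {s : ℕ}, IsPrimitiveRoot ζ s →
    ∀ {a b f f'} (k : ℕ), Lab C ζ (j a) f → Lab C ζ (j b) f' → g * a * g⁻¹ = b ^ k →
      ∀ r, (f (w r) : ZMod s) = k * f' r := by
  obtain ⟨w, hw, h⟩ := exists_act C (j g)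
  exact ⟨w, hw, fun hζ a b f f' k hf hf' e r => (h hζ hf (by
    rw [← map_inv, ← map_mul, ← map_mul, e, map_pow]; exact hf'.pow k) r).trans (by simp)⟩

end Cfsg.Agent.H29
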