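import Mathlib
import Cfsg.Agent.H29.AS5
import Cfsg.Agent.H29.ChevRep

/-! Centralisers of torus elements, Levi subgroups and their projective representations. -/

set_option autoImplicit false

namespace Cfsg.Agent.H29

open Equiv Cfsg.Lie H37 H40 H34 Finset Matrix

universe u

theorem alt_eq_top {n : ℕ} (hn : 5 ≤ n) {M : Subgroup (alternatingGroup (Fin n))} {a b : Fin n}
    (hab : a ≠ b) (h : ∀ i, i ≠ a → i ≠ b → ∀ g : alternatingGroup (Fin n), g.1 = cyc a b i → g ∈ M) :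
    M = ⊤ := by
  let C : AltCov (alternatingGroup (Fin n)) (Fin n) := ⟨Subgroup.subtype _, fun g => g.2,
    fun c hc => ⟨⟨c, hc⟩, rfl⟩, fun z hz => by obtain rfl : z = 1 := Subtype.ext hz; simp⟩
  have h1 := C.mem_of_base (M := M) (S := Set.univ) hab fun i _ h1 h2 =>
    h i h1 h2 _ (C.π_x ⟨hab, h1.symm, h2.symm⟩)
  have h2 : D3 (⟨0, by omega⟩ : Fin n) ⟨1, by omega⟩ ⟨2, by omega⟩ := by simp [D3]
  have := alternatingGroup.isSimpleGroup (α := Fin n) (by rwa [Nat.card_fin])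
  rcases (Subgroup.normalClosure_normal
    (s := {C.x ⟨0, by omega⟩ ⟨1, by omega⟩ ⟨2, by omega⟩})).eq_bot_or_eq_top with h3 | h3
  · have h4 := congrArg (C.π · ⟨0, by omega⟩) (Subgroup.mem_bot.1
      (h3 ▸ Subgroup.subset_normalClosure (Set.mem_singleton _)))
    simp only [C.π_x h2, cyc_fst h2, map_one, Perm.one_apply] at h4
    exact absurd h4.symm h2.1
  · refine top_unique (h3 ▸ (Subgroup.closure_le _).2 fun g hg => ?_)
    obtain ⟨_, rfl, c, hc⟩ := Group.mem_conjugatesOfSet_iff.1 hg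
    rw [← mul_inv_eq_iff_eq_mul.2 hc.eq, C.conj_x _ h2]
    exact h1 _ trivial _ trivial _ trivial (h2.map (C.π c).injective)

theorem lift_comm {Γ A : Type*} [Group Γ] [Finite Γ] [Group A] {π : Γ →* A} {s : ℕ}
    [Fact s.Prime] (hπ : Function.Surjective π) (h : ¬ s ∣ Nat.card π.ker) {b : Γ} (hb : b ^ s = 1)
    {y : A} (hy : Commute y (π b)) : ∃ g, π g = y ∧ Commute b g := by
  obtain ⟨g, e, hg⟩ := lift_norm hπ h (isPGroup_zpowers hb) (y := y) (by
    rintro _ ⟨k, rfl⟩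
    exact ⟨_, ⟨k, rfl⟩, by rw [map_zpow, (hy.zpow_right k).eq, mul_inv_cancel_right]⟩)
  exact ⟨g, e, (mul_inv_eq_iff_eq_mul.1 (hg b (Subgroup.mem_zpowers b) b (Subgroup.mem_zpowers b)
    (by rw [hy.eq, mul_inv_cancel_right]))).symm⟩

variable {D : ChevalleyDatum} (C : Cert D) {K : Type*} [Field K] {s : ℕ}

theorem toral0 [Fintype K] [Fact s.Prime] (hK : Fintype.card K ≡ 1 [MOD s])
    (hW : ¬ s ∣ Nat.card C.S.W) {Γ : Type*} [Group Γ] (j : Γ →* D.group K)
    (hj : Function.Injective j) {P : Subgroup Γ} (hP : IsPGroup s P) :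
    ∃ j' : Γ →* D.group K, Function.Injective j' ∧ ∀ x ∈ P, j' x ∈ (C.split K).H := by
  obtain ⟨g, hg⟩ := exists_conj_le (not_dvd_of_modEq (C.index_H K hK) hW) (hP.map j)
  exact ⟨(MulAut.conj g).toMonoidHom.comp j, (MulAut.conj g).injective.comp hj,
    fun x hx => hg _ ⟨x, hx, rfl⟩⟩

theorem exists_conj_lab {Γ : Type*} [Group Γ] (j : Γ →* D.group K) (hj : Function.Injective j)
    {w : Perm (Fin D.nroots)} (hw : w ∈ C.S.W) : ∃ j' : Γ →* D.group K, Function.Injective j' ∧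
      ∀ {ζ : Kˣ} {a f}, Lab C ζ (j a) f → Lab C ζ (j' a) fun r => f (w r) := by
  obtain ⟨n, hn, rfl⟩ := (C.split K).exists_lift hw
  exact ⟨(MulAut.conj n⁻¹).toMonoidHom.comp j, (MulAut.conj n⁻¹).injective.comp hj,
    fun h => by simpa using h.conj hn⟩

variable {C}

/-- Generation of the centraliser of a torus element. -/
theorem Lab.cent_le {ζ : Kˣ} {h : D.group K} {f : Fin D.nroots → ℤ} (hζ : IsPrimitiveRoot ζ s)
    (hl : Lab C ζ h f) {P : Subgroup (D.group K)}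
    (h1 : ∀ r, (f r : ZMod s) = 0 → ∀ t, C.xg K r t ∈ P)
    (h2 : ∀ n ∈ (C.split K).N, (∀ r, (f ((C.split K).ν n r) : ZMod s) = f r) → n ∈ P)
    {x : D.group K} (hx : Commute h x) : x ∈ P := by
  classical
  obtain ⟨a, ha, n, hn, u, hu, rfl⟩ := (C.split K).bruhat x
  have hs := hl.mem_H
  have hN := Split.H_le_N hs
  have e1 : (C.split K).ν (h * n * h⁻¹) = (C.split K).ν n := by
    rw [(C.split K).ν_mul _ (mul_mem hN hn) _ (inv_mem hN), (C.split K).ν_mul _ hN _ hn,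
      Split.ν_H hs, Split.ν_H (inv_mem hs), one_mul, mul_one]
  obtain ⟨e2, e3, e4⟩ := Split.bruhat_unique (Split.conj_U_H hs ha) (cj1 _ hN hn)
    (e1.symm ▸ Split.conj_U_H hs hu) ha hn hu (by
      calc _ = h * (a * n * u) * h⁻¹ := by group
        _ = _ := by rw [hx.eq, mul_inv_cancel_right])
  have key : ∀ v ∈ (C.split K).Up, h * v * h⁻¹ = v → v ∈ P := fun v hv e => by
    let L := (univ.filter C.S.pos).toList
    obtain ⟨y, hy, rfl⟩ := (C.split K).exists_prod C.S.cl_pos (L := L) (nodup_toList _)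
      (fun r => by rw [mem_toList, mem_filter]; simp) hv
    choose t ht using fun r => Cert.mem_X.1 (hy r)
    have h3 := (C.split K).prod_inj (L := L) (nodup_toList _) (fun r hr => (mem_filter.1 (mem_toList.1 hr)).2)
      (y := fun r => h * y r * h⁻¹) (fun r _ => by rw [← ht, hl.conj_xg]; exact C.xg_mem_X _ _)
      (fun r _ => hy r) (by
        rw [← e]
        exact ((map_list_prod (MulAut.conj h) _).trans (by rw [List.map_map]; rfl)).symm)
    refine list_prod_mem fun _ hz => ?_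
    obtain ⟨r, hr, rfl⟩ := List.mem_map.1 hz
    have h4 := h3 r hr
    simp only [← ht, hl.conj_xg] at h4
    rw [← ht]
    by_cases h5 : t r = 0
    · rw [h5, Cert.xg_zero]; exact one_mem _
    have h6 : ζ ^ f r = ζ ^ (0 : ℤ) :=
      Units.ext (by simpa using (mul_eq_right₀ h5).1 (Cert.xg_injective r.2 h4))
    exact h1 r (by simpa using (zpow_eq_iff hζ).1 h6) _
  exact mul_mem (mul_mem (key a ha e2) (h2 n hn (hl.rel_N hζ hn (by
    rwa [← mul_inv_eq_iff_eq_mul.1 e3, mul_inv_cancel_right])))) (key u (Split.Uinv_le_Up hu) e4)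

theorem N_mem_levi (i : Fin D.rank) {P : Subgroup (D.group K)} (hH : ∀ c, C.tg K c ∈ P)
    (hX : ∀ r, C.R.rc r i = 0 → ∀ t, C.xg K r t ∈ P) (m : ℕ) : ∀ n ∈ (C.split K).N,
      C.S.len ((C.split K).ν n) = m → (∀ r, C.R.rc ((C.split K).ν n r) i = C.R.rc r i) → n ∈ P := by
  induction m using Nat.strong_induction_on with
  | _ m ih =>
  intro n hn hm h
  have hw := (C.split K).ν_mem n hn
  by_cases h1 : (C.split K).ν n = 1
  · obtain ⟨c, rfl⟩ := Cert.mem_H_iff.1 (Split.mem_H_of hn h1)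
    exact hH c
  obtain ⟨j, hj⟩ := C.S.exists_descent hw h1
  have h2 : C.R.rc (C.R.simple j) i = 0 := le_antisymm (h _ ▸ (C.R.not_pos_iff _).1 hj i)
    (C.R.pos_simple j i)
  obtain ⟨x, hx, hx1⟩ := (C.split K).X_ne_one (C.S.neg (C.S.α j))
  obtain ⟨a, ha, n', hn', b, hb, e, e'⟩ := (C.split K).sl2 j x hx hx1
  have h3 : ∀ r, C.R.rc r i = 0 → ∀ y ∈ (C.split K).X r, y ∈ P := fun r hr y hy => by
    obtain ⟨t, rfl⟩ := Cert.mem_X.1 hy
    exact hX r hr t
  have h4 : n' ∈ P := by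
    rw [show n' = a⁻¹ * x * b⁻¹ by rw [e']; group]
    exact mul_mem (mul_mem (inv_mem (h3 _ h2 a ha)) (h3 _ (by
      rw [← C.S.s_α]; simp [sgn_s, C.R.rc_σ, ← C.R.rc_simple, h2]) x hx)) (inv_mem (h3 _ h2 b hb))
  have h5 := (C.split K).ν_mul n hn n' hn'
  have := C.S.len_mul_s_of_neg hw hj
  rw [← mul_inv_cancel_right n n']
  exact mul_mem (ih _ (by rw [h5, e]; omega) _ (mul_mem hn hn') rfl fun r => by
    rw [h5, Perm.mul_apply, h, e]; simp [sgn_s, C.R.rc_σ, ← C.R.rc_simple, h2]) (inv_mem h4)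

section rel

variable {n : ℕ}

/-- The pairs intertwined by a linear map from the Lie algebra to matrices. -/
def relG (ρ : (D.Idx → K) →ₗ[K] Matrix (Fin n) (Fin n) K) : Subgroup (D.group K × GL (Fin n) K) where
  carrier := {x | ∀ v, x.2.1 * ρ v = ρ (x.1.1.1 *ᵥ v) * x.2.1}
  mul_mem' := fun {x y} hx hy v => by
    rw [Prod.snd_mul, Units.val_mul, mul_assoc, hy, ← mul_assoc, hx, mulVec_mulVec, mul_assoc]; rfl
  one_mem' := fun v => by simp
  inv_mem' := fun {x} h v => by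
    have h2 := h (x.1⁻¹.1.1 *ᵥ v)
    rw [mulVec_mulVec, ← Units.val_mul, ← Subgroup.coe_mul, mul_inv_cancel, Subgroup.coe_one,
      Units.val_one, one_mulVec] at h2
    rw [Prod.snd_inv, Units.inv_mul_eq_iff_eq_mul, ← mul_assoc, Prod.fst_inv, h2,
      Units.mul_inv_cancel_right]

theorem mem_relG {ρ : (D.Idx → K) →ₗ[K] Matrix (Fin n) (Fin n) K} {g : D.group K} {A : GL (Fin n) K}
    (h1 : ∀ i < D.rank, A.1 * ρ (hV D K i) = ρ (g.1.1 *ᵥ hV D K i) * A.1)
    (h2 : ∀ s < D.nroots, A.1 * ρ (eV D K s) = ρ (g.1.1 *ᵥ eV D K s) * A.1) : (g, A) ∈ relG ρ := by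
  have : (LinearMap.mulLeft K A.1) ∘ₗ ρ = (LinearMap.mulRight K A.1) ∘ₗ ρ ∘ₗ g.1.1.mulVecLin := by
    refine LinearMap.pi_ext' fun w => LinearMap.ext_ring ?_
    simp only [LinearMap.comp_apply, LinearMap.single_apply, LinearMap.mulLeft_apply,
      LinearMap.mulRight_apply, mulVecLin_apply]
    rcases w with i | s
    · rw [← hV_eq_single, h1 i i.2]
    · rw [← eV_eq_single, h2 s s.2]
  exact fun v => LinearMap.congr_fun this v

variable {H E : ℕ → List (Tm0 n)}

variable (D H E) in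
/-- The kernel check for one root. -/
def chkR (r : ℕ) : Bool :=
  eqT (mulT (upT 1 1 (E r)) (upT 1 1 (E r))) [] &&
    ((List.range D.rank).all fun i => eqT (mulT (upT 1 1 (E r)) (upT 1 0 (H i)))
      (upT (-D.cartan i r) 1 (E r) ++ mulT (upT 1 0 (H i)) (upT 1 1 (E r)))) &&
    (List.range D.nroots).all fun s => eqT (upT 1 0 (E s) ++ mulT (upT 1 1 (E r)) (upT 1 0 (E s)))
      (xeT D H E r s ++ mulT (xeT D H E r s) (upT 1 1 (E r)))

theorem xg_mem_rel {r : ℕ} (hr : r < D.nroots) (h : chkR D H E r = true) (t : K) :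
    ∃ A, (C.xg K r t, A) ∈ relG (rhoT D H E K) := by
  simp only [chkR, List.all_eq_true, List.mem_range, Bool.and_eq_true] at h
  have h0 := eqT_sound h.1.1 t
  simp only [evT_mulT, evT_upT, evT_nil, Int.cast_one, one_mul, pow_one] at h0
  refine ⟨⟨1 + t • evT0 K (E r), 1 - t • evT0 K (E r), by rw [mul_sub, mul_one, add_mul, h0]; simp,
    by rw [sub_mul, one_mul, mul_add, h0]; simp⟩, mem_relG (fun i hi => ?_) fun s hs => ?_⟩
  · have := eqT_sound (h.1.2 i hi) t
    simp only [evT_mulT, evT_upT, evT_append, Int.cast_one, one_mul, pow_one, pow_zero, one_smul] at this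
    rw [Cert.coe_xg, C.V.coe_xG, x_hV hr t hi, map_sub, map_smul, rhoT_hV hi, rhoT_eV hr]
    simp only [add_mul, mul_add, sub_mul, one_mul, mul_one, this]
    simp only [mul_smul, smul_mul_assoc (D.cartan i r : K), h0]
    simp [sub_eq_add_neg, add_assoc]
  · have := eqT_sound (h.2 s hs) t
    simp only [evT_mulT, evT_upT, evT_append, Int.cast_one, one_mul, pow_one, pow_zero, one_smul] at this
    rw [Cert.coe_xg, C.V.coe_xG, rhoT_x_eV C.V.basic hr hs, rhoT_eV hs]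
    simp only [add_mul, mul_add, one_mul, mul_one, this]

theorem diag_mul_evT0 (d : Fin n → K) (x : K) (L : List (Tm0 n)) (h : ∀ e ∈ L, d e.1 = x * d e.2.1) :
    diagonal d * evT0 K L = (x • evT0 K L) * diagonal d := by
  induction L with
  | nil => simp
  | cons e L ih =>
    rw [evT0_cons, mul_add, smul_add, add_mul, ih fun e he => h e (by simp [he])]
    congr 1
    ext a b
    simp only [diagonal_mul, mul_diagonal, Matrix.smul_apply, single_apply, smul_eq_mul]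
    split_ifs with h1
    · rw [← h1.1, ← h1.2, h e (by simp)]; ring
    · simp

theorem tg_mem_rel (μ : Fin n → ℕ → ℤ) (h1 : ∀ i < D.rank, ∀ e ∈ H i, e.1 = e.2.1)
    (h2 : ∀ s < D.nroots, ∀ e ∈ E s, ∀ i < D.rank, μ e.1 i = D.cartan i s + μ e.2.1 i)
    (c : Fin D.rank → Kˣ) : ∃ A, (C.tg K c, A) ∈ relG (rhoT D H E K) := by
  let d : Fin n → Kˣ := fun a => evw c fun i => μ a i
  refine ⟨⟨diagonal fun a => d a, diagonal fun a => (d a)⁻¹, by simp, by simp⟩,
    mem_relG (fun i hi => ?_) fun s hs => ?_⟩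
  · rw [show (C.tg K c).1.1 = D.charDiag K (torChar D c) from rfl, charDiag_hV, rhoT_hV hi,
      diag_mul_evT0 _ 1 _ fun e he => by rw [h1 i hi e he, one_mul], one_smul]
  · rw [show (C.tg K c).1.1 = D.charDiag K (torChar D c) from rfl, charDiag_eV, map_smul, rhoT_eV hs]
    refine diag_mul_evT0 _ _ _ fun e he => ?_
    rw [torChar_eq_evw, ← Units.val_mul, ← evw_add]
    exact congrArg (fun v => (evw c v).1) (funext fun i => h2 s hs e he i i.2)

theorem le_of_rel [Finite K] {r : ℕ} (hr : 9 ≤ r) (hK : (r : K) ≠ 0) {Γ : Type u} [Group Γ]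
    [Finite Γ] (j : Γ →* D.group K) (π : Γ →* alternatingGroup (Fin r))
    (ρ : (D.Idx → K) →ₗ[K] Matrix (Fin n) (Fin n) K) (hs : s.Coprime (Nat.card π.ker)) {b : Γ}
    (hb : b ^ s = 1) (h1 : ∃ A, (j b, A) ∈ relG ρ) (h2 : (j b, 1) ∉ relG ρ)
    (h3 : ∀ y, ∃ g A, π g = y ∧ (j g, A) ∈ relG ρ) : r ≤ n + 1 := by
  let G := (relG ρ).comap (j.prodMap (MonoidHom.id _))
  let π' := π.comp ((MonoidHom.fst _ _).comp G.subtype)
  let φ := (MonoidHom.snd _ _).comp G.subtype
  have hπ : Function.Surjective π' := fun y => by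
    obtain ⟨g, A, e, h⟩ := h3 y
    exact ⟨⟨(g, A), h⟩, e⟩
  have hA := alternatingGroup.isSimpleGroup (α := Fin r) (by rw [Nat.card_fin]; omega)
  rcases (φ.normal_ker.map π' hπ).eq_bot_or_eq_top with h4 | h4
  · obtain ⟨σ, hσ⟩ := exists_glRep φ
    have := (feitTits hr _ π' hπ σ (fun g hg => (Subgroup.map_eq_bot_iff _).1 h4 (hσ g hg)) rfl).2
      (by rwa [← map_natCast (algebraMap K _), map_ne_zero])
    rwa [Module.finrank_fin_fun] at this
  obtain ⟨A, hA⟩ := h1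
  obtain ⟨⟨⟨g, B⟩, hg⟩, rfl : B = 1, e : π g = π b⟩ := h4.ge (Subgroup.mem_top (π b))
  have h5 : A ^ s ∈ (relG ρ).comap (MonoidHom.inr _ _) := by
    simpa [← map_pow, hb] using pow_mem hA s
  have h6 : A ^ Nat.card π.ker ∈ (relG ρ).comap (MonoidHom.inr _ _) := by
    have : (g⁻¹ * b) ^ Nat.card π.ker = 1 := congrArg Subtype.val
      (pow_card_eq_one' (x := (⟨g⁻¹ * b, by simp [MonoidHom.mem_ker, e]⟩ : π.ker)))
    generalize Nat.card π.ker = m at this
    simpa [← map_pow, ← map_inv, ← map_mul, this] using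
      pow_mem (mul_mem (inv_mem (show (j g, 1) ∈ relG ρ from hg)) hA) m
  have h7 := mul_mem (zpow_mem h5 (s.gcdA (Nat.card π.ker))) (zpow_mem h6 (s.gcdB (Nat.card π.ker)))
  rw [← zpow_natCast, ← zpow_natCast, ← _root_.zpow_mul, ← _root_.zpow_mul, ← _root_.zpow_add,
     ← Nat.gcd_eq_gcd_ab, hs,
    Nat.cast_one, zpow_one] at h7
  exact absurd (by simpa using mul_mem hA (inv_mem h7)) h2

end rel

end Cfsg.Agent.H29
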