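import Mathlib
import Cfsg.Agent.H29.AS6
import Cfsg.Agent.H34.SSC

/-! Semisimple elements over finite extension fields, and further lifting lemmas. -/

set_option autoImplicit false

namespace Cfsg.Agent.H29

open Equiv Cfsg.Lie H37 H40 H34 Finset

theorem mem_of_mul_mem {G : Type*} [Group G] {K : Subgroup G} {a b : G} {s t : ℕ} (hab : Commute a b)
    (ha : a ^ s = 1) (hb : b ^ t = 1) (h : t.Coprime s) (h1 : a * b ∈ K) : a ∈ K := by
  obtain ⟨m, hm⟩ := exists_pow_eq_self_of_coprime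
    (h.coprime_dvd_right (orderOf_dvd_of_pow_eq_one ha))
  have := pow_mem (pow_mem h1 t) m
  rwa [hab.mul_pow, hb, mul_one, hm] at this

theorem lift_comm2 {Γ A : Type*} [Group Γ] [Finite Γ] [Group A] {π : Γ →* A} {s t : ℕ}
    [Fact s.Prime] [Fact t.Prime] (hπ : Function.Surjective π) (hs : ¬ s ∣ Nat.card π.ker)
    (ht : ¬ t ∣ Nat.card π.ker) {a : Γ} (ha : a ^ s = 1) {v y : A} (hv : v ^ t = 1)
    (h1 : v * π a * v⁻¹ = π a) {k l : ℕ} (h2 : y * π a * y⁻¹ = π a ^ l) (h3 : y * v * y⁻¹ = v ^ k) :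
    ∃ b g, π b = v ∧ b ^ t = 1 ∧ Commute a b ∧ g * a * g⁻¹ = a ^ l ∧ g * b * g⁻¹ = b ^ k := by
  let N := Subgroup.normalizer (Subgroup.zpowers a : Set Γ)
  have hP := isPGroup_zpowers ha
  have key : ∀ {y : A} {l : ℕ}, y * π a * y⁻¹ = π a ^ l → y ∈ N.map π := fun {y l} h => by
    obtain ⟨g, rfl, hg⟩ := lift_norm hπ hs hP (y := y) (by
      rintro _ ⟨i, rfl⟩
      exact ⟨_, ⟨l * i, rfl⟩, by simp only [map_zpow, ← conj_zpow, h, zpow_mul, zpow_natCast, map_pow]⟩)
    exact ⟨g, mem_normalizer_zpowers (hg a (Subgroup.mem_zpowers a) _ (Subgroup.npow_mem_zpowers a l)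
      (by rw [h, map_pow])), rfl⟩
  have key2 : ∀ {g : Γ} {l : ℕ}, g ∈ N → π g * π a * (π g)⁻¹ = π a ^ l → g * a * g⁻¹ = a ^ l :=
    fun hg h => lift_inj hs hP ((Subgroup.mem_normalizer_iff.1 hg a).1 (Subgroup.mem_zpowers a))
      (Subgroup.npow_mem_zpowers a _) (by simp [h])
  have h4 := key (h1.trans (pow_one _).symm)
  obtain ⟨P, e1, -, e3, e4⟩ := lift_elab (π.subgroupMap_surjective N) (s := t) (fun h => ht (h.trans
    (Subgroup.card_dvd_of_injective ((N.subtype.comp (Subgroup.subtype _)).codRestrict π.ker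
      fun x => congrArg Subtype.val x.2) fun x y e => Subtype.ext (Subtype.ext
        (congrArg (fun z : π.ker => z.1) e))))) (S := {⟨v, h4⟩})
    (by rintro _ rfl; exact Subtype.ext hv) (by rintro _ rfl _ rfl; rfl)
  obtain ⟨b, hb, rfl : π b = v⟩ := (e3 _ rfl).imp fun _ h => And.intro h.1 (congrArg Subtype.val h.2)
  have h5 : (⟨y, key h2⟩ * π.subgroupMap N b * ⟨y, key h2⟩⁻¹ : N.map π) = π.subgroupMap N (b ^ k) :=
    Subtype.ext (h3.trans (map_pow π _ k).symm)
  obtain ⟨g, e5, e6⟩ := e4 ⟨y, key h2⟩ (by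
    rintro _ rfl
    exact h5.symm ▸ map_pow (π.subgroupMap N) b k ▸ pow_mem (Subgroup.mem_closure_singleton_self _) k)
  obtain rfl : π g = y := congrArg Subtype.val e5
  exact ⟨b, g, rfl, congrArg Subtype.val (e1 b hb), (mul_inv_eq_iff_eq_mul.1
    ((key2 b.2 (h1.trans (pow_one _).symm)).trans (pow_one _))).symm, key2 g.2 h2,
    congrArg Subtype.val (e6 b hb _ (pow_mem hb k) h5)⟩

/-- Halving of an eigenvector. -/
theorem eig_half {ι Φ : Type*} [Fintype ι] [DecidableEq ι] {R : RS ι Φ} {s : ℕ} [Fact s.Prime]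
    (h2 : (2 : ZMod s) ≠ 0) {f : Φ → ℤ} (hf : IsAdd R f) (h0 : ¬ ∀ r, (f r : ZMod s) = 0)
    {w : Perm Φ} (hw : w ∈ R.W) {d : ZMod s} (hd : d ≠ 0)
    (h : ∀ r, (f ((w ^ 2) r) : ZMod s) = d ^ 2 * f r) : ∃ g, IsAdd R g ∧ (¬ ∀ r, (g r : ZMod s) = 0) ∧
      ∃ e : ZMod s, e ^ 2 = d ^ 2 ∧ ∀ r, (g (w r) : ZMod s) = e * g r := by
  have key : ∀ e : ZMod s, e ^ 2 = d ^ 2 → ∀ r, ((f (w (w r)) + e.cast * f (w r) : ℤ) : ZMod s) =
      e * (f (w r) + e.cast * f r : ℤ) := fun e he r => by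
    have := h r
    rw [sq, Perm.mul_apply, ← he] at this
    simp only [Int.cast_add, Int.cast_mul, ZMod.intCast_cast, ZMod.cast_id', id, this]
    ring
  by_cases h1 : ∀ r, ((f (w r) + d.cast * f r : ℤ) : ZMod s) = 0
  · refine ⟨_, (hf.comp hw).add (hf.mul (-d).cast), fun h3 => h0 fun r => ?_, -d, neg_sq d,
      key _ (neg_sq d)⟩
    have := h1 r
    have := h3 r
    simp only [Int.cast_add, Int.cast_mul, ZMod.intCast_cast, ZMod.cast_id', id] at *
    exact (mul_eq_zero.1 (show 2 * d * (f r : ZMod s) = 0 by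
      linear_combination ‹_ + d * _ = _› - this)).resolve_left (mul_ne_zero h2 hd)
  · exact ⟨_, (hf.comp hw).add (hf.mul d.cast), h1, d, rfl, key _ rfl⟩

variable {D : ChevalleyDatum} (C : Cert D) {K : Type*} [Field K]

theorem exists_lab_conj (y : D.group K) : ∃ w ∈ C.S.W, ∀ {ζ : Kˣ} {h f}, Lab C ζ h f →
    y * h * y⁻¹ ∈ (C.split K).H → Lab C ζ (y * h * y⁻¹) fun r => f (w r) := by
  obtain ⟨n, hn, h1⟩ := exists_N C y
  exact ⟨_, (C.split K).ν_mem _ (inv_mem hn), fun hl h2 => by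
    simpa [h1 _ hl.mem_H h2] using hl.conj (inv_mem hn)⟩

theorem exists_descent (g : D.group K) : ∃ s : Finset K, ∀ S : Subfield K, (s : Set K) ⊆ S →
    g ∈ (C.V.fieldHom S.subtype).range := by
  classical
  induction g using C.V.group_induction with
  | h1 => exact ⟨∅, fun S _ => one_mem _⟩
  | hx r _ t g ih =>
    obtain ⟨s, hs⟩ := ih
    exact ⟨insert t s, fun S h => mul_mem ⟨_, C.V.fieldHom_xE S.subtype r ⟨t, h (by simp)⟩⟩
      (hs S fun x hx => h (by simp [hx]))⟩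

variable {C} in
theorem Lab.map {K' : Type*} [Field K'] (ι : K →+* K') {ζ : Kˣ} {h : D.group K}
    {f : Fin D.nroots → ℤ} (hl : Lab C ζ h f) :
    Lab C (Units.map (ι : K →* K') ζ) (C.V.fieldHom ι h) f := by
  obtain ⟨h1, c, rfl, h2⟩ := hl
  exact ⟨h1, _, (Cert.fieldHom_tg ι c).symm, fun r => by
    rw [← map_zpow, ← h2]; simp [torChar]⟩

/-- A semisimple element is conjugate into the split torus over a finite extension field. -/
theorem toral1 {B : List (List ℤ)} (he : InvCert D 1 B) {L : Type} [Field L] [Fintype L] (p : ℕ)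
    [Fact p.Prime] [CharP L p] {m : ℕ} (hL : Fintype.card L ≡ 1 [MOD m]) (g : D.group L)
    (hg : (orderOf g).Coprime p) : ∃ (L' : Type) (_ : Field L') (_ : Fintype L') (_ : CharP L' p),
      Fintype.card L' ≡ 1 [MOD m] ∧ ∃ φ : D.group L →* D.group L', Function.Injective φ ∧
      φ g ∈ (C.split L').H ∧ ∀ {ζ : Lˣ} {s : ℕ}, IsPrimitiveRoot ζ s → ∀ {h f}, Lab C ζ h f →
        φ h ∈ (C.split L').H → ∃ ζ' : L'ˣ, IsPrimitiveRoot ζ' s ∧
          ∃ w ∈ C.S.W, Lab C ζ' (φ h) fun r => f (w r) := by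
  classical
  let k := AlgebraicClosure L
  obtain ⟨-, c, -, hc⟩ := (C.semisimple_classes he one_ne_zero (algebraMap L k) rfl
    (Nat.coprime_one_left _) p).2 g hg
  obtain ⟨y, hy⟩ := isConj_iff.1 hc.symm
  obtain ⟨s, hs⟩ := exists_descent C y
  let S := IntermediateField.adjoin L ((s ∪ univ.image fun i => (c i : k) : Finset k) : Set k)
  have : FiniteDimensional L S := IntermediateField.finiteDimensional_adjoin fun x _ =>
    Algebra.IsIntegral.isIntegral x
  have : Finite S := Module.finite_of_finite L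
  have := Fintype.ofFinite S
  have h1 : ∀ i, (c i : k) ∈ S := fun i => IntermediateField.subset_adjoin _ _ (by simp)
  obtain ⟨y, rfl⟩ := hs S.toSubfield fun x hx => IntermediateField.subset_adjoin _ _ (by simp [hx])
  obtain ⟨w, hw, h2⟩ := exists_lab_conj C (K := S) y
  refine ⟨S, _, ‹_›, charP_of_injective_algebraMap (algebraMap L S).injective p, by
      rw [Module.card_eq_pow_finrank (K := L)]; simpa using hL.pow _,
    (MulAut.conj (G := D.group S) y).toMonoidHom.comp (C.V.fieldHom (algebraMap L S)),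
    (MulAut.conj (G := D.group S) y).injective.comp (C.V.fieldHom_injective _),
    Cert.mem_H_iff.2 ⟨fun i => Units.mk0 ⟨c i, h1 i⟩ fun e => (c i).ne_zero (congrArg Subtype.val e),
      C.V.fieldHom_injective S.toSubfield.subtype ?_⟩, fun hζ h f hl h3 =>
    ⟨_, hζ.map_of_injective (Units.map_injective (algebraMap L S).injective), w, hw,
      h2 (hl.map _) h3⟩⟩
  refine (Cert.fieldHom_tg S.toSubfield.subtype _).trans
    (Eq.trans (b := C.tg k c) (congrArg _ (funext fun i => Units.ext rfl)) (hy.symm.trans ?_))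
  rw [← map_inv, show C.V.fieldHom (algebraMap L k) g = C.V.fieldHom S.toSubfield.subtype
    (C.V.fieldHom (algebraMap L S) g) from Subtype.ext (Units.ext (Matrix.ext fun _ _ => rfl)),
    ← map_mul, ← map_mul]
  rfl

variable {C}

theorem exists_lab_of_inv {B : List (List ℤ)} (hB : ∀ k < D.rank, ∀ j < D.rank,
    ∑ i ∈ range D.rank, gt B i k * D.cartan i (D.simple j) = if k = j then 1 else 0) {ζ : Kˣ} {s : ℕ}
    (hζ : IsPrimitiveRoot ζ s) {f : Fin D.nroots → ℤ} (hf : IsAdd C.R f) : ∃ h, Lab C ζ h f :=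
  ⟨_, lab_tg hζ hf (fun i => ∑ k : Fin D.rank, f (C.R.simple k) * gt B i k) fun j => by
    simp only [sum_mul, mul_assoc]
    rw [sum_comm]
    have : ∀ k : Fin D.rank, ∑ i : Fin D.rank, gt B i k * D.cartan i (D.simple j) =
        if k = j then 1 else 0 := fun k => by
      rw [← Finset.sum_range fun i => gt B i k * D.cartan i (D.simple j), hB _ k.2 _ j.2]
      simp [Fin.ext_iff]
    simp only [← mul_sum, this]
    simp⟩

theorem Lab.mem_H_of_ht {ζ : Kˣ} {s b : ℕ} (hζ : IsPrimitiveRoot ζ s) {h x : D.group K}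
    (hl : Lab C ζ h C.R.ht) (hb : ∀ r, |C.R.ht r| ≤ b) (hs : 2 * b < s) (hx : Commute h x) :
    x ∈ (C.split K).H := by
  have key : ∀ r t, (C.R.ht r : ZMod s) = C.R.ht t → C.R.ht r = C.R.ht t := fun r t e => by
    have h1 := abs_le.1 (hb r)
    have h2 := abs_le.1 (hb t)
    exact (sub_eq_zero.1 (Int.eq_zero_of_abs_lt_dvd ((ZMod.intCast_eq_intCast_iff_dvd_sub _ _ _).1 e)
      (abs_lt.2 ⟨by omega, by omega⟩))).symm
  refine hl.cent_le hζ (fun r hr => ?_) (fun n hn h1 => Split.mem_H_of hn ?_) hx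
  · have := key r (C.R.neg r) (by rw [C.R.ht_neg, Int.cast_neg, hr, neg_zero])
    rw [C.R.ht_neg] at this
    exact absurd (by omega) (C.R.ht_ne_zero r)
  · by_contra h2
    obtain ⟨j, hj⟩ := C.S.exists_descent ((C.split K).ν_mem n hn) h2
    exact hj ((C.R.ht_pos_iff _).1 (by
      rw [key _ _ (h1 _)]; exact (C.R.ht_pos_iff _).2 (C.R.pos_simple j)))

end Cfsg.Agent.H29
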