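import Mathlib
import Cfsg.Agent.H29.ASTab8

/-! Finite checks in the Weyl group of `E₈`: alcoves. -/

set_option autoImplicit false
set_option maxRecDepth 100000

namespace Cfsg.Agent.H29

open Cfsg.Lie

theorem alc8_17 : allAlc [2, 3, 4, 6, 5, 4, 3, 2] 17 (ratL tn8 17 3 []) = true := by
  refine allAlc_cons.2 fun x hx => allAlc_cons.2 fun y hy => ?_
  replace hx : x < 9 := hx
  interval_cases x <;> simp only [Nat.reduceMul, Nat.reduceSub, Nat.reduceDiv, Nat.reduceAdd] at hy <;>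
    interval_cases y <;> refine allAlc_cons.2 fun z hz => ?_ <;>
    simp only [Nat.reduceMul, Nat.reduceSub, Nat.reduceDiv, Nat.reduceAdd] at hz <;>
    interval_cases z <;> decide +kernel

theorem alc8_13 : allAlc [2, 3, 4, 6, 5, 4, 3, 2] 13
    (ratL tn8 13 2 [[1, 0, 0, 0, 0, 1, 1, 1], [1, 1, 0, 0, 1, 0, 0, 1]]) = true := by
  refine allAlc_cons.2 fun x hx => allAlc_cons.2 fun y hy => ?_
  replace hx : x < 7 := hx
  interval_cases x <;> simp only [Nat.reduceMul, Nat.reduceSub, Nat.reduceDiv, Nat.reduceAdd] at hy <;>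
    interval_cases y <;> decide +kernel

theorem alc8_11 : allAlc [2, 3, 4, 6, 5, 4, 3, 2] 11
    (ratL tn8 11 2 [[1, 1, 0, 0, 0, 0, 1, 1]]) = true := by
  refine allAlc_cons.2 fun x hx => ?_
  replace hx : x < 6 := hx
  interval_cases x <;> decide +kernel

/-- The number of roots killed by `a` modulo `3` is at least `84`. -/
noncomputable def good8 (a : List ℕ) : Bool := Nat.ble 84 (zN 3 tn8 a)

theorem alc8_3 : allAlc [2, 3, 4, 6, 5, 4, 3, 2] 3 (fun a => !good8 a || decide (a ∈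
    [[0, 0, 0, 0, 0, 0, 0, 0], [1, 0, 0, 0, 0, 0, 0, 0], [0, 0, 0, 0, 0, 0, 0, 1]])) = true := by
  decide +kernel

theorem alc8_5 : allAlc [2, 3, 4, 6, 5, 4, 3, 2] 5 (fun a => !allL (fun x =>
    Nat.ble ((dotN a x.2.2 + 1) % 5) 2) tn8 || decide (a = [0, 0, 0, 0, 0, 0, 0, 0])) = true := by
  decide +kernel

theorem inj8 : ∀ j < chevE8.rank, ∀ r < chevE8.nroots,
    (chevE8.cartan j r - 2) % (17 : ℕ) = 0 → r = chevE8.simple j := fun j hj => by
  replace hj : j < 8 := hj
  interval_cases j <;> decide +kernel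

end Cfsg.Agent.H29
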