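import Mathlib
import Cfsg.Agent.H29.ASChk8a

/-! Finite checks in the Weyl group of `E₈`: cosets of stabilisers. -/

set_option autoImplicit false
set_option maxRecDepth 100000

namespace Cfsg.Agent.H29

open Cfsg.Lie

/-- A basis of the lattice orthogonal to the roots killed by the rational point modulo `11`. -/
def fix11 : List (List ℕ) := [[0, 0, 0, 0, 0, 0, 0, 1], [0, 1, 0, 0, 2, 1, 0, 0],
  [1, 1, 2, 0, 0, 0, 0, 0], [0, 0, 1, 2, 0, 1, 2, 0]]

/-- A basis of the lattice orthogonal to the roots killed by a rational point modulo `13`. -/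
def fix13 : List (List ℕ) := [[0, 0, 0, 0, 0, 1, 2, 0], [0, 0, 1, 2, 0, 0, 0, 0],
  [1, 1, 0, 2, 0, 0, 0, 0], [0, 1, 0, 0, 2, 0, 1, 2]]

theorem cos8_11 : srch cn8 tn8 11 2 [1, 1, 0, 0, 0, 0, 1, 1] (fun M => hornA 3 un8 M [1, 2, 1, 2, 1]
    fun G => allL (fun z => allL (kil 3 · z) G) fix11) = true := by
  refine srch_of_split (m := 8) (by decide) fun i hi => ?_
  interval_cases i <;> decide +kernel

theorem cos8_13 : srch cn8 tn8 13 2 [1, 1, 0, 0, 1, 0, 0, 1] (fun M => hornA 3 un8 M [1, 0, 2, 0, 1]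
    fun G => allL (fun z => allL (kil 3 · z) G) fix13) = true := by
  refine srch_of_split (m := 4) (by decide) fun i hi => ?_
  interval_cases i <;> decide +kernel

theorem cos8_13' : srch cn8 tn8 13 2 [1, 0, 0, 0, 0, 1, 1, 1]
    (fun M => polyOK 5 un8 M [4, 0, 1, 0, 4, 0, 1, 0, 4, 0, 1]) = true := by
  refine srch_of_split (m := 16) (by decide) fun i hi => ?_
  interval_cases i <;> decide +kernel

theorem cube8_11 : allCube 3 8 (fun a => !(allL (kil 3 a) fix11 &&
    jointB tn8 3 1 a 11 2 [1, 1, 0, 0, 0, 0, 1, 1]) || good8 a) = true := by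
  refine allCube_succ.2 fun x hx => allCube_succ.2 fun y hy => ?_
  interval_cases x <;> interval_cases y <;> decide +kernel

theorem cube8_13 : allCube 3 8 (fun a => !(allL (kil 3 a) fix13 &&
    jointB tn8 3 1 a 13 2 [1, 1, 0, 0, 1, 0, 0, 1]) || good8 a) = true := by
  refine allCube_succ.2 fun x hx => allCube_succ.2 fun y hy => ?_
  interval_cases x <;> interval_cases y <;> decide +kernel

end Cfsg.Agent.H29
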