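import Mathlib
import Cfsg.Agent.H29.AS7
import Cfsg.Agent.H29.ASChk8b
import Cfsg.Agent.H34.Chev3

/-! The Weyl group of type `E₈` acting on elements of finite order of the torus. -/

set_option autoImplicit false

namespace Cfsg.Agent.H29

open Equiv Cfsg.Lie H37 H40 H34 Finset

variable {C : Cert chevE8} {f g : Fin chevE8.nroots → ℤ} {v w : Perm (Fin chevE8.nroots)}

theorem thE8 : (rd chevE8 rcE8 (⟨239, by decide⟩ : Fin chevE8.nroots)).2.2.2 =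
    [2, 3, 4, 6, 5, 4, 3, 2].map (↑) := by decide +kernel

theorem cardW_E8 (C : Cert chevE8) : Nat.card C.S.W = 696729600 := card_W_E8 (isCartan_E8 C)

theorem comb8_17 (hf : IsAdd C.R f) (h1 : ∀ r, (f (w r) : ZMod 17) = (3 : ℕ) * f r) :
    ∀ r, (f r : ZMod 17) = 0 := by
  by_contra h0
  obtain ⟨_, -, _, ha, -⟩ := alc_rat tabOKE8 tabN8 (by decide) hf h1 h0 (by decide) _ thE8 alc8_17
  simp at ha

theorem W8_pow (hw : w ∈ C.S.W) : w ^ (8 * 42525) = 1 := by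
  have key : ∀ w ∈ C.S.W, w ^ 16 = 1 → w ^ 8 = 1 := fun w hw h => by
    refine eq_one_of_mod inj8 (pow_mem hw _) fun f hf => ?_
    by_contra h0
    have h1 : ∀ c : ZMod 17, c ^ 8 = 1 → ∃ d, d ≠ 0 ∧ d ^ 2 = c := by decide
    have h2 : ∀ e : ZMod 17, e ^ 8 = -1 → ∃ i < 16, e ^ i = (3 : ℕ) := by decide
    obtain ⟨g₁, a₁, b₁, e₁, c₁, d₁⟩ := eig_half (s := 17) (by decide) ((hf.comp (pow_mem hw 8)).sub hf)
      (fun h => h0 fun r => by simpa [sub_eq_zero] using h r) (pow_mem hw 4) (d := 4) (by decide)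
      fun r => by
        rw [← pow_mul, ← Perm.mul_apply, ← pow_add, h, show (4 : ZMod 17) ^ 2 = -1 by decide]
        simp
    obtain ⟨x, hx, rfl⟩ := h1 e₁ (by rw [show 8 = 2 * 4 from rfl, pow_mul, c₁]; decide)
    obtain ⟨g₂, a₂, b₂, e₂, c₂, d₂⟩ := eig_half (by decide) a₁ b₁ (pow_mem hw 2) hx
      (by rwa [← pow_mul])
    obtain ⟨y, hy, rfl⟩ := h1 e₂ (by
      rw [show 8 = 2 * (2 * 2) from rfl, pow_mul, c₂, pow_mul, c₁]; decide)
    obtain ⟨g₃, a₃, b₃, e₃, c₃, d₃⟩ := eig_half (by decide) a₂ b₂ hw hy d₂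
    obtain ⟨i, -, hi⟩ := h2 e₃ (by
      rw [show 8 = 2 * (2 * 2) from rfl, pow_mul, c₃, pow_mul, c₂, c₁]; decide)
    exact b₃ (comb8_17 a₃ (hi ▸ rel_pow d₃ i))
  have h1 : ∀ n, ∀ w ∈ C.S.W, w ^ (8 * 2 ^ n) = 1 → w ^ 8 = 1 := fun n => by
    induction n with
    | zero => exact fun w _ h => h
    | succ n ih =>
      exact fun w hw h => ih w hw (by
        rw [mul_comm, pow_mul]
        exact key _ (pow_mem hw _) (by rw [← pow_mul, ← h]; congr 1; ring))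
  have := congrArg Subtype.val (pow_card_eq_one' (x := (⟨w, hw⟩ : C.S.W)))
  rw [cardW_E8] at this
  rw [mul_comm, pow_mul]
  exact h1 11 _ (pow_mem hw _) (by rw [← pow_mul]; exact this)

theorem comb8_min (hf : IsAdd C.R f) (h : ∀ r, |f r| ≤ 1) (r : Fin chevE8.nroots) : f r = 0 := by
  obtain ⟨u, hu, a, h1, -, h2⟩ := hf.alc tabOKE8 (s := 5) (by decide) (by decide) _ thE8 alc8_5
  rw [allL_iff.2 fun x hx => ?_] at h1
  · obtain rfl := of_decide_eq_true h1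
    have h3 := (hf.comp hu).eq_zero (s := 5) (fun j => by
      rw [← h2 j]; fin_cases j <;> rfl) (u⁻¹ r)
    have := abs_le.1 (h r)
    simp only [Perm.coe_inv, apply_symm_apply, ZMod.intCast_zmod_eq_zero_iff_dvd] at h3
    omega
  rw [← List.map_id tn8, tabN_map tabOKE8 tabN8] at hx
  obtain ⟨r, rfl⟩ := List.mem_ofFn.1 hx
  have h3 := h2.dotN_rn tabOKE8 tabN8 (by decide) (hf.comp hu) r
  have := abs_le.1 (h (u r))
  rw [← Int.cast_natCast, ZMod.intCast_eq_intCast_iff_dvd_sub] at h3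
  exact Nat.ble_eq_true_of_le (by simp only [id]; omega)

theorem stab8_3 (hf : IsAdd C.R f) (h : ∀ r, |f r| ≤ 2) (hw : w ∈ C.S.W)
    (h1 : ∀ r, (f (w r) : ZMod 3) = f r) (r : Fin chevE8.nroots) : f (w r) = f r := by
  choose d hd using fun r => (ZMod.intCast_eq_intCast_iff_dvd_sub _ _ _).1 (h1 r)
  have h2 := comb8_min (C := C) (f := d) (fun r => mul_left_cancel₀ (show ((3 : ℕ) : ℤ) ≠ 0 by decide) (by
    simp only [← hd, (hf.sub (hf.comp hw)) r, mul_sum, mul_left_comm ((3 : ℕ) : ℤ)])) (fun r => by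
    have := abs_le.1 (h r)
    have := abs_le.1 (h (w r))
    have := hd r
    exact abs_le.2 ⟨by omega, by omega⟩) r
  have := hd r
  omega

theorem comb8_3 (hf : IsAdd C.R f) (h : 84 ≤ z0 3 f) :
    ∃ μ, IsAdd C.R μ ∧ (∀ r, |μ r| ≤ 2) ∧ ∀ r, (μ r : ZMod 3) = f r := by
  obtain ⟨u, hu, a, h1, -, h2⟩ := hf.alc tabOKE8 (s := 3) (by decide) (by decide) _ thE8 alc8_3
  rw [good8, h2.zN_eq tabOKE8 tabN8 (by decide) (hf.comp hu), ← z0_congr u fun _ => Iff.rfl,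
    Nat.ble_eq_true_of_le h] at h1
  refine ⟨_, (isAdd_vN C a).comp (inv_mem hu), fun r => ?_, fun r => by
    rw [h2.vN_eq (hf.comp hu)]; simp⟩
  have h3 : ∀ a ∈ [[0, 0, 0, 0, 0, 0, 0, 0], [1, 0, 0, 0, 0, 0, 0, 0], [0, 0, 0, 0, 0, 0, 0, 1]],
      ∀ r < 240, |∑ j : Fin 8, gt rcE8 r j * (a.getD j 0 : ℕ)| ≤ 2 := by decide +kernel
  simp only [vN, rc_eq C tabOKE8]
  exact h3 a (of_decide_eq_true h1) _ (Fin.is_lt _)

theorem ht8 (r : Fin chevE8.nroots) : |C.R.ht r| ≤ (29 : ℕ) := by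
  have h3 : ∀ r < 240, |∑ j : Fin 8, gt rcE8 r j| ≤ (29 : ℕ) := by decide +kernel
  simp only [RS.ht_def, rc_eq C tabOKE8]
  exact h3 r r.2

theorem good8_of {t : ℕ} (ht : t ∣ 36465) {b cs : List ℕ} {Z : List (List ℕ)} (hl : b.length = 8)
    (hZ : ∀ z ∈ Z, z.length = 8) (hcs : ((Nat.ofDigits 1 cs : ℕ) : ZMod 3) = 1)
    (hS : srch cn8 tn8 t 2 b (fun M => hornA 3 un8 M cs
      fun G => allL (fun z => allL (kil 3 · z) G) Z) = true)
    (hC : allCube 3 8 (fun a => !(allL (kil 3 a) Z && jointB tn8 3 1 a t 2 b) || good8 a) = true)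
    (hf : IsAdd C.R f) (hg : IsAdd C.R g) (hb : Rp C t b g) (hw : w ∈ C.S.W)
    (h1 : ∀ r, (f (w r) : ZMod 3) = (1 : ℕ) * f r) (h2 : ∀ r, (g (w r) : ZMod t) = (2 : ℕ) * g r) :
    84 ≤ z0 3 f := by
  have h3 := srch_spec tabOKE8 tabN8 ht hw hl hb hg h2 hS
  rw [hornA_eq, allL_iff] at h3
  obtain ⟨a, ha, -, h4⟩ := exists_cube (C := C) f (by decide) hC
  rw [jointB_of tabOKE8 tabN8 (by decide) h4 hf h1 ht hb hg h2, allL_iff.2 fun z hz => kil_iff.2 (by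
    have := (kil_all_iff tabOKE8 tabN8 (by decide) hw _ (hZ z hz)).1 (h3 z hz) f hf
    rwa [ev_eig h1, hcs, one_mul, ← h4.dotN_eq (hZ z hz)] at this), good8,
    h4.zN_eq tabOKE8 tabN8 (by decide) hf] at ha
  simpa using ha

theorem comb8_13 (hf : IsAdd C.R f) (hg : IsAdd C.R g) (hw : w ∈ C.S.W)
    (h0 : ¬ ∀ r, (f r : ZMod 13) = 0) (h0' : ¬ ∀ r, (g r : ZMod 5) = 0)
    (h1 : ∀ r, (f (w r) : ZMod 13) = (2 : ℕ) * f r) (h2 : ∀ r, (g (w r) : ZMod 5) = (2 : ℕ) * g r) :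
    ∃ u ∈ C.S.W, Rp C 13 [1, 1, 0, 0, 1, 0, 0, 1] fun r => f (u r) := by
  obtain ⟨u, hu, a, ha, h3, h4⟩ := alc_rat tabOKE8 tabN8 (by decide) hf h1 h0 (by decide) _ thE8 alc8_13
  simp only [List.mem_cons, List.not_mem_nil, or_false] at ha
  rcases ha with rfl | rfl
  · have hw' := mul_mem (mul_mem (inv_mem hu) hw) hu
    refine absurd (fun r => ?_) h0'
    have := polyOK_all tabOKE8 tabN8 (by decide) hw' (srch_spec tabOKE8 tabN8 (by decide) hw' h3 h4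
      (hf.comp hu) (fun r => by simp [h1]) cos8_13') (hg.comp hu) (u⁻¹ r)
    rw [pev_eig (k := 2) fun r => by simp [h2], mul_eq_zero] at this
    simpa using this.resolve_left (by decide)
  · exact ⟨u, hu, h4⟩

/-- The inverse of the Cartan matrix. -/
def inv8 : List (List ℤ) := [[4, 5, 7, 10, 8, 6, 4, 2], [5, 8, 10, 15, 12, 9, 6, 3],
  [7, 10, 14, 20, 16, 12, 8, 4], [10, 15, 20, 30, 24, 18, 12, 6], [8, 12, 16, 24, 20, 15, 10, 5],
  [6, 9, 12, 18, 15, 12, 8, 4], [4, 6, 8, 12, 10, 8, 6, 3], [2, 3, 4, 6, 5, 4, 3, 2]]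

theorem inv8_ok : InvCert chevE8 1 inv8 := by decide +kernel

theorem exists_lab8 {K : Type*} [Field K] {ζ : Kˣ} {s : ℕ} (hζ : IsPrimitiveRoot ζ s)
    (hf : IsAdd C.R f) : ∃ h, Lab C ζ h f :=
  exists_lab_of_inv (B := inv8) (by decide +kernel) hζ hf

end Cfsg.Agent.H29
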