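import Mathlib
import Cfsg.Agent.H29.Binary

/-!
Simultaneous conjugacy of pairs in `PGL₂`, conjugacy of the subgroups `A₅`.
-/

set_option autoImplicit false

namespace Cfsg.Agent.H29

open scoped MatrixGroups LinearAlgebra.Projectivization
open Matrix MulAction

section general
variable {G : Type*} [Group G]

lemma exists_conj_of_card_pow [Finite G] {p k : ℕ} [Fact p.Prime] {H P Q : Subgroup G}
    (hP : P ≤ H) (hQ : Q ≤ H) (cP : Nat.card P = p ^ k) (cQ : Nat.card Q = p ^ k)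
    (hH : (Nat.card H).factorization p = k) :
    ∃ h ∈ H, Q = P.map (MulAut.conj h).toMonoidHom := by
  let P' : Sylow p H := Sylow.ofCard (P.subgroupOf H) (by
    rw [Nat.card_congr (Subgroup.subgroupOfEquivOfLe hP).toEquiv, cP, hH])
  let Q' : Sylow p H := Sylow.ofCard (Q.subgroupOf H) (by
    rw [Nat.card_congr (Subgroup.subgroupOfEquivOfLe hQ).toEquiv, cQ, hH])
  obtain ⟨h, e⟩ := exists_smul_eq H P' Q'
  refine ⟨h, h.2, ?_⟩
  have e' : (P.subgroupOf H).map (MulAut.conj h).toMonoidHom = Q.subgroupOf H :=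
    congrArg (fun S : Sylow p H => (S : Subgroup H)) e
  have := congrArg (Subgroup.map H.subtype) e'
  rw [map_conj_map, Subgroup.map_subgroupOf_eq_of_le hP, Subgroup.map_subgroupOf_eq_of_le hQ] at this
  exact this.symm

/-- If `H` contains the normaliser of one of its Sylow subgroups, then two distinct conjugates
of `H` never share a Sylow subgroup. -/
lemma mem_of_sylow_dvd [Finite G] {p k : ℕ} [Fact p.Prime] {H P : Subgroup G} (hP : P ≤ H)
    (cP : Nat.card P = p ^ k) (hH : (Nat.card H).factorization p = k)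
    (hN : Subgroup.normalizer (P : Set G) ≤ H) {g : G}
    (hg : p ^ k ∣ Nat.card ↥(H ⊓ H.map (MulAut.conj g).toMonoidHom)) : g ∈ H := by
  obtain ⟨Q', hQ'⟩ := Sylow.exists_subgroup_card_pow_prime p hg
  let Q := Q'.map (H ⊓ H.map (MulAut.conj g).toMonoidHom).subtype
  have cQ : Nat.card Q = p ^ k := by
    rw [← hQ']; exact Subgroup.card_map_of_injective (Subgroup.subtype_injective _)
  have hQ : Q ≤ H ⊓ H.map (MulAut.conj g).toMonoidHom := Subgroup.map_subtype_le _
  obtain ⟨h1, a1, e1⟩ := exists_conj_of_card_pow hP (hQ.trans inf_le_left) cP cQ hH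
  obtain ⟨h2, a2, e2⟩ := exists_conj_of_card_pow (Q := Q.map (MulAut.conj g⁻¹).toMonoidHom) hP
    (by rw [← map_conj_le_map_conj_iff (c := g), map_conj_map_conj, mul_inv_cancel, map_conj_one]
        exact hQ.trans inf_le_right) cP (by rw [card_map_conj, cQ]) hH
  have : h2⁻¹ * (g⁻¹ * h1) ∈ H := hN (by
    rw [mem_normalizer_iff_map_conj, ← map_conj_map_conj, ← map_conj_map_conj, ← e1, e2,
      map_conj_inv_map_conj])
  have := mul_mem (mul_mem a2 this) (inv_mem a1)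
  simpa using this

end general

variable {F : Type*} [Field F]

lemma trace_conjSL (C : GL (Fin 2) F) (g : SL(2, F)) :
    conjSL C g 0 0 + conjSL C g 1 1 = g 0 0 + g 1 1 := by
  have := Matrix.trace_units_conj C (g : Matrix (Fin 2) (Fin 2) F)
  rw [Matrix.trace_fin_two, Matrix.trace_fin_two] at this
  exact this

lemma exists_conjSL_companion {X : SL(2, F)} (hX : slp X ≠ 1) :
    ∃ C, conjSL C X = smat 0 (-1) 1 (X 0 0 + X 1 1) (by simp) := by
  obtain ⟨C, hC⟩ := isConj_iff.1 (GL2_isConj_of_trace_det (A := SpecialLinearGroup.toGL X)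
    (B := SpecialLinearGroup.toGL (smat 0 (-1) 1 (X 0 0 + X 1 1) (by simp))) hX
    (by rw [← slp_apply, Ne, slp_smat, pmk_eq_one_iff]; simp) (by simp [toGL_apply'])
    (by simp only [toGL_apply', SL2_det]))
  exact ⟨C, SpecialLinearGroup.toGL_injective (by rw [toGL_conjSL, hC])⟩

lemma conj_pair_aux {s : F} {Y Y' : SL(2, F)} (ht : Y 0 0 + Y 1 1 = Y' 0 0 + Y' 1 1)
    (hr : -Y 1 0 + Y 0 1 + s * Y 1 1 = -Y' 1 0 + Y' 0 1 + s * Y' 1 1)
    (hno : ∀ z : P1 F, slp (smat 0 (-1) 1 s (by simp)) • z = z → slp Y • z ≠ z) :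
    ∃ c : PGL(2, F), c * slp (smat 0 (-1) 1 s (by simp)) * c⁻¹ = slp (smat 0 (-1) 1 s (by simp)) ∧
      c * slp Y * c⁻¹ = slp Y' := by
  have d1 := SL2_det Y
  have d2 := SL2_det Y'
  have key : ∀ α β : F, β ≠ 0 →
      α * (Y 0 1 - Y' 0 1) = β * (Y 1 1 - Y' 0 0 + s * Y' 0 1) →
      α * (Y 1 1 - Y' 1 1) = β * (-Y' 1 0 + s * Y' 1 1 - Y 0 1 - s * Y 1 1) →
      ∃ c : PGL(2, F), c * slp (smat 0 (-1) 1 s (by simp)) * c⁻¹ =
        slp (smat 0 (-1) 1 s (by simp)) ∧ c * slp Y * c⁻¹ = slp Y' := by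
    intro α β hβ e1 e2
    have e0 : α * Y 0 0 - β * Y 1 0 = Y' 0 0 * α + Y' 0 1 * β := by
      linear_combination α * ht + β * hr - e2
    have hdet : α * (α + s * β) - -β * β ≠ 0 := fun h0 => by
      have hv : (![β, α] : Fin 2 → F) ≠ 0 := fun h => hβ (congrFun h 0)
      refine hno (Projectivization.mk F _ hv) ?_ ?_
      · rw [slp_smat, pmk_smul_mk]; simp; linear_combination -h0
      · rw [slp_apply, pmk_smul_mk]
        simp only [toGL_apply', Matrix.cons_val_zero, Matrix.cons_val_one]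
        linear_combination β * e0 + α * e1 + Y' 0 1 * h0
    refine ⟨pmk (mat α (-β) β (α + s * β) hdet), ?_, ?_⟩ <;>
      simp only [mul_inv_eq_iff_eq_mul, slp_apply, ← map_mul] <;> congr 1 <;>
      apply GL2_ext <;> simp only [GL2_mul_apply, toGL_apply', mat_00, mat_01, mat_10, mat_11,
        smat_00, smat_01, smat_10, smat_11]
    · ring
    · ring
    · ring
    · ring
    · linear_combination e0
    · linear_combination e1
    · linear_combination e1 + s * e2 + β * ht - (α + s * β) * hr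
    · linear_combination e2
  by_cases hb : Y 0 1 = Y' 0 1
  · by_cases hd : Y 1 1 = Y' 1 1
    · refine ⟨1, by simp, ?_⟩
      have : Y = Y' := SL2_ext (by linear_combination ht - hd) hb
        (by linear_combination -hr + hb + s * hd) hd
      simp [this]
    · refine key (-Y' 1 0 + s * Y' 1 1 - Y 0 1 - s * Y 1 1) _ (sub_ne_zero.2 hd) ?_ (mul_comm _ _)
      linear_combination d1 - d2 - Y 1 1 * ht - Y 0 1 * hr
  · refine key (Y 1 1 - Y' 0 0 + s * Y' 0 1) _ (sub_ne_zero.2 hb) (mul_comm _ _) ?_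
    linear_combination -d1 + d2 + Y 1 1 * ht + Y 0 1 * hr

/-- Pairs in `SL₂` with the same three traces and no common fixed point are conjugate. -/
theorem exists_conj_pair {X Y X' Y' : SL(2, F)} (hX : slp X ≠ 1) (hX' : slp X' ≠ 1)
    (h1 : X 0 0 + X 1 1 = X' 0 0 + X' 1 1) (h2 : Y 0 0 + Y 1 1 = Y' 0 0 + Y' 1 1)
    (h3 : (X * Y) 0 0 + (X * Y) 1 1 = (X' * Y') 0 0 + (X' * Y') 1 1)
    (hno : ∀ z : P1 F, slp X • z = z → slp Y • z ≠ z) :
    ∃ c : PGL(2, F), c * slp X * c⁻¹ = slp X' ∧ c * slp Y * c⁻¹ = slp Y' := by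
  obtain ⟨C, hC⟩ := exists_conjSL_companion hX
  obtain ⟨C', hC'⟩ := exists_conjSL_companion hX'
  rw [← trace_conjSL C, ← trace_conjSL C' Y'] at h2
  rw [← trace_conjSL C, ← trace_conjSL C' (X' * Y'), map_mul, map_mul, hC, hC'] at h3
  simp only [SL2_mul_apply, smat_00, smat_01, smat_10, smat_11] at h3
  obtain ⟨c, e1, e2⟩ := conj_pair_aux (s := X 0 0 + X 1 1) h2
    (by linear_combination h3 - (conjSL C' Y') 1 1 * h1) (by
      intro z a1 a2
      rw [← hC, slp_conjSL] at a1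
      rw [slp_conjSL] at a2
      rw [← smul_inv_smul (pmk C) z, conj_smul_eq_iff] at a1 a2
      exact hno _ a1 a2)
  refine ⟨(pmk C')⁻¹ * c * pmk C, ?_, ?_⟩
  · have e3 := congrArg slp hC
    have e4 := congrArg slp hC'
    rw [slp_conjSL] at e3 e4
    simp only [← h1] at e4
    calc _ = (pmk C')⁻¹ * (c * (pmk C * slp X * (pmk C)⁻¹) * c⁻¹) * pmk C' := by group
      _ = _ := by rw [e3, e1, ← e4]; group
  · rw [slp_conjSL, slp_conjSL] at e2
    calc _ = (pmk C')⁻¹ * (c * (pmk C * slp Y * (pmk C)⁻¹) * c⁻¹) * pmk C' := by group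
      _ = _ := by rw [e2]; group

lemma exists_lift_of_sq {g : PGL(2, F)} (hg : g ∈ Lsub F) {τ : F} (h : τ ^ 2 = tri g) :
    ∃ A : SL(2, F), slp A = g ∧ A 0 0 + A 1 1 = τ := by
  obtain ⟨A, rfl⟩ := hg
  change τ ^ 2 = tri (slp A) at h
  rw [tri_slp, sq_eq_sq_iff_eq_or_eq_neg] at h
  rcases h with h | h
  · exact ⟨A, rfl, h.symm⟩
  · exact ⟨-A, slp_neg A, by simp [h]; ring⟩

/-- Version in `PGL₂` when the second elements are involutions. -/
theorem exists_conj_pair_invol {a x a' x' : PGL(2, F)} (ha : a ∈ Lsub F) (hx : x ∈ Lsub F)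
    (ha' : a' ∈ Lsub F) (hx' : x' ∈ Lsub F) (ha1 : a ≠ 1) (ha1' : a' ≠ 1) (h1 : tri a = tri a')
    (h2 : tri x = 0) (h2' : tri x' = 0) (h3 : tri (a * x) = tri (a' * x'))
    (hno : ∀ z : P1 F, a • z = z → x • z ≠ z) :
    ∃ c : PGL(2, F), c * a * c⁻¹ = a' ∧ c * x * c⁻¹ = x' := by
  obtain ⟨A, rfl⟩ := ha
  obtain ⟨X, rfl⟩ := hx
  change tri (slp A) = _ at h1
  change tri (slp X) = _ at h2
  change tri (slp A * slp X) = _ at h3
  obtain ⟨A', rfl, e1⟩ := exists_lift_of_sq ha' (τ := A 0 0 + A 1 1) (by rw [← h1, tri_slp])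
  obtain ⟨B', e2, e3⟩ := exists_lift_of_sq (mul_mem ha' hx') (τ := (A * X) 0 0 + (A * X) 1 1)
    (by rw [← h3, ← map_mul, tri_slp])
  have e4 : slp (A'⁻¹ * B') = x' := by rw [map_mul, e2, map_inv, inv_mul_cancel_left]
  subst e4
  rw [tri_slp, pow_eq_zero_iff two_ne_zero] at h2 h2'
  exact exists_conj_pair ha1 ha1' e1.symm (h2.trans h2'.symm)
    (by rw [mul_inv_cancel_left, e3]) hno

lemma tri_mul_self {g : PGL(2, F)} : tri (g * g) = (tri g - 2) ^ 2 := by
  obtain ⟨A, rfl⟩ := pmk_surj g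
  have := GL2_det_ne_zero A
  rw [← map_mul, tri_pmk, tri_pmk, GL2_det_mul]
  simp only [GL2_mul_apply]
  field_simp
  ring

lemma A5_second_pair : ∃ y : A5, y * y = 1 ∧ (y * (a5a * a5a)) ^ 3 = 1 := by
  decide +kernel

lemma A5_gen_pairs {G : Type*} [Group G] {H : Subgroup G} (e : H ≃* A5) :
    ∃ x a y : G, x * x = 1 ∧ a ^ 5 = 1 ∧ a ≠ 1 ∧ (x * a) ^ 3 = 1 ∧ y * y = 1 ∧
      (y * (a * a)) ^ 3 = 1 ∧ Subgroup.closure {x, a} = H ∧ Subgroup.closure {y, a * a} = H := by
  obtain ⟨φ, hφ, rfl⟩ := exists_hom_of_equiv e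
  obtain ⟨y, h1, h2⟩ := A5_second_pair
  have hcl : ∀ u v : A5, Subgroup.closure {u, v} = ⊤ → Subgroup.closure {φ u, φ v} = φ.range :=
    fun u v h => by rw [MonoidHom.range_eq_map, ← h, MonoidHom.map_closure, Set.image_pair]
  refine ⟨φ a5x, φ a5a, φ y, by rw [← map_mul, a5x_mul_self, map_one],
    by rw [← map_pow, a5a_pow, map_one], fun h => a5a_ne_one (hφ (by rw [h, map_one])),
    by rw [← map_mul, ← map_pow, a5xa_pow, map_one], by rw [← map_mul, h1, map_one],
    by rw [← map_mul, ← map_mul, ← map_pow, h2, map_one], hcl _ _ closure_a5, ?_⟩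
  rw [← map_mul]
  refine hcl _ _ ?_
  obtain ⟨e'⟩ := nonempty_closure_mulEquiv_A5 h1 (a := a5a * a5a) (by decide +kernel) h2
    (by decide +kernel)
  exact Subgroup.eq_top_of_card_eq _ (Nat.card_congr e'.toEquiv)

/-- Any two subgroups `A₅` of `PGL₂(F)` are conjugate. -/
theorem A5_conj {H H' : Subgroup PGL(2, F)} (e : H ≃* A5) (e' : H' ≃* A5) :
    ∃ c, H.map (MulAut.conj c).toMonoidHom = H' := by
  have key : ∀ x a x' a' : PGL(2, F), x * x = 1 → a ^ 5 = 1 → a ≠ 1 → (x * a) ^ 3 = 1 →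
      x' * x' = 1 → a' ^ 5 = 1 → a' ≠ 1 → (x' * a') ^ 3 = 1 → Subgroup.closure {x, a} = H →
      Subgroup.closure {x', a'} = H' → tri a = tri a' →
      ∃ c, H.map (MulAut.conj c).toMonoidHom = H' := by
    intro x a x' a' h1 h2 h3 h4 h1' h2' h3' h4' h5 h5' ht
    have aux : ∀ x a : PGL(2, F), x * x = 1 → a ^ 5 = 1 → a ≠ 1 → (x * a) ^ 3 = 1 →
        tri x = 0 ∧ tri (a * x) = 1 := fun x a h1 h2 h3 h4 => by
      have hx : x ≠ 1 := by
        rintro rfl
        rw [one_mul] at h4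
        exact h3 (by simpa using pow_gcd_eq_one.2 ⟨h2, h4⟩)
      have hxa : x * a ≠ 1 := fun h => by
        have : a = x := by rw [← one_mul a, ← h1, mul_assoc, h, mul_one]
        rw [← this, ← sq] at h1
        exact h3 (by simpa using pow_gcd_eq_one.2 ⟨h2, h1⟩)
      exact ⟨(mul_self_eq_one_iff_tri hx).1 h1, by
        rw [tri_mul_comm]; exact (cube_eq_one_iff_tri hxa).1 h4⟩
    have m1 : x ∈ H := h5 ▸ Subgroup.subset_closure (by simp)
    have m2 : a ∈ H := h5 ▸ Subgroup.subset_closure (by simp)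
    have m1' : x' ∈ H' := h5' ▸ Subgroup.subset_closure (by simp)
    have m2' : a' ∈ H' := h5' ▸ Subgroup.subset_closure (by simp)
    obtain ⟨t1, t2⟩ := aux x a h1 h2 h3 h4
    obtain ⟨t1', t2'⟩ := aux x' a' h1' h2' h3' h4'
    obtain ⟨c, c1, c2⟩ := exists_conj_pair_invol (le_L_of_A5 e m2) (le_L_of_A5 e m1)
      (le_L_of_A5 e' m2') (le_L_of_A5 e' m1') h3 h3' ht t1 t1' (t2.trans t2'.symm)
      (fun z b1 b2 => not_le_stabilizer_of_A5 e z (by
        rw [← h5, Subgroup.closure_le]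
        rintro _ (rfl | rfl)
        · exact b2
        · exact b1))
    refine ⟨c, ?_⟩
    rw [← h5, ← h5', MonoidHom.map_closure, Set.image_pair, ← c1, ← c2]
    rfl
  obtain ⟨x, a, -, h1, h2, h3, h4, -, -, h5, -⟩ := A5_gen_pairs e
  obtain ⟨x', a', y', h1', h2', h3', h4', h6', h7', h5', h8'⟩ := A5_gen_pairs e'
  have r1 := (pow_five_eq_one_iff_tri h3).1 h2
  have r2 := (pow_five_eq_one_iff_tri h3').1 h2'
  have : (tri a - tri a') * (tri a - (tri a' - 2) ^ 2) = 0 := by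
    linear_combination r1 + (tri a' - 1 - tri a) * r2
  rcases mul_eq_zero.1 this with h | h
  · exact key x a x' a' h1 h2 h3 h4 h1' h2' h3' h4' h5 h5' (sub_eq_zero.1 h)
  · refine key x a y' (a' * a') h1 h2 h3 h4 h6' (by rw [← sq, ← pow_mul, mul_comm, pow_mul, h2',
      one_pow]) (fun h' => ?_) h7' h5 h8' (by rw [tri_mul_self]; exact sub_eq_zero.1 h)
    rw [← sq] at h'
    exact h3' (by simpa using pow_gcd_eq_one.2 ⟨h2', h'⟩)

variable [Finite F]

lemma normalizer_A5_of_prime (hq : (Nat.card F).Prime) (h7 : 7 ≤ Nat.card F)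
    {H : Subgroup PGL(2, F)} (e : H ≃* A5) :
    Subgroup.normalizer (H : Set PGL(2, F)) = H := by
  have := finite_PGL2 (F := F)
  have hodd : Odd (Nat.card F) := hq.odd_of_ne_two (by omega)
  have cH : Nat.card H = 60 := (Nat.card_congr e.toEquiv).trans card_A5
  obtain ⟨H', hH', ⟨e'⟩⟩ := exists_A4_le_of_A5 e
  have hle : H ≤ Subgroup.normalizer (H : Set PGL(2, F)) := Subgroup.le_normalizer
  have hd := Subgroup.card_dvd_of_le hle
  rw [cH] at hd
  rcases over_A4_cases (odd_card_iff.1 hodd) e' (hH'.trans hle) with h | h | h | ⟨c, k, -, hk⟩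
  · obtain ⟨f⟩ := h; rw [Nat.card_congr f.toEquiv, card_A4] at hd; omega
  · obtain ⟨f⟩ := h; rw [Nat.card_congr f.toEquiv, card_S4] at hd; omega
  · obtain ⟨f⟩ := h
    exact (Subgroup.eq_of_le_of_card_ge hle (by rw [cH, Nat.card_congr f.toEquiv, card_A5])).symm
  · exfalso
    rw [subfield_eq_top_of_prime hq k] at hk
    have hL := L_le_of_conj_eq_top hk
    have := ProjectiveSpecialLinearGroup.rank_two_simple (F := F) (by omega)
    have hn : (H.comap pslp).Normal := ⟨fun x hx g => by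
      rw [Subgroup.mem_comap, map_mul, map_mul, map_inv]
      exact (Subgroup.mem_normalizer_iff.1 (hL (pslp_mem_L g)) _).1 hx⟩
    have hc := Nat.card_congr (comapPslpEquiv (le_L_of_A5 e)).toEquiv
    rcases hn.eq_bot_or_eq_top with h | h
    · rw [h, cH] at hc; simp at hc
    · rw [h, cH, Subgroup.card_top, card_PSL2_eq] at hc
      have := sixty_lt_card_L (F := F) (by omega)
      omega

end Cfsg.Agent.H29
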