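import Mathlib
import Cfsg.Agent.Lead.A9Defs

/-!
# A standard subgroup of type `A₉`: the action of a swap on the centralizer of `z`
-/

set_option autoImplicit false
set_option maxRecDepth 100000

namespace Cfsg.Agent.H29.A9C2a

open Cfsg Cfsg.Agent.H63 Cfsg.Agent.H63.SL Cfsg.Agent.Lead.A9 Subgroup
open Equiv (swap)
open scoped commutatorElement

universe u

/-- The map `xor 1` on the first eight points. -/
def x1 (i : Fin 9) : Fin 9 := if i.1 = 8 then i else i ^^^ 1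

/-- The table of a permutation commuting with `xor 1`. -/
def tb (a b c d i : Fin 9) : Fin 9 :=
  if i.1 = 8 then i else if i.1 % 2 = 0 then
    (if i.1 < 4 then (if i.1 < 2 then a else b) else (if i.1 < 6 then c else d))
  else x1 (if i.1 < 4 then (if i.1 < 2 then a else b) else (if i.1 < 6 then c else d))

/-- The four normal forms of an involution inverting `rho`. -/
def pp (j : Fin 4) : S8 := ![c.1, (c * z).1, c.1 * swap 0 1, c.1 * swap 0 1 * z.1] j

theorem tb_eq {p : S8} (h : Commute p z.1) : ∃ a b c d, ∀ i, p i = tb a b c d i := by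
  have e : ∀ i, p (z.1 i) = z.1 (p i) := fun i => Equiv.congr_fun h.eq i
  have z1 : ∀ i, z.1 i = x1 i := by decide
  have z8 : ∀ i, i = z.1 i → i = 8 := by decide
  refine ⟨p 0, p 2, p 4, p 6, fun i => ?_⟩
  fin_cases i
  exacts [rfl, (e 0).trans (z1 _), rfl, (e 2).trans (z1 _), rfl, (e 4).trans (z1 _), rfl,
    (e 6).trans (z1 _), z8 _ (e 8)]

theorem tA : ∀ a b c d : Fin 9, (∀ i, tb a b c d (tb a b c d (tb a b c d i)) = i) →
    (∀ i, tb a b c d i = i) ∨
      ∃ l m : Fin 8, ∀ i, (rr l * dd m).1 (tb a b c d i) = rho.1 ((rr l * dd m).1 i) := by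
  decide +kernel

theorem tP : ∀ a b c d : Fin 9, (∀ i, tb a b c d (tb a b c d i) = i) →
    (∀ i, rho.1 (tb a b c d (rho.1 i)) = tb a b c d i) →
      ∃ n : Fin 3, ∃ j, ∀ i, (rho ^ n.1).1 (tb a b c d i) = pp j ((rho ^ n.1).1 i) := by
  decide +kernel

theorem tB : ∀ a b c d : Fin 9, (∀ i, tb a b c d (tb a b c d i) = i) →
    (∀ i, tb a b c d (rho.1 (tb a b c d (rho.1 (tb a b c d (rho.1 i))))) = i) →
    ∀ j, (∀ i, tb a b c d (pp j i) = pp j (tb a b c d i)) → (∀ i, tb a b c d i = i) ∨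
      (∀ i, tb a b c d i = w2.1 i) ∨
        j < 2 ∧ ((∀ i, tb a b c d i = x2.1 i) ∨ ∀ i, tb a b c d i = x3.1 i) := by
  decide +kernel

theorem fA {p : S8} (h : Commute p z.1) (h3 : p * p * p = 1) (h1 : p ≠ 1) :
    ∃ m : Alt, Commute m z ∧ m.1 * p * m.1⁻¹ = rho.1 := by
  obtain ⟨a, b, c, d, e⟩ := tb_eq h
  have := tA a b c d
  simp only [← e] at this
  obtain ⟨l, m, h⟩ := (this fun i => Equiv.congr_fun h3 i).resolve_left fun h => h1 (Equiv.ext h)
  exact ⟨_, (by decide : ∀ l m, rr l * dd m * z = z * (rr l * dd m)) l m,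
    mul_inv_eq_iff_eq_mul.2 (Equiv.ext h)⟩

theorem fP {p : S8} (h : Commute p z.1) (h2 : p * p = 1) (h1 : rho.1 * p * rho.1 = p) :
    ∃ n : ℕ, ∃ j, (rho ^ n).1 * p * (rho ^ n).1⁻¹ = pp j := by
  obtain ⟨a, b, c, d, e⟩ := tb_eq h
  have := tP a b c d
  simp only [← e] at this
  obtain ⟨n, j, h⟩ := this (fun i => Equiv.congr_fun h2 i) fun i => Equiv.congr_fun h1 i
  exact ⟨n, j, mul_inv_eq_iff_eq_mul.2 (Equiv.ext h)⟩

theorem fB {p : Alt} (h : Commute p.1 z.1) (h2 : p.1 * p.1 = 1)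
    (h3 : p.1 * rho.1 * p.1 * rho.1 * p.1 * rho.1 = 1) {j : Fin 4} (h1 : p.1 * pp j = pp j * p.1) :
    p = 1 ∨ p = w2 ∨ j < 2 ∧ (p = x2 ∨ p = x3) := by
  obtain ⟨a, b, c, d, e⟩ := tb_eq h
  have := tB a b c d
  simp only [← e] at this
  exact (this (fun i => Equiv.congr_fun h2 i) (fun i => Equiv.congr_fun h3 i) j
    fun i => Equiv.congr_fun h1 i).imp (fun h => Subtype.ext (Equiv.ext h))
      (Or.imp (fun h => Subtype.ext (Equiv.ext h)) (And.imp_right
        (Or.imp (fun h => Subtype.ext (Equiv.ext h)) fun h => Subtype.ext (Equiv.ext h))))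

theorem fin {a b : Alt} {j : Fin 4} (ha : a = 1 ∨ a = w2 ∨ j < 2 ∧ (a = x2 ∨ a = x3))
    (hb : b = 1 ∨ b = w2 ∨ j < 2 ∧ (b = x2 ∨ b = x3))
    (h : a * (rho * b * rho⁻¹) = z * (rho * b * rho⁻¹) * a) :
    j < 2 ∧ a ≠ b ∧ (a = w2 ∨ a = x2 ∨ a = x3) ∧ (b = w2 ∨ b = x2 ∨ b = x3) := by
  rcases ha with rfl | rfl | ⟨h1, rfl | rfl⟩ <;> rcases hb with rfl | rfl | ⟨h2, rfl | rfl⟩ <;>
    first
    | exact absurd h (by decide)
    | exact ⟨‹_›, by decide, by simp, by simp⟩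

variable {G : Type u} [Group G] {ι : Alt →* G} {π : G → S8} {t : G}

variable (ι t) in
/-- A swap. -/
def G0 (g : G) : Prop := g * t * g⁻¹ = t * ι z ∧ Commute g (ι z)

/-- An element of the centralizer. -/
def el (a : Alt) (h : a * z = z * a := by decide) : C1[z] := ⟨a, mem_centralizer_singleton_iff.2 h⟩

variable (h : Hy ι π t)
include h

theorem G0.zz {g : G} (hg : G0 ι t g) {a : Alt} (ha : Commute a z) :
    Commute (g * ι a * g⁻¹) (ι z) :=
  (hg.2.mul_left (ha.map ι)).mul_left hg.2.inv_left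

theorem G0.ct {g : G} (hg : G0 ι t g) {a : Alt} (ha : Commute a z) :
    Commute (g * ι a * g⁻¹) t := by
  have h1 : Commute (g * ι a * g⁻¹) (t * ι z) := hg.1 ▸ (h.tc a).conj g
  simpa using h1.mul_right (hg.zz h ha).inv_right

theorem G0.cz {g : G} (hg : G0 ι t g) {a : Alt} (ha : Commute a z) :
    Commute (π (g * ι a * g⁻¹)) z.1 := by
  have := h.act _ (hg.ct h ha) z
  rw [(hg.zz h ha).eq, mul_inv_cancel_right] at this
  exact mul_inv_eq_iff_eq_mul.1 (congrArg Subtype.val (h.inj this)).symm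

/-- The induced homomorphism. -/
noncomputable def G0.σ {g : G} (hg : G0 ι t g) : C1[z] →* S8 :=
  MonoidHom.mk' (fun a => π (g * ι a * g⁻¹)) fun a b => by
    rw [← h.mul _ _ (hg.ct h (mem_centralizer_singleton_iff.1 a.2))
      (hg.ct h (mem_centralizer_singleton_iff.1 b.2)), conj_mul, coe_mul, map_mul]

theorem G0.mul (k : Kit ι π t) {g : G} (hg : G0 ι t g) {m : Alt} (hm : Commute m z) :
    G0 ι t (ι m * g) ∧ ∀ a, Commute a z →
      π (ι m * g * ι a * (ι m * g)⁻¹) = m.1 * π (g * ι a * g⁻¹) * m.1⁻¹ := by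
  refine ⟨⟨?_, (hm.map ι).mul_left hg.2⟩, fun a ha => ?_⟩
  · calc _ = ι m * (g * t * g⁻¹) * (ι m)⁻¹ := by group
      _ = _ := by rw [hg.1, ((h.tc m).mul_right (hm.map ι)).eq, mul_inv_cancel_right]
  · rw [show ι m * g * ι a * (ι m * g)⁻¹ = ι m * (g * ι a * g⁻¹) * (ι m)⁻¹ by group,
      h.mul _ _ ((h.tc m).mul_left (hg.ct h ha)) (h.tc m).inv_left, h.mul _ _ (h.tc m) (hg.ct h ha),
      k.inv _ (h.tc m), h.sec]

omit h in
theorem is2 (g : G) {a : Alt} {n : ℕ} (ha : a ^ 2 ^ n = 1) : Is2 (g * ι a * g⁻¹) :=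
  ⟨n, by rw [conj_pow, ← map_pow, ha, map_one]; group⟩

theorem G0.nt (k : Kit ι π t) {g : G} (hg : G0 ι t g) : π (g * ι rho * g⁻¹) ≠ 1 := fun e => by
  have e1 := map_commutatorElement (hg.σ h) (el rho) (el w2)
  rw [show hg.σ h (el rho) = 1 from e, commutatorElement_one_left] at e1
  rcases h.r2 _ (hg.ct h (mem_centralizer_singleton_iff.1 ⁅el rho, el w2⁆.2)) e1
    (is2 g (n := 1) (by decide)) with e | e
  · exact absurd (h.inj ((conj_eq_one_iff.1 e).trans ι.map_one.symm)) (by decide)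
  · exact k.nl _ (isConj_iff.2 ⟨g, e⟩).symm

theorem G0.der (k : Kit ι π t) {g : G} (hg : G0 ι t g) {a : Alt} (ha : Commute a z)
    (a2 : a ^ 2 ^ 1 = 1) (e : a = ⁅rho, rho * a * rho⁻¹⁆) : ∃ b, g * ι a * g⁻¹ = ι b := by
  have r : Commute rho z := (by decide : rho * z = z * rho)
  refine k.der _ ?_ (is2 g a2)
  rw [e, map_commutatorElement, conjugate_commutatorElement]
  exact commutator_mem_commutator (mem_centralizer_singleton_iff.2 (hg.ct h r))
    (mem_centralizer_singleton_iff.2 (hg.ct h ((r.mul_left ha).mul_left r.inv_left)))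

omit h in
/-- **C2A** -/
theorem c2a : C2aStmt.{u} := by
  intro _ G _ _ ι π t h k g g1 g2
  have r : Commute rho z := (by decide : rho * z = z * rho)
  have cc : Commute c z := (by decide : c * z = z * c)
  have hg : G0 ι t g := ⟨g1, g2⟩
  obtain ⟨m, hm, e⟩ := fA (hg.cz h r) (by
    have := congrArg (hg.σ h) (show el rho * el rho * el rho = 1 from Subtype.ext (by decide))
    rwa [map_mul, map_mul, map_one] at this) (hg.nt h k)
  obtain ⟨hg, e1⟩ := hg.mul h k hm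
  replace e := (e1 _ r).trans e
  clear e1 g1 g2
  generalize ι m * g = g at hg e
  obtain ⟨n, j, e2⟩ := fP (hg.cz h cc) (by
    have := congrArg (hg.σ h) (show el c * el c = 1 from Subtype.ext (by decide))
    rwa [map_mul, map_one] at this) (by
    have := congrArg (hg.σ h) (show el rho * el c * el rho = el c from Subtype.ext (by decide))
    rwa [map_mul, map_mul, show hg.σ h (el rho) = rho.1 from e] at this)
  obtain ⟨hg, e1⟩ := hg.mul h k (r.pow_left n)
  replace e2 := (e1 _ cc).trans e2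
  replace e := (e1 _ r).trans (by
    rw [e, ← coe_mul, ((Commute.refl rho).pow_left n).eq, coe_mul, mul_inv_cancel_right] :
      _ = rho.1)
  clear e1
  generalize ι (rho ^ n) * g = g at hg e e2
  obtain ⟨a, ha⟩ := hg.der h k (a := w2) (by decide : w2 * z = z * w2) (by decide) (by decide)
  obtain ⟨b, hb⟩ := hg.der h k (a := x2) (by decide : x2 * z = z * x2) (by decide) (by decide)
  have sr : hg.σ h (el rho) = rho.1 := e
  have sc : hg.σ h (el c) = pp j := e2
  have sa : hg.σ h (el w2) = a.1 := (congrArg π ha).trans (h.sec a)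
  have sb : hg.σ h (el x2) = b.1 := (congrArg π hb).trans (h.sec b)
  have sz : hg.σ h (el z) = z.1 :=
    (congrArg π (mul_inv_eq_iff_eq_mul.2 hg.2.eq)).trans (h.sec z)
  have key : ∀ (x : C1[z]) (y : Alt), hg.σ h x = y.1 → x * x = 1 →
      x * el rho * x * el rho * x * el rho = 1 → x * el c = el c * x →
      y = 1 ∨ y = w2 ∨ j < 2 ∧ (y = x2 ∨ y = x3) := fun x y s h1 h2 h3 =>
    fB (s ▸ hg.cz h (mem_centralizer_singleton_iff.1 x.2)) (by
      simpa only [map_mul, map_one, s] using congrArg (hg.σ h) h1) (by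
      simpa only [map_mul, map_one, s, sr] using congrArg (hg.σ h) h2) (by
      simpa only [map_mul, s, sc] using congrArg (hg.σ h) h3)
  obtain ⟨hj, ab, ha', hb'⟩ := fin
    (key _ _ sa (Subtype.ext (by decide)) (Subtype.ext (by decide)) (Subtype.ext (by decide)))
    (key _ _ sb (Subtype.ext (by decide)) (Subtype.ext (by decide)) (Subtype.ext (by decide)))
    (Subtype.ext (show a.1 * (rho.1 * b.1 * rho.1⁻¹) = z.1 * (rho.1 * b.1 * rho.1⁻¹) * a.1 by
      simpa only [map_mul, map_inv, sa, sb, sr, sz] using congrArg (hg.σ h)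
        (show el w2 * (el rho * el x2 * (el rho)⁻¹) = el z * (el rho * el x2 * (el rho)⁻¹) * el w2
          from Subtype.ext (by decide))))
  obtain ⟨p, hp, ep⟩ : ∃ p : Alt, (p = c ∨ p = c * z) ∧ pp j = p.1 := by
    fin_cases j
    exacts [⟨_, Or.inl rfl, rfl⟩, ⟨_, Or.inr rfl, rfl⟩, absurd hj (by decide), absurd hj (by decide)]
  have hc : g * ι c * g⁻¹ = ι p := by
    refine (k.ev _ (hg.ct h cc) (is2 g (n := 1) (by decide)) p (e2.trans ep)).resolve_right
      fun e3 => k.nl (z * p * z) ((isConj_iff.2 ⟨g, hg.1⟩).trans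
        ((isConj_iff.2 ⟨ι (ev 5 7 7 6), ?_⟩).trans (isConj_iff.2 ⟨g, ?_⟩ :
          IsConj (t * ι (c * z)) _)))
    · rw [← mul_assoc, (h.tc _).eq, mul_assoc, mul_assoc, ← map_inv, ← map_mul, ← map_mul,
        show ev 5 7 7 6 * (z * (ev 5 7 7 6)⁻¹) = c * z by decide]
    · rw [map_mul, ← conj_mul, ← conj_mul, hg.1, e3, hg.2.eq, mul_inv_cancel_right, map_mul,
        map_mul, ← (h.tc z).eq, mul_assoc, mul_assoc t, ← mul_assoc t t, h.t2, one_mul, mul_assoc]
  refine ⟨g, a, b, ⟨hg.1, hg.2, ?_, ha, hb, hp.imp (fun e : p = c => e ▸ hc) fun e : p = c * z => e ▸ hc⟩, ab, ha', hb'⟩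
  have k1 := (k.ker _ ((hg.ct h r).mul_left (h.tc rho).inv_left)).1 (by
    rw [h.mul _ _ (hg.ct h r) (h.tc rho).inv_left, e, k.inv _ (h.tc rho), h.sec, mul_inv_cancel])
  have k2 : ι p * (g * ι rho * g⁻¹) * (ι p)⁻¹ = (g * ι rho * g⁻¹)⁻¹ := by
    rw [← hc, conj_inv, conj_inv, conj_mul, conj_mul, ← map_inv, ← map_mul, ← map_mul,
      show c * rho * c⁻¹ = rho⁻¹ by decide, map_inv]
  have k3 : (g * ι rho * g⁻¹) ^ 3 = 1 := by
    rw [conj_pow, ← map_pow, show rho ^ 3 = 1 by decide, map_one]; group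
  have k4 : ι p * ι rho * (ι p)⁻¹ = (ι rho)⁻¹ := by
    rw [← map_inv, ← map_mul, ← map_mul, ← map_inv]
    exact congrArg ι (by rcases hp with rfl | rfl <;> decide)
  obtain ⟨κ, hκ⟩ : ∃ κ, g * ι rho * g⁻¹ = κ * ι rho := ⟨_, (inv_mul_cancel_right _ _).symm⟩
  rw [hκ, mul_inv_cancel_right] at k1
  rw [hκ, ← mul_assoc, ← (k1 p).eq, mul_assoc κ, mul_assoc κ, k4, mul_inv_rev,
    ← (k1 rho).inv_inv.eq, mul_left_inj] at k2
  rw [hκ, (k1 rho).mul_pow, ← map_pow, show rho ^ 3 = 1 by decide, map_one, mul_one, pow_three,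
    mul_eq_one_iff_eq_inv.2 k2, mul_one] at k3
  rw [k3, one_mul] at hκ
  exact mul_inv_eq_iff_eq_mul.1 hκ

end Cfsg.Agent.H29.A9C2a
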