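import Mathlib
import Cfsg.Agent.H29.AS2

/-! Fast certified checks on root systems, with residues as natural numbers. -/

set_option autoImplicit false

namespace Cfsg.Agent.H29

open Equiv Cfsg.Lie H37 H40 H34 Finset

section prim

variable {α β : Type}

/-- Dot product. -/
noncomputable def dotN (a : List ℕ) : List ℕ → ℕ :=
  List.rec (fun _ => 0) (fun x _ ih v =>
    List.rec 0 (fun y v' _ => Nat.add (Nat.mul x y) (ih v')) v) a

/-- `List.all`. -/
noncomputable def allL (p : α → Bool) (l : List α) : Bool :=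
  List.rec true (fun x _ ih => Bool.rec false ih (p x)) l

/-- All numbers below `n`. -/
noncomputable def allN (p : ℕ → Bool) (n : ℕ) : Bool :=
  Nat.rec true (fun x ih => Bool.rec false ih (p x)) n

/-- The sum of the values. -/
noncomputable def sumL (p : α → ℕ) (l : List α) : ℕ :=
  List.rec 0 (fun x _ ih => Nat.add (p x) ih) l

/-- Evaluation of a number before it is used. -/
noncomputable def fN (n : ℕ) (k : ℕ → β) : β := Nat.rec (k 0) (fun m _ => k (Nat.succ m)) n

/-- Evaluated `List.map`. -/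
noncomputable def mapF (f : α → ℕ) (l : List α) : (List ℕ → β) → β :=
  List.rec (fun k => k []) (fun x _ ih k => fN (f x) fun y => ih fun l => k (y :: l)) l

/-- Evaluated `List.zipWith`. -/
noncomputable def zipF (f : ℕ → α → ℕ) (l : List α) : List ℕ → (List ℕ → β) → β :=
  List.rec (fun _ k => k []) (fun x _ ih e k => List.rec (k []) (fun y e' _ =>
    fN (f y x) fun z => ih e' fun l => k (z :: l)) e) l

/-- Evaluated `List.filter`. -/
noncomputable def filF (p : α → Bool) (l : List α) : (List α → β) → β :=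
  List.rec (fun k => k []) (fun x _ ih k => Bool.rec (ih k) (ih fun l => k (x :: l)) (p x)) l

theorem dotN_ofFn (a : List ℕ) {n : ℕ} (g : Fin n → ℕ) :
    dotN a (List.ofFn g) = ∑ i : Fin n, a.getD i 0 * g i := by
  induction n generalizing a with
  | zero => cases a <;> rfl
  | succ n ih =>
    cases a with
    | nil => simp [dotN]
    | cons x a => rw [List.ofFn_succ, Fin.sum_univ_succ]; exact congrArg (x * g 0 + ·) (ih a _)

theorem allL_iff {p : α → Bool} {l : List α} : allL p l = true ↔ ∀ x ∈ l, p x = true := by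
  induction l with
  | nil => simp [allL]
  | cons x l ih =>
    rw [List.forall_mem_cons, ← ih]
    show Bool.rec false (allL p l) (p x) = true ↔ _
    cases p x <;> simp

theorem allN_iff {p : ℕ → Bool} {n : ℕ} : allN p n = true ↔ ∀ x < n, p x = true := by
  induction n with
  | zero => simp [allN]
  | succ n ih =>
    rw [Nat.forall_lt_succ_right, ← ih]
    show Bool.rec false (allN p n) (p n) = true ↔ _
    cases p n <;> simp

theorem sumL_eq (p : α → ℕ) (l : List α) : sumL p l = (l.map p).sum := by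
  induction l with
  | nil => rfl
  | cons x l ih => exact congrArg (p x + ·) ih

theorem fN_eq (n : ℕ) (k : ℕ → β) : fN n k = k n := by cases n <;> rfl

theorem mapF_eq (f : α → ℕ) (l : List α) (k : List ℕ → β) : mapF f l k = k (l.map f) := by
  induction l generalizing k with
  | nil => rfl
  | cons x l ih => exact (fN_eq (f x) fun y => mapF f l fun l => k (y :: l)).trans (ih _)

theorem zipF_eq (f : ℕ → α → ℕ) (l : List α) (e : List ℕ) (k : List ℕ → β) :
    zipF f l e k = k (List.zipWith f e l) := by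
  induction l generalizing e k with
  | nil => cases e <;> rfl
  | cons x l ih =>
    cases e with
    | nil => rfl
    | cons y e => exact (fN_eq (f y x) fun z => zipF f l e fun l => k (z :: l)).trans (ih _ _)

theorem filF_eq (p : α → Bool) (l : List α) (k : List α → β) : filF p l k = k (l.filter p) := by
  induction l generalizing k with
  | nil => rfl
  | cons x l ih =>
    show Bool.rec (motive := fun _ => β) (filF p l k) (filF p l fun l => k (x :: l)) (p x) = _
    rw [List.filter_cons]
    cases p x <;> simp [ih]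

end prim

/-- All vectors `a` with `a · ms ≤ s`. -/
noncomputable def allAlc (ms : List ℕ) : ℕ → (List ℕ → Bool) → Bool :=
  List.rec (fun _ k => k []) (fun m _ ih s k => allN (fun x =>
    ih (Nat.sub s (Nat.mul x m)) fun l => k (x :: l)) (Nat.succ (Nat.div s m))) ms

theorem allAlc_cons {m s : ℕ} {ms : List ℕ} {k : List ℕ → Bool} : allAlc (m :: ms) s k = true ↔
    ∀ x < s / m + 1, allAlc ms (s - x * m) (fun l => k (x :: l)) = true :=
  allN_iff (p := fun x => allAlc ms (s - x * m) fun l => k (x :: l)) (n := s / m + 1)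

theorem allAlc_spec {ms : List ℕ} {s : ℕ} {k : List ℕ → Bool} (h : allAlc ms s k = true)
    (hm : ∀ m ∈ ms, 0 < m) {a : List ℕ} (hl : a.length = ms.length) (hs : dotN a ms ≤ s) :
    k a = true := by
  induction ms generalizing s k a with
  | nil => rwa [List.length_eq_zero_iff.1 hl]
  | cons m ms ih =>
    obtain _ | ⟨x, a⟩ := a
    · simp at hl
    replace hs : x * m + dotN a ms ≤ s := hs
    exact ih (allAlc_cons.1 h x (Nat.lt_succ_of_le
      ((Nat.le_div_iff_mul_le (hm m (by simp))).2 (by omega)))) (fun y hy => hm y (by simp [hy]))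
      (by simpa using hl) (by omega)

/-- All vectors of length `n` with entries below `s`. -/
noncomputable def allCube (s n : ℕ) : (List ℕ → Bool) → Bool :=
  Nat.rec (fun k => k []) (fun _ ih k => allN (fun x => ih fun l => k (x :: l)) s) n

theorem allCube_succ {s n : ℕ} {k : List ℕ → Bool} : allCube s (n + 1) k = true ↔
    ∀ x < s, allCube s n (fun l => k (x :: l)) = true := allN_iff

theorem allCube_spec {s n : ℕ} {k : List ℕ → Bool} (h : allCube s n k = true) {a : List ℕ}
    (hl : a.length = n) (ha : ∀ x ∈ a, x < s) : k a = true := by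
  induction n generalizing k a with
  | zero => rwa [List.length_eq_zero_iff.1 hl]
  | succ n ih =>
    obtain _ | ⟨x, a⟩ := a
    · simp at hl
    exact ih (allCube_succ.1 h x (ha x (by simp))) (by simpa using hl) fun y hy => ha y (by simp [hy])

/-- Position, packed pairings and coordinates of a root. -/
abbrev RN := ℕ × ℕ × List ℕ

/-- `a · z = 0` modulo `s`. -/
noncomputable def kil (s : ℕ) (a z : List ℕ) : Bool := Nat.beq (Nat.mod (dotN a z) s) 0

/-- The pairs of values of `a`, `b` are permuted by the multiplications by `k`, `l`. -/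
noncomputable def jointB (N : List RN) (s k : ℕ) (a : List ℕ) (t l : ℕ) (b : List ℕ) : Bool :=
  mapF (fun x => Nat.add (Nat.mod (dotN a x.2.2) s) (Nat.mul s (Nat.mod (dotN b x.2.2) t))) N
    fun L => Nat.beq (sumL (fun y => Nat.shiftLeft 1 (Nat.mul 8 y)) L)
      (sumL (fun y => Nat.shiftLeft 1 (Nat.mul 8 (Nat.add (Nat.mod (Nat.mul k y) s)
        (Nat.mul s (Nat.mod (Nat.mul l (Nat.div y s)) t))))) L)

/-- If `a` is rational and non-zero, it lies in `L`. -/
noncomputable def ratL (N : List RN) (s k : ℕ) (L : List (List ℕ)) (a : List ℕ) : Bool :=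
  Bool.rec true (allL (fun x => Nat.beq (Nat.mod x s) 0) a || decide (a ∈ L))
    (jointB N s k a 1 0 [])

/-- The number of elements with a property. -/
noncomputable def cntL {α : Type} (p : α → Bool) (l : List α) : ℕ :=
  sumL (fun x => Bool.rec 0 1 (p x)) l

/-- The number of roots killed by `a`. -/
noncomputable def zN (s : ℕ) (N : List RN) (a : List ℕ) : ℕ := cntL (fun x => kil s a x.2.2) N

/-- The new root has the right pairings with the earlier ones. -/
noncomputable def okN (x : RN) (L : List RN) : List ℕ → Bool :=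
  List.rec (fun _ => true) (fun t _ ih row => List.rec true (fun c row' _ =>
    Bool.rec false (ih row') (Nat.beq (Nat.mod (Nat.shiftRight x.2.1 t.1) 8) c)) row) L

/-- Depth-first search for the images of the simple roots. -/
noncomputable def dfs (fin : List RN → Bool) (xs : List (List ℕ × List RN)) :
    List RN → Bool :=
  List.rec fin (fun x _ ih L =>
    allL (fun s => Bool.rec true (ih (s :: L)) (okN s L x.1)) x.2) xs

/-- The candidates at each level. -/
noncomputable def lv {β : Type} (s k : ℕ) (N : List RN) (a : List ℕ) (E : List (List ℕ)) :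
    List ℕ → (List (List ℕ × List RN) → β) → β :=
  List.rec (fun _ c => c []) (fun row _ ih b c => List.rec (c []) (fun y b' _ =>
    filF (fun x => Nat.beq (Nat.mod (dotN a x.2.2) s) (Nat.mod (Nat.mul k y) s)) N fun cs =>
      ih b' fun l => c ((row, cs) :: l)) b) E

/-- The matrix of a leaf. -/
noncomputable def leafN (L : List RN) : List (List ℕ) → List (List ℕ) :=
  List.rec (fun M => M) (fun x _ ih M => ih (x.2.2 :: M)) L

/-- All isometries `w` with `a ∘ w = k a` modulo `s` pass the test `fin`. -/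
noncomputable def srch (E : List (List ℕ)) (N : List RN) (s k : ℕ) (a : List ℕ)
    (fin : List (List ℕ) → Bool) : Bool :=
  lv s k N a E a fun xs => dfs (fun L => fin (leafN L [])) xs []

/-- One part of `srch`. -/
noncomputable def srchP (m i : ℕ) (E : List (List ℕ)) (N : List RN) (s k : ℕ) (a : List ℕ)
    (fin : List (List ℕ) → Bool) : Bool :=
  lv s k N a E a fun xs => dfs (fun L => fin (leafN L [])) (List.rec [] (fun x xs _ =>
    (x.1, x.2.filter fun y => Nat.beq (Nat.mod y.1 m) i) :: xs) xs) []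

/-- A polynomial in `M` applied to `e`. -/
noncomputable def horn {β : Type} (s : ℕ) (M : List (List ℕ)) (e cs : List ℕ) :
    (List ℕ → β) → β :=
  List.rec (fun k => k []) (fun c _ ih k => ih fun v =>
    zipF (fun y col => Nat.mod (Nat.add (Nat.mul c y) (dotN v col)) s) M e k) cs

/-- The polynomial `cs` in `M` kills all of `U`. -/
noncomputable def polyOK (s : ℕ) (U M : List (List ℕ)) (cs : List ℕ) : Bool :=
  allL (fun e => horn s M e cs (allL (Nat.beq · 0))) U

/-- The polynomial `cs` in `M` applied to all of `U`. -/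
noncomputable def hornA {β : Type} (s : ℕ) (U M : List (List ℕ)) (cs : List ℕ) :
    (List (List ℕ) → β) → β :=
  List.rec (fun k => k []) (fun e _ ih k => horn s M e cs fun v => ih fun G => k (v :: G)) U

/-- The non-evaluated form of `horn`. -/
noncomputable def hornV (s : ℕ) (M : List (List ℕ)) (e : List ℕ) : List ℕ → List ℕ
  | [] => []
  | c :: cs => List.zipWith (fun y col => (c * y + dotN (hornV s M e cs) col) % s) e M

theorem horn_eq {β : Type} (s : ℕ) (M : List (List ℕ)) (e cs : List ℕ) (k : List ℕ → β) :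
    horn s M e cs k = k (hornV s M e cs) := by
  induction cs generalizing k with
  | nil => rfl
  | cons c cs ih => exact (ih _).trans (zipF_eq _ _ _ _)

theorem hornA_eq {β : Type} (s : ℕ) (U M : List (List ℕ)) (cs : List ℕ) (k : List (List ℕ) → β) :
    hornA s U M cs k = k (U.map fun e => hornV s M e cs) := by
  induction U generalizing k with
  | nil => rfl
  | cons e U ih => exact (horn_eq _ _ _ _ _).trans (ih _)

theorem lv_eq {β : Type} (s k : ℕ) (N : List RN) (a : List ℕ) (E : List (List ℕ)) (b : List ℕ)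
    (c : List (List ℕ × List RN) → β) : lv s k N a E b c = c (List.zipWith (fun row y =>
      (row, N.filter fun x => Nat.beq (dotN a x.2.2 % s) (k * y % s))) E b) := by
  induction E generalizing b c with
  | nil => rfl
  | cons row E ih =>
    cases b with
    | nil => rfl
    | cons y b => exact (filF_eq _ _ _).trans (ih _ _)

theorem srch_of_split {m : ℕ} (hm : 0 < m) {E : List (List ℕ)} {N : List RN} {s k : ℕ} {a : List ℕ}
    {fin : List (List ℕ) → Bool} (h : ∀ i < m, srchP m i E N s k a fin = true) :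
    srch E N s k a fin = true := by
  simp only [srch, srchP, lv_eq] at h ⊢
  generalize List.zipWith _ E a = xs at h ⊢
  cases xs with
  | nil => exact h 0 hm
  | cons x xs =>
    exact allL_iff.2 fun y hy => allL_iff.1 (h _ (Nat.mod_lt y.1 hm)) y
      (List.mem_filter.2 ⟨hy, Nat.beq_refl _⟩)

theorem leafN_eq (L : List RN) (M : List (List ℕ)) :
    leafN L M = L.reverse.map (·.2.2) ++ M := by
  induction L generalizing M with
  | nil => rfl
  | cons x L ih => exact (ih _).trans (by simp)

theorem okN_pre {x : RN} (f : ℕ → RN) (g : ℕ → ℕ) (j : ℕ)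
    (h : ∀ i < j, x.2.1 >>> (f i).1 % 8 = g i) : okN x (pre f j) (pre g j) = true := by
  induction j with
  | zero => rfl
  | succ j ih =>
    show Bool.rec false (okN x (pre f j) (pre g j)) (Nat.beq (x.2.1 >>> (f j).1 % 8) (g j)) = true
    rw [h j (by omega), Nat.beq_refl]
    exact ih fun i hi => h i (by omega)

theorem dfs_spec {fin : List RN → Bool} (f : ℕ → RN) (xs : List (List ℕ × List RN)) (m : ℕ)
    (hf : ∀ i (h : i < xs.length), f (m + i) ∈ xs[i].2 ∧
      okN (f (m + i)) (pre f (m + i)) xs[i].1 = true)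
    (h : dfs fin xs (pre f m) = true) : fin (pre f (m + xs.length)) = true := by
  induction xs generalizing m with
  | nil => exact h
  | cons x xs ih =>
    have h1 := allL_iff.1 h _ (hf 0 (by simp)).1
    have h2 := (hf 0 (by simp)).2
    simp only [Nat.add_zero, List.getElem_cons_zero] at h1 h2
    rw [h2] at h1
    have := ih (m + 1) (fun i hi => by
      rw [Nat.add_right_comm m 1 i]
      exact hf (i + 1) (by simpa using hi)) h1
    rwa [Nat.add_right_comm] at this

theorem map_pre {α β : Type} (f : ℕ → α) (g : α → β) (j : ℕ) :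
    (pre f j).map g = pre (fun i => g (f i)) j := by
  induction j with
  | zero => rfl
  | succ j ih => simp [pre, ih]

/-- Residues modulo `q`. -/
def res (q : ℕ) (l : List ℤ) : List ℕ := l.map fun x : ℤ => (x % q).toNat

/-- Digits in base eight. -/
noncomputable def pack {α : Type} (d : α → ℕ) (l : List α) : ℕ :=
  List.rec 0 (fun t _ ih => Nat.add (Nat.mod (d t) 5) (Nat.mul 8 ih)) l

theorem pack_digit {α : Type} (d : α → ℕ) (l : List α) (i : ℕ) (h : i < l.length) :
    pack d l >>> (3 * i) % 8 = d l[i] % 5 := by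
  induction l generalizing i with
  | nil => simp at h
  | cons t l ih =>
    show (d t % 5 + 8 * pack d l) >>> (3 * i) % 8 = _
    cases i with
    | zero => simp; omega
    | succ i =>
      rw [List.getElem_cons_succ, ← ih i (by simpa using h), mul_add, add_comm (3 * i),
        Nat.shiftRight_add, Nat.shiftRight_eq_div_pow _ (3 * 1)]
      congr 2
      omega

/-- The residues of a root datum. -/
noncomputable def rn (q : ℕ) (T : List RD) (x : RD) : RN :=
  (3 * x.1, pack (dotN (res 5 x.2.2.1)) (T.map fun t => res 5 t.2.1), res q x.2.2.2)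

/-- The tables of residues are correct. -/
def TabN (n q : ℕ) (T : List RD) (E : List (List (ℤ × ℤ))) (N : List RN) (EN U : List (List ℕ)) :
    Prop :=
  0 < q ∧ N = T.map (rn q T) ∧ EN = (List.range n).map (fun j => res 5 ((E.getD j []).map (·.1))) ∧
    U = (List.range n).map fun i => (List.range n).map fun j => if j = i then 1 else 0

noncomputable instance (n q : ℕ) (T : List RD) (E : List (List (ℤ × ℤ))) (N : List RN) (EN U : List (List ℕ)) :
    Decidable (TabN n q T E N EN U) := by unfold TabN; infer_instance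

theorem cast_res {q s : ℕ} (h0 : 0 < q) (h : s ∣ q) (x : ℤ) :
    (((x % q).toNat : ℕ) : ZMod s) = x := by
  rw [← Int.cast_natCast, Int.toNat_of_nonneg (Int.emod_nonneg _ (by omega)),
    ZMod.intCast_eq_intCast_iff]
  exact (Int.mod_modEq x q).of_dvd (by exact_mod_cast h)

theorem res_range (q n : ℕ) (g : ℕ → ℤ) :
    res q ((List.range n).map g) = List.ofFn fun i : Fin n => (g i % q).toNat :=
  List.ext_getElem (by simp [res]) fun i h1 h2 => by simp [res]

theorem dotN_res {q s : ℕ} (h0 : 0 < q) (h : s ∣ q) (a : List ℕ) (n : ℕ) (g : ℕ → ℤ) :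
    (dotN a (res q ((List.range n).map g)) : ZMod s) = ∑ i : Fin n, (a.getD i 0 : ZMod s) * g i := by
  simp only [res_range, dotN_ofFn, Nat.cast_sum, Nat.cast_mul, cast_res h0 h]

theorem kil_iff {s : ℕ} {a z : List ℕ} : kil s a z = true ↔ (dotN a z : ZMod s) = 0 := by
  rw [kil, Nat.beq_eq, ZMod.natCast_eq_zero_iff, Nat.dvd_iff_mod_eq_zero]; rfl

section Cert

variable {D : ChevalleyDatum} (C : Cert D) {rc : List (List ℤ)} {T : List RD}
  {E : List (List (ℤ × ℤ))} {q : ℕ} {N : List RN} {EN U : List (List ℕ)}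
  {f g : Fin D.nroots → ℤ} {w : Perm (Fin D.nroots)} {s : ℕ} {a : List ℕ}

/-- The additive function with the values `a` on the simple roots. -/
def vN (a : List ℕ) (r : Fin D.nroots) : ℤ := ∑ j, C.R.rc r j * (a.getD j 0 : ℕ)

theorem isAdd_vN (a : List ℕ) : IsAdd C.R (vN C a) := isAdd_of _ fun _ => rfl

theorem vN_simple (a : List ℕ) (j : Fin D.rank) : vN C a (C.R.simple j) = (a.getD j 0 : ℕ) := by
  simp [vN, C.R.rc_simple, Pi.single_apply]

/-- The list `a` gives the values of `f` on the simple roots modulo `s`. -/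
def Rp (s : ℕ) (a : List ℕ) (f : Fin D.nroots → ℤ) : Prop :=
  ∀ j : Fin D.rank, (a.getD j 0 : ZMod s) = f (C.R.simple j)

theorem rp_vN (s : ℕ) (a : List ℕ) : Rp C s a (vN C a) := fun j => by simp [vN_simple]

/-- The matrix of a Weyl group element. -/
noncomputable def lfN (q : ℕ) (T : List RD) (rc : List (List ℤ)) (w : Perm (Fin D.nroots)) : List (List ℕ) :=
  List.ofFn fun j => (rn q T (rd D rc (w (C.R.simple j)))).2.2

/-- The value of `f` on a lattice vector. -/
def ev (f : Fin D.nroots → ℤ) (z : List ℕ) : ℤ := ∑ j : Fin D.rank, (z.getD j 0 : ℕ) * f (C.R.simple j)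

variable {C}

theorem Rp.vN_eq (h : Rp C s a f) (hf : IsAdd C.R f) (r : Fin D.nroots) :
    (vN C a r : ZMod s) = f r := by
  simp only [vN, hf r, Int.cast_sum, Int.cast_mul, Int.cast_natCast, h _]

theorem Rp.dotN_eq (h : Rp C s a f) {z : List ℕ} (hz : z.length = D.rank) :
    (dotN a z : ZMod s) = ev C f z := by
  have : z = List.ofFn fun i : Fin D.rank => z.getD i 0 :=
    List.ext_getElem (by simp [hz]) fun i h1 h2 => by simp [List.getElem?_eq_getElem h1]
  conv_lhs => rw [this, dotN_ofFn]
  simp [ev, ← h _, mul_comm]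

theorem exists_cube (f : Fin D.nroots → ℤ) (hs : 0 < s) {k : List ℕ → Bool}
    (h : allCube s D.rank k = true) : ∃ a, k a = true ∧ a.length = D.rank ∧ Rp C s a f := by
  refine ⟨List.ofFn fun j => (f (C.R.simple j) % s).toNat, allCube_spec h (by simp) fun x hx => ?_,
    by simp, fun j => ?_⟩
  · obtain ⟨j, rfl⟩ := List.mem_ofFn.1 hx
    have := Int.emod_lt_of_pos (f (C.R.simple j)) (show (0 : ℤ) < s by omega)
    omega
  · simp [cast_res hs dvd_rfl]

theorem ev_eig {k : ℕ} (h : ∀ r, (f (w r) : ZMod s) = k * f r) (cs z : List ℕ) :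
    (ev C (pev w f cs) z : ZMod s) = (Nat.ofDigits k cs : ℕ) * ev C f z := by
  simp only [ev, Int.cast_sum, Int.cast_mul, pev_eig h, mul_sum, mul_left_comm]

theorem eq_one_of_mod (h : ∀ j < D.rank, ∀ r < D.nroots, (D.cartan j r - 2) % s = 0 → r = D.simple j)
    (hw : w ∈ C.S.W) (h1 : ∀ f, IsAdd C.R f → ∀ r, (f (w r) : ZMod s) = f r) : w = 1 := by
  refine C.S.ext_α hw (one_mem _) fun j => Fin.ext ((h j j.2 _ (Fin.is_lt _) ?_).trans
    (C.simple_val j).symm)
  have := h1 _ (isAdd_pair (C.R.simple j)) (C.R.simple j)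
  rw [C.R.pair_self, RS.pair_simple_left, C.wt_eq, eq_comm, ZMod.intCast_eq_intCast_iff_dvd_sub] at this
  exact Int.emod_eq_zero_of_dvd this

/-- A simple reflection acting on residues. -/
def svN (s : ℕ) (A : List (List ℤ)) (a : List ℕ) (i : ℕ) : List ℕ :=
  (List.range A.length).map fun k => (((a.getD k 0 : ℕ) - gt A i k * (a.getD i 0 : ℕ)) % s).toNat

theorem Rp.word (hs : 0 < s) {A : List (List ℤ)} (hA : A.length = D.rank ∧ ∀ i < D.rank,
    ∀ j < D.rank, gt A i j = D.cartan i (D.simple j)) (l : List (Fin D.rank)) (h : Rp C s a f)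
    (hf : IsAdd C.R f) :
    ∃ w ∈ C.S.W, Rp C s ((l.map Fin.val).foldl (svN s A) a) fun r => f (w r) := by
  induction l generalizing a f with
  | nil => exact ⟨1, one_mem _, h⟩
  | cons i l ih =>
    obtain ⟨w, hw, h1⟩ := ih (a := svN s A a i) (fun j => by
      simp [svN, hA.1, cast_res hs dvd_rfl, hf.τ, ← h _, hA.2, RS.pair_simple_simple, C.A_eq])
      (hf.comp (C.R.τ_mem_W (C.R.simple i)))
    exact ⟨_, mul_mem (C.R.τ_mem_W (C.R.simple i)) hw, h1⟩

variable (hT : TabOK D rc T E)
include hT

theorem IsAdd.alc (hf : IsAdd C.R f) (hs : 0 < s) {ms : List ℕ} (hm : ∀ m ∈ ms, 0 < m)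
    (θ : Fin D.nroots) (hθ : (rd D rc θ).2.2.2 = ms.map (↑)) {k : List ℕ → Bool}
    (h : allAlc ms s k = true) :
    ∃ w ∈ C.S.W, ∃ a, k a = true ∧ a.length = D.rank ∧ Rp C s a fun r => f (w r) := by
  obtain ⟨w, hw, g, hg, h1, h2⟩ := hf.alcove (s := s) (by omega)
  have h3 := congrArg List.length hθ
  simp only [rd, List.length_map, List.length_range] at h3
  have h4 : ∀ j : Fin D.rank, C.R.rc θ j = (ms.getD j 0 : ℕ) := fun j => by
    have := congrArg (·.getD j 0) hθ
    simpa [rd, rc_eq C hT, show (j : ℕ) < ms.length from h3 ▸ j.2] using this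
  have h5 : ∀ j, ((g (C.R.simple j)).toNat : ℤ) = g (C.R.simple j) := fun j =>
    Int.toNat_of_nonneg (h2 _ (C.R.pos_simple j)).1
  refine ⟨w, hw, List.ofFn fun j => (g (C.R.simple j)).toNat,
    allAlc_spec h hm (by simp [h3]) ?_, by simp, fun j => ?_⟩
  · have h6 := (h2 θ fun j => by rw [h4]; exact Int.natCast_nonneg _).2
    have h7 : ms = List.ofFn fun i : Fin D.rank => ms.getD i 0 :=
      List.ext_getElem (by simp [h3]) fun i h1 h2 => by simp [List.getElem?_eq_getElem h1]
    rw [h7, dotN_ofFn, ← Int.ofNat_le]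
    simpa [hg θ, h4, h5, mul_comm] using h6
  · rw [(ZMod.intCast_eq_intCast_iff_dvd_sub _ _ _).2 (h1 (C.R.simple j)), ← h5,
      Int.cast_natCast]
    simp

variable (hN : TabN D.rank q T E N EN U)
include hN

omit C in
theorem tabN_map {α : Type*} (F : RN → α) :
    N.map F = List.ofFn fun r : Fin D.nroots => F (rn q T (rd D rc r)) := by
  rw [hN.2.1, hT.1, List.map_map, List.map_map]
  exact List.ext_getElem (by simp) fun i h1 h2 => by simp

omit C in
theorem mem_tabN (r : Fin D.nroots) : rn q T (rd D rc r) ∈ N :=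
  hN.2.1 ▸ List.mem_map_of_mem (hT.1 ▸ List.mem_map.2 ⟨r, List.mem_range.2 r.2, rfl⟩)

omit C in
theorem sumL_tabN (F : RN → ℕ) : sumL F N = ∑ r : Fin D.nroots, F (rn q T (rd D rc r)) := by
  rw [sumL_eq, tabN_map hT hN, List.sum_ofFn]

variable (hs : s ∣ q)
include hs

theorem Rp.dotN_rn (h : Rp C s a f) (hf : IsAdd C.R f) (r : Fin D.nroots) :
    (dotN a (rn q T (rd D rc r)).2.2 : ZMod s) = f r := by
  simp only [rn, rd, dotN_res hN.1 hs, hf r, h _, rc_eq C hT, Int.cast_sum, Int.cast_mul, mul_comm]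

theorem Rp.zN_eq (h : Rp C s a f) (hf : IsAdd C.R f) : zN s N a = z0 s f := by
  rw [zN, cntL, sumL_tabN hT hN]
  refine sum_congr rfl fun r _ => ?_
  simp only [← h.dotN_rn hT hN hs hf, ← kil_iff]
  cases kil s a _ <;> rfl

theorem jointB_of {k : ℕ} (h : Rp C s a f) (hf : IsAdd C.R f)
    (h1 : ∀ r, (f (w r) : ZMod s) = k * f r) {t l : ℕ} (ht : t ∣ q) {b : List ℕ} (h' : Rp C t b g)
    (hg : IsAdd C.R g) (h2 : ∀ r, (g (w r) : ZMod t) = l * g r) : jointB N s k a t l b = true := by
  have h0 := Nat.pos_of_dvd_of_pos hs hN.1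
  rw [jointB, mapF_eq, Nat.beq_eq, sumL_eq, sumL_eq, List.map_map, List.map_map, tabN_map hT hN,
    tabN_map hT hN, List.sum_ofFn, List.sum_ofFn, ← Equiv.sum_comp w]
  refine sum_congr rfl fun r _ => ?_
  have e1 : dotN a (rn q T (rd D rc (w r))).2.2 % s = k * dotN a (rn q T (rd D rc r)).2.2 % s := by
    rw [← ZMod.natCast_eq_natCast_iff', Nat.cast_mul, h.dotN_rn hT hN hs hf, h.dotN_rn hT hN hs hf, h1]
  have e2 : dotN b (rn q T (rd D rc (w r))).2.2 % t = l * dotN b (rn q T (rd D rc r)).2.2 % t := by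
    rw [← ZMod.natCast_eq_natCast_iff', Nat.cast_mul, h'.dotN_rn hT hN ht hg, h'.dotN_rn hT hN ht hg, h2]
  show Nat.shiftLeft 1 (8 * (_ % s + s * (_ % t))) =
    Nat.shiftLeft 1 (8 * (k * (_ % s + s * (_ % t)) % s + s * (l * ((_ % s + s * (_ % t)) / s) % t)))
  rw [e1, e2, Nat.add_mul_div_left _ _ h0, Nat.mod_div_self, zero_add, Nat.mul_mod_mod, mul_add k,
    mul_left_comm k s, Nat.add_mul_mod_self_left, Nat.mul_mod_mod]

theorem ratB_of {k : ℕ} (h : Rp C s a f) (hf : IsAdd C.R f)
    (h1 : ∀ r, (f (w r) : ZMod s) = k * f r) : jointB N s k a 1 0 [] = true :=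
  jointB_of hT hN hs h hf h1 (one_dvd _) (g := f) (fun _ => Subsingleton.elim _ _) hf
    fun _ => Subsingleton.elim _ _

theorem alc_rat (hf : IsAdd C.R f) {k : ℕ}
    (h1 : ∀ r, (f (w r) : ZMod s) = k * f r) (h0 : ¬ ∀ r, (f r : ZMod s) = 0) {ms : List ℕ}
    (hm : ∀ m ∈ ms, 0 < m) (θ : Fin D.nroots) (hθ : (rd D rc θ).2.2.2 = ms.map (↑))
    {L : List (List ℕ)} (h : allAlc ms s (ratL N s k L) = true) :
    ∃ v ∈ C.S.W, ∃ a ∈ L, a.length = D.rank ∧ Rp C s a fun r => f (v r) := by
  obtain ⟨v, hv, a, h2, h3, h4⟩ := hf.alc hT (Nat.pos_of_dvd_of_pos hs hN.1) hm θ hθ h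
  refine ⟨v, hv, a, ?_, h3, h4⟩
  rw [ratL, ratB_of hT hN hs h4 (hf.comp hv) (w := v⁻¹ * w * v) fun r => by simp [h1]] at h2
  refine of_decide_eq_true ((Bool.or_eq_true_iff.1 h2).resolve_left fun h5 => h0 fun r => ?_)
  have := (hf.comp hv).eq_zero (s := s) (fun j => ?_) (v⁻¹ r)
  · simpa using this
  rw [← h4 j, List.getD_eq_getElem _ _ (by simp [h3]), ZMod.natCast_eq_zero_iff,
    Nat.dvd_iff_mod_eq_zero]
  exact Nat.eq_of_beq_eq_true (allL_iff.1 h5 _ (List.getElem_mem _))

theorem srch_spec (hw : w ∈ C.S.W) {k : ℕ} (hl : a.length = D.rank) (h : Rp C s a f)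
    (hf : IsAdd C.R f) (h1 : ∀ r, (f (w r) : ZMod s) = k * f r) {fin : List (List ℕ) → Bool}
    (hS : srch EN N s k a fin = true) : fin (lfN C q T rc w) = true := by
  rw [srch, lv_eq] at hS
  have := dfs_spec (fun j => rn q T (rd D rc (C.img w j))) _ 0 (fun j hj => ?_) hS
  · rw [leafN_eq, reverse_pre] at this
    convert this
    exact List.ext_getElem (by simp [lfN, hN.2.2.1, hl]) fun i h1 h2 => by
      simp [lfN, Cert.img, show i < D.rank by simpa [lfN] using h1]
  replace hj : j < D.rank := by simpa [hN.2.2.1, hl] using hj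
  have e := C.img_val w ⟨j, hj⟩
  simp only at e
  simp only [zero_add, List.getElem_zipWith, hN.2.2.1, List.getElem_map, List.getElem_range]
  constructor
  · rw [List.mem_filter, e, Nat.beq_eq, ← ZMod.natCast_eq_natCast_iff', h.dotN_rn hT hN hs hf, h1,
      ← h ⟨j, hj⟩]
    exact ⟨mem_tabN hT hN _, by simp [hl, hj]⟩
  · rw [hT.2.2 j hj, res, map_pre, map_pre]
    refine okN_pre _ _ j fun i hi => ?_
    have e' := C.img_val w ⟨i, hi.trans hj⟩
    simp only at e'
    have h2 := Int.emod_lt_of_pos (D.cartan i (D.simple j)) (show (0 : ℤ) < (5 : ℕ) by omega)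
    have h3 : ∀ x : ℤ, (((x % 5).toNat : ℕ) : ZMod 5) = x := cast_res (q := 5) (by omega) dvd_rfl
    rw [e, e']
    refine (pack_digit _ _ _ (by simp [hT.1, rd])).trans ?_
    rw [← Nat.mod_eq_of_lt (show (D.cartan i (D.simple j) % (5 : ℕ)).toNat < 5 by omega),
      ← ZMod.natCast_eq_natCast_iff', cast_res (by omega) dvd_rfl,
      ← C.A_eq ⟨i, hi.trans hj⟩ ⟨j, hj⟩, ← RS.pair_simple_simple, ← C.R.pair_W hw]
    simp only [hT.1, List.getElem_map, List.getElem_range, rd]
    rw [dotN_res (by omega) dvd_rfl, res_range]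
    simp [RS.pair_def, C.co_eq, C.wt_eq, h3, mul_comm]

theorem Rp.hornV (hw : w ∈ C.S.W) (hl : a.length = D.rank) (h : Rp C s a f) (hf : IsAdd C.R f)
    (cs : List ℕ) : Rp C s (hornV s (lfN C q T rc w) a cs) (pev w f cs) := by
  induction cs with
  | nil => exact fun j => by simp [H29.hornV, pev]
  | cons c cs ih =>
    intro j
    rw [H29.hornV, pev, List.getD_eq_getElem _ _ (by simp [lfN, hl]), List.getElem_zipWith,
      ZMod.natCast_mod, Int.cast_add, Int.cast_mul, ← h j, ← ih.dotN_rn hT hN hs (hf.pev hw cs)]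
    simp [lfN, hl]

theorem polyOK_spec (hw : w ∈ C.S.W) {V : List (List ℕ)} {cs : List ℕ}
    (hp : polyOK s V (lfN C q T rc w) cs = true) (ha : a ∈ V) (hl : a.length = D.rank)
    (h : Rp C s a f) (hf : IsAdd C.R f) (r : Fin D.nroots) : (pev w f cs r : ZMod s) = 0 := by
  refine (hf.pev hw cs).eq_zero (fun j => ?_) r
  have h1 := allL_iff.1 hp a ha
  rw [horn_eq, allL_iff] at h1
  rw [← h.hornV hT hN hs hw hl hf cs j, List.getD_eq_getElem?_getD]
  rcases h2 : (hornV s (lfN C q T rc w) a cs)[(j : ℕ)]? with _ | x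
  · simp
  · simp [Nat.eq_of_beq_eq_true (h1 x (List.mem_of_getElem? h2))]

omit hT hs in
theorem forall_U {p : List ℕ → Prop} : (∀ e ∈ U, p e) ↔
    ∀ i : Fin D.rank, p ((List.range D.rank).map fun j : ℕ => if j = i then 1 else 0) := by
  simp only [hN.2.2.2, List.forall_mem_map, List.mem_range]
  exact ⟨fun h i => h i i.2, fun h i hi => h ⟨i, hi⟩⟩

omit hT hN hs in
theorem rp_unit (i : Fin D.rank) : Rp C s ((List.range D.rank).map fun j : ℕ => if j = i then 1 else 0)
    fun r => C.R.rc r i := fun j => by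
  simp [C.R.rc_simple, Pi.single_apply, Fin.ext_iff, eq_comm]

theorem polyOK_all (hw : w ∈ C.S.W) {cs : List ℕ} (hp : polyOK s U (lfN C q T rc w) cs = true)
    (hf : IsAdd C.R f) (r : Fin D.nroots) : (pev w f cs r : ZMod s) = 0 := by
  have := fun i => polyOK_spec hT hN hs hw hp ((forall_U hN (p := (· ∈ U))).1 (fun _ h => h) i)
    (by simp) (rp_unit i) (isAdd_rc i) r
  simp [hf.pev_eq, this]

theorem ord_spec (hw : w ∈ C.S.W) {m : ℕ} (hp : polyOK s U (lfN C q T rc w) (ordP s m) = true)
    (hf : IsAdd C.R f) (r : Fin D.nroots) : (f ((w ^ (m + 1)) r) : ZMod s) = f r := by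
  rw [← sub_eq_zero, ← pev_ordP (Nat.pos_of_dvd_of_pos hs hN.1), polyOK_all hT hN hs hw hp hf]

theorem polyOK_ord (hw : w ∈ C.S.W) {m : ℕ} (h : w ^ (m + 1) = 1) :
    polyOK s U (lfN C q T rc w) (ordP s m) = true := by
  have h0 := Nat.pos_of_dvd_of_pos hs hN.1
  rw [polyOK, allL_iff, forall_U hN]
  intro i
  rw [horn_eq, allL_iff]
  intro x hx
  obtain ⟨j, hj, rfl⟩ := List.getElem_of_mem hx
  have h1 := (rp_unit i).hornV hT hN hs hw (by simp) (isAdd_rc i) (ordP s m)
    ⟨j, by simpa [ordP, hornV, lfN] using hj⟩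
  rw [pev_ordP h0, h, List.getD_eq_getElem _ _ hj, Perm.one_apply, sub_self,
    ZMod.natCast_eq_zero_iff] at h1
  refine Nat.beq_eq.mpr (Nat.eq_zero_of_dvd_of_lt h1 ?_)
  simp only [ordP, hornV, List.getElem_zipWith]
  exact Nat.mod_lt _ h0

theorem kil_all_iff (hw : w ∈ C.S.W) (cs : List ℕ) {z : List ℕ} (hz : z.length = D.rank) :
    allL (kil s · z) (U.map fun e => hornV s (lfN C q T rc w) e cs) = true ↔
      ∀ f, IsAdd C.R f → (ev C (pev w f cs) z : ZMod s) = 0 := by
  rw [allL_iff, List.forall_mem_map, forall_U hN]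
  simp only [kil_iff, ((rp_unit _).hornV hT hN hs hw (by simp) (isAdd_rc _) cs).dotN_eq hz]
  refine ⟨fun h f hf => ?_, fun h i => h _ (isAdd_rc i)⟩
  have : ev C (pev w f cs) z = ∑ i, ev C (pev w (fun r => C.R.rc r i) cs) z * f (C.R.simple i) := by
    simp only [ev, hf.pev_eq, mul_sum, sum_mul, mul_assoc]
    exact sum_comm
  simp [this, h]

omit hs in
theorem length_rn (r : ℕ) : (rn q T (rd D rc r)).2.2.length = D.rank := by simp [rn, rd, res]

theorem ev_rn (hf : IsAdd C.R f) (r : Fin D.nroots) :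
    (ev C f (rn q T (rd D rc r)).2.2 : ZMod s) = f r := by
  simp only [ev, rn, rd, res_range, hf r, rc_eq C hT, Int.cast_sum, Int.cast_mul, Int.cast_natCast]
  simp [cast_res hN.1 hs]

end Cert

end Cfsg.Agent.H29
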