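import Cfsg.Agent.H29.CksHm3A

/-! Project CKS, piece HM3: flag-transitive subgroups of `GL₃(q)` of odd order, `q` even. -/

set_option autoImplicit false

namespace Cfsg.Agent.H29.CksHm

open Matrix Cfsg.Agent.H74.Cks MulAction
open scoped LinearAlgebra.Projectivization

variable {F : Type} [Field F]

/-- the coordinate points -/
def pt (F : Type) [Field F] (i : Fin 3) : ℙ F (Fin 3 → F) :=
  Projectivization.mk F (Pi.single i 1) (by simp)

theorem fix_pt {m : GL (Fin 3) F} {i : Fin 3} :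
    m • pt F i = pt F i ↔ ∀ j, j ≠ i → m.val j i = 0 := by
  rw [pt, Projectivization.smul_mk, Projectivization.mk_eq_mk_iff']
  constructor
  · rintro ⟨a, ha⟩ j hj
    simpa [hj, Units.smul_def] using (congrFun ha j).symm
  · refine fun h => ⟨m.val i i, funext fun j => ?_⟩
    by_cases hj : j = i
    · simp [hj, Units.smul_def]
    · simp [hj, Units.smul_def, h j hj]

theorem two_tr {x y : ℙ F (Fin 3 → F)} (h : x ≠ y) :
    ∃ A : GL (Fin 3) F, A • pt F 0 = x ∧ A • pt F 1 = y := by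
  have h0 : pt F 0 ≠ pt F 1 := fun e => by
    obtain ⟨a, ha⟩ := (Projectivization.mk_eq_mk_iff' _ _ _ _ _).1 e
    simpa using congrFun ha 0
  obtain ⟨g, h1, h2⟩ := is_two_pretransitive_iff.1
    (inferInstance : IsMultiplyPretransitive (SpecialLinearGroup (Fin 3) F) (ℙ F (Fin 3 → F)) 2)
    h0 h
  exact ⟨SpecialLinearGroup.toGL g, h1, h2⟩

theorem sc_smul (c : Fˣ) (x : ℙ F (Fin 3 → F)) : sc c • x = x := by
  induction x using Projectivization.ind with | _ v hv =>
  rw [Projectivization.smul_mk, Projectivization.mk_eq_mk_iff']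
  exact ⟨c, by simp [Units.smul_def, coe_sc, smul_mulVec]⟩

theorem noE_iff {k : GL (Fin 3) F} : NoE k.val ↔ ∀ x : ℙ F (Fin 3 → F), k • x ≠ x := by
  constructor
  · intro h x e
    induction x using Projectivization.ind with | _ v hv =>
    obtain ⟨a, ha⟩ := (Projectivization.mk_eq_mk_iff' _ _ _ _ _).1 e
    exact hv (h a v ha.symm)
  · intro h c v e
    by_contra hv
    exact h (Projectivization.mk F v hv) ((Projectivization.mk_eq_mk_iff' _ _ _ _ _).2 ⟨c, e.symm⟩)

theorem eq_sc {k : GL (Fin 3) F} {c : F} (h : k.val = c • 1) : ∃ c, k = sc c := by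
  have hc : c ≠ 0 := fun e => k.det_ne_zero (by rw [h, e]; simp)
  exact ⟨Units.mk0 c hc, Units.ext (h.trans (coe_sc (Units.mk0 c hc)).symm)⟩

variable [Fintype F] {K : Subgroup (GL (Fin 3) F)}

theorem fix2 (hP : PanStmt) (h2 : (2 : F) = 0) (hq : Fintype.card F ≠ 2) (hK : FlagT K)
    (ho : Odd (Nat.card K)) {k : GL (Fin 3) F} (hk : k ∈ K) {x y : ℙ F (Fin 3 → F)} (hxy : x ≠ y)
    (hx : k • x = x) (hy : k • y = y) : ∃ c, k = sc c := by
  have key : ∀ A : GL (Fin 3) F, ∀ i, k • A • pt F i = A • pt F i →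
      ∀ j, j ≠ i → (A⁻¹ * k * A).val j i = 0 := fun A i e =>
    fix_pt.1 (by rw [mul_smul, mul_smul, e, inv_smul_smul])
  obtain ⟨A, rfl, rfl⟩ := two_tr hxy
  let σ : GL (Fin 3) F := ⟨!![0, 1, 0; 1, 0, 0; 0, 0, 1], !![0, 1, 0; 1, 0, 0; 0, 0, 1],
    by simp [one_fin_three], by simp [one_fin_three]⟩
  have a0 := key A 0 hx
  have a1 := key A 1 hy
  obtain ⟨e1, e2⟩ := flag' hP h2 hq hK ho hk A
    (mem_bor.2 ⟨a0 1 (by decide), a0 2 (by decide), a1 2 (by decide)⟩)
  have e : (A * σ)⁻¹ * k * (A * σ) = σ⁻¹ * (A⁻¹ * k * A) * σ := by group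
  have hσ : ∀ i j, (σ⁻¹ * (A⁻¹ * k * A) * σ).val i j =
      (A⁻¹ * k * A).val (![1, 0, 2] i) (![1, 0, 2] j) := fun i j => by
    generalize A⁻¹ * k * A = m
    fin_cases i <;> fin_cases j <;> simp [σ, mul_apply, vecMul, dotProduct, Fin.sum_univ_three]
  obtain ⟨e3, e4⟩ := flag' hP h2 hq hK ho hk (A * σ) (by
    rw [e, mem_bor, hσ, hσ, hσ]
    exact ⟨a1 0 (by decide), a1 2 (by decide), a0 2 (by decide)⟩)
  rw [e, hσ] at e3 e4
  rw [hσ] at e3
  have e5 : (A⁻¹ * k * A).val = (A⁻¹ * k * A).val 2 2 • 1 := by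
    have b1 := a0 1 (by decide)
    have b2 := a0 2 (by decide)
    have b3 := a1 0 (by decide)
    have b4 := a1 2 (by decide)
    generalize A⁻¹ * k * A = m at *
    ext i j
    fin_cases i <;> fin_cases j <;> simp_all
  obtain ⟨c, hc⟩ := eq_sc e5
  refine ⟨c, ?_⟩
  have hc' : A * sc c = sc c * A := Units.ext (by simp [coe_sc])
  rw [show k = A * (A⁻¹ * k * A) * A⁻¹ by group, hc, hc', mul_inv_cancel_right]

omit [Fintype F] in
theorem trans (hK : FlagT K) (x : ℙ F (Fin 3 → F)) : ∃ k ∈ K, k • pt F 0 = x := by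
  obtain ⟨A, rfl⟩ : ∃ A : GL (Fin 3) F, A • pt F 0 = x := by
    obtain ⟨g, h⟩ := exists_smul_eq (SpecialLinearGroup (Fin 3) F) (pt F 0) x
    exact ⟨SpecialLinearGroup.toGL g, h⟩
  obtain ⟨k, hk, e⟩ := hK.2 A
  refine ⟨k, hk, ?_⟩
  have : (k⁻¹ * A) • pt F 0 = pt F 0 := fix_pt.2 fun j hj => e (Fin.pos_iff_ne_zero.2 hj)
  conv_lhs => rw [← this, ← mul_smul, mul_inv_cancel_left]

theorem card_ge (he : Even (Fintype.card F)) (hK : FlagT K) (ho : Odd (Nat.card K)) :
    (Fintype.card F ^ 3 - 1) * (Fintype.card F + 1) ≤ Nat.card K := by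
  classical
  let v : Fin 3 → F := Pi.single 0 1
  rw [← (stabilizer K v).index_mul_card]
  refine Nat.mul_le_mul ?_ ?_
  · rw [index_stabilizer]
    refine le_trans (le_of_eq ?_) (Set.ncard_le_ncard (s := {0}ᶜ) fun w hw => ?_)
    · rw [Set.ncard_compl, Set.ncard_singleton]; simp
    · obtain ⟨k, hk, e⟩ := trans hK (Projectivization.mk F w hw)
      obtain ⟨a, ha⟩ := (Projectivization.mk_eq_mk_iff _ _ _ _ _).1 e
      refine ⟨⟨sc a⁻¹ * k, mul_mem (hK.1 _ ⟨_, coe_sc _⟩) hk⟩, ?_⟩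
      change (sc a⁻¹ * k) • v = w
      have ha' : a • w = k • v := ha
      rw [mul_smul, ← ha']
      simp [Units.smul_def, coe_sc, smul_mulVec, mulVec_smul]
  · have h1 : Odd (Nat.card (stabilizer K v)) := ho.of_dvd_nat (Subgroup.card_subgroup_dvd_card _)
    have h2 : Nat.card F ≤ Nat.card (stabilizer K v) := Nat.card_le_card_of_surjective
      (fun k => k.1.1.val 2 1 / k.1.1.val 1 1) fun t => by
        let A : GL (Fin 3) F := GeneralLinearGroup.mkOfDetNeZero !![1, 0, 0; 0, 1, 0; 0, t, 1]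
          (by simp [det_fin_three])
        obtain ⟨k, hk, e⟩ := hK.2 A
        have e' : (k⁻¹ * A)⁻¹ ∈ BT F id := inv_mem (show k⁻¹ * A ∈ BT F id from e)
        have ek : k = A * (k⁻¹ * A)⁻¹ := by group
        generalize (k⁻¹ * A)⁻¹ = b at e' ek
        obtain ⟨b1, b2, b3⟩ := mem_bor.1 e'
        have n0 := bor_ne e' 0
        have n1 := bor_ne e' 1
        refine ⟨⟨⟨sc (Units.mk0 _ n0)⁻¹ * k, mul_mem (hK.1 _ ⟨_, coe_sc _⟩) hk⟩, ?_⟩, ?_⟩
        · change (sc (Units.mk0 _ n0)⁻¹ * k) • v = v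
          ext i
          fin_cases i <;>
            simp [ek, A, v, Units.smul_def, coe_sc, mul_apply, vecMul, dotProduct,
              Fin.sum_univ_three, b1, b2, n0]
        · simp [ek, A, coe_sc, mul_apply, vecMul, dotProduct, Fin.sum_univ_three, b3]
          field_simp
    rw [Nat.card_eq_fintype_card] at h2
    obtain ⟨a, ha⟩ := h1
    obtain ⟨b, hb⟩ := he
    omega

/-- the scalars in `K` -/
def ZK (K : Subgroup (GL (Fin 3) F)) : Subgroup K :=
  (Units.map (algebraMap F (Matrix (Fin 3) (Fin 3) F)).toMonoidHom).range.subgroupOf K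

omit [Fintype F] in
theorem mem_ZK {k : K} : k ∈ ZK K ↔ ∃ c, (k : GL (Fin 3) F) = sc c :=
  ⟨fun ⟨c, e⟩ => ⟨c, e.symm⟩, fun ⟨c, e⟩ => ⟨c, e.symm⟩⟩

theorem card_ZK (hK : FlagT K) : Nat.card (ZK K) = Fintype.card F - 1 := by
  classical
  rw [← Fintype.card_units, ← Nat.card_eq_fintype_card]
  refine (Nat.card_congr (Subgroup.subgroupOfEquivOfLe ?_).toEquiv).trans
    (Nat.card_congr (MonoidHom.ofInjective fun a b e => ?_).toEquiv).symm
  · rintro _ ⟨c, rfl⟩
    exact hK.1 _ ⟨_, coe_sc c⟩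
  · have : (sc a).val 0 0 = (sc b).val 0 0 := congrArg (fun k : GL (Fin 3) F => k.val 0 0) e
    exact Units.ext (by simpa [coe_sc] using this)

open Classical in
theorem card_D [Fintype K] (hP : PanStmt) (h2 : (2 : F) = 0) (hq : Fintype.card F ≠ 2)
    (hK : FlagT K) (ho : Odd (Nat.card K)) :
    (Finset.univ.filter fun k : K => NoE k.1.val).card + Nat.card (ZK K) =
      Fintype.card F ^ 3 - 1 := by
  have := Fintype.ofFinite (ℙ F (Fin 3 → F))
  have := Fintype.ofFinite (Quotient (orbitRel K (ℙ F (Fin 3 → F))))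
  have e1 := sum_card_fixedBy_eq_card_orbits_mul_card_group K (ℙ F (Fin 3 → F))
  have e0 : Fintype.card (Quotient (orbitRel K (ℙ F (Fin 3 → F)))) = 1 :=
    Fintype.card_eq_one_iff.2 ⟨Quotient.mk _ (pt F 0), fun x => Quotient.inductionOn x fun x =>
      Quotient.sound (by obtain ⟨k, hk, e⟩ := trans hK x; exact ⟨⟨k, hk⟩, e⟩)⟩
  rw [e0, one_mul] at e1
  have e2 : ∀ k : K, Fintype.card (fixedBy (ℙ F (Fin 3 → F)) k) +
      ((if NoE k.1.val then 1 else 0) + if k ∈ ZK K then 1 else 0) =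
      1 + Nat.card (ℙ F (Fin 3 → F)) * if k ∈ ZK K then 1 else 0 := fun k => by
    by_cases h : k ∈ ZK K
    · obtain ⟨c, e⟩ := mem_ZK.1 h
      have h1 : ∀ x : ℙ F (Fin 3 → F), k • x = x := fun x => by
        change k.1 • x = x
        rw [e, sc_smul]
      have h3 : Fintype.card (fixedBy (ℙ F (Fin 3 → F)) k) = Fintype.card (ℙ F (Fin 3 → F)) :=
        Fintype.card_congr (Equiv.subtypeUnivEquiv h1)
      rw [if_neg fun h' => noE_iff.1 h' (pt F 0) (h1 _), if_pos h, Nat.card_eq_fintype_card, h3]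
      omega
    · rw [if_neg h]
      by_cases h' : NoE k.1.val
      · have h3 : Fintype.card (fixedBy (ℙ F (Fin 3 → F)) k) = 0 :=
          Fintype.card_eq_zero_iff.2 ⟨fun x => noE_iff.1 h' x.1 x.2⟩
        rw [if_pos h', h3]
        omega
      · obtain ⟨x, hx⟩ : ∃ x : ℙ F (Fin 3 → F), k.1 • x = x := by simpa [noE_iff] using h'
        have h3 : Fintype.card (fixedBy (ℙ F (Fin 3 → F)) k) = 1 :=
          Fintype.card_eq_one_iff.2 ⟨⟨x, hx⟩, fun y => Subtype.ext (by_contra fun e =>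
            h (mem_ZK.2 (fix2 hP h2 hq hK ho k.2 e y.2 hx)))⟩
        rw [if_neg h', h3]
        omega
  have e3 := Finset.sum_congr rfl fun k (_ : k ∈ Finset.univ) => e2 k
  have e4 : ∑ k : K, (if k ∈ ZK K then 1 else 0) = Nat.card (ZK K) := by
    rw [← Finset.card_filter, Nat.card_eq_fintype_card, Fintype.card_subtype]
  rw [Finset.sum_add_distrib, Finset.sum_add_distrib, Finset.sum_add_distrib, e1,
    ← Finset.mul_sum, e4, ← Finset.card_filter, ← Finset.card_eq_sum_ones, Finset.card_univ,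
    add_right_inj] at e3
  have hn := Projectivization.card F (Fin 3 → F)
  rw [Nat.card_fun, Nat.card_eq_fintype_card (α := F), Nat.card_eq_fintype_card (α := Fin 3),
    Fintype.card_fin, ← card_ZK hK] at hn
  exact e3.trans hn.symm

theorem hm3 (hP : PanStmt) : Hm3Stmt := by
  intro F _ _ he K hK hN
  classical
  by_contra hq
  have h2 := two_eq he
  have ho := odd_card h2 hN
  have := Fintype.ofFinite K
  have hz := card_ZK hK
  obtain ⟨D, hD, hn⟩ : ∃ D : Finset K, (∀ k, k ∈ D ↔ NoE k.1.val) ∧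
      D.card + Nat.card (ZK K) = Fintype.card F ^ 3 - 1 :=
    ⟨_, fun k => by simp, card_D hP h2 hq hK ho⟩
  have hq4 : 4 ≤ Fintype.card F := by
    have := Fintype.one_lt_card (α := F)
    obtain ⟨b, hb⟩ := he
    omega
  have hq3 : Fintype.card F < Fintype.card F ^ 3 :=
    lt_self_pow₀ (by omega) (by norm_num)
  have hD0 : 0 < D.card := by omega
  obtain ⟨g, hg⟩ := Finset.card_pos.1 hD0
  rw [hD] at hg
  obtain ⟨A, hA⟩ : ∃ A : Subgroup K, ∀ y : K, y ∈ A ↔ y.1.val * g.1.val = g.1.val * y.1.val :=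
    ⟨Subgroup.centralizer {g}, fun y => Subgroup.mem_centralizer_singleton_iff.trans
      ⟨fun e => congrArg (fun k : K => k.1.val) e, fun e => Subtype.ext (Units.ext e)⟩⟩
  have hZA : ZK K ≤ A := fun y hy => by
    obtain ⟨c, e⟩ := mem_ZK.1 hy
    rw [hA, e, coe_sc]; simp
  obtain ⟨Y, hY'⟩ : ∃ Y : Finset K, ∀ y, y ∈ Y ↔ y ∈ A ∧ y ∉ ZK K :=
    ⟨Finset.univ.filter fun y => y ∈ A ∧ y ∉ ZK K, fun y => by simp⟩
  have hY : ∀ y ∈ Y, y ∈ A ∧ NoE y.1.val := fun y hy => by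
    obtain ⟨h3, h4⟩ := (hY' y).1 hy
    exact ⟨h3, hg.noE ((hA y).1 h3) fun c e => h4 (mem_ZK.2 (eq_sc e))⟩
  have c1 : ∀ y ∈ Y, ∀ k, k * y * k⁻¹ ∈ D := fun y hy k => by
    rw [hD, noE_iff]
    intro x e
    refine noE_iff.1 (hY y hy).2 (k.1⁻¹ • x) ?_
    rw [eq_inv_smul_iff, ← mul_smul, ← mul_smul]
    rwa [Subgroup.coe_mul, Subgroup.coe_mul, Subgroup.coe_inv] at e
  have c2 : ∀ y ∈ Y, ∀ k, k * y = y * k → k ∈ A := fun y hy k e => by
    have e' := congrArg (fun k : K => k.1.val) e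
    simp only [Subgroup.coe_mul, Units.val_mul] at e'
    exact (hA k).2 ((hY y hy).2.comm e' ((hA y).1 (hY y hy).1).symm)
  have c3 : ∀ d, ∃ s : Finset K, s.card ≤ 3 ∧ ∀ y ∈ Y, ∀ k, k * y * k⁻¹ = d → y ∈ s := fun d => by
    obtain ⟨s, hs, e⟩ := hg.three d.1.val
    refine ⟨s.preimage (fun k : K => k.1.val) fun a _ b _ e => Subtype.ext (Units.ext e),
      (Finset.card_preimage _ _ _).le.trans ((Finset.card_filter_le _ _).trans hs),
      fun y hy k e' => Finset.mem_preimage.2 (e _ ((hA y).1 (hY y hy).1) ?_)⟩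
    rw [← e', Subgroup.coe_mul, Subgroup.coe_mul, Subgroup.coe_inv, Units.val_mul, Units.val_mul,
      charpoly_mul_comm, ← mul_assoc, Units.inv_mul, one_mul]
  have hc := count A Y D c1 c2 c3
  have hYc : Y.card + Nat.card (ZK K) = Nat.card A := by
    rw [Nat.card_eq_fintype_card, Nat.card_eq_fintype_card, Fintype.card_subtype,
      Fintype.card_subtype, ← Finset.card_union_of_disjoint
        (Finset.disjoint_left.2 fun y hy hy' => ((hY' y).1 hy).2 (Finset.mem_filter.1 hy').2)]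
    congr 1
    ext y
    simp only [hY', Finset.mem_union, Finset.mem_filter, Finset.mem_univ, true_and]
    exact ⟨fun h => h.elim And.left fun h => hZA h, fun h => by tauto⟩
  have hY0 : 0 < Y.card := Finset.card_pos.2 ⟨g, (hY' g).2 ⟨(hA g).2 rfl, fun h => by
      obtain ⟨c, e⟩ := mem_ZK.1 h
      exact noE_iff.1 hg (pt F 0) (by rw [e, sc_smul])⟩⟩
  obtain ⟨a, ha⟩ := Subgroup.card_dvd_of_le hZA
  have hoa : Odd a := (ho.of_dvd_nat A.card_subgroup_dvd_card).of_dvd_nat (ha ▸ dvd_mul_left _ _)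
  have hge := card_ge he hK ho
  have h3 : Nat.card (ZK K) * 3 ≤ Nat.card A := by
    rw [ha]
    refine Nat.mul_le_mul_left _ ?_
    obtain ⟨m, rfl⟩ := hoa
    obtain rfl | hm := Nat.eq_zero_or_pos m
    · omega
    · omega
  have h5 : D.card * 5 ≤ Nat.card K := le_trans (Nat.mul_le_mul (by omega) (by omega)) hge
  have h6 : D.card * (5 * Y.card) ≤ D.card * (3 * Nat.card A) := by
    calc D.card * (5 * Y.card) = D.card * 5 * Y.card := by ring
      _ ≤ Nat.card K * Y.card := Nat.mul_le_mul_right _ h5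
      _ ≤ _ := hc
      _ = _ := by ring
  have := Nat.le_of_mul_le_mul_left h6 hD0
  omega

end Cfsg.Agent.H29.CksHm
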