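import Mathlib

/-! Project CKS, piece HM3: the centraliser of a `3 × 3` matrix without eigenvectors, and a
counting lemma. -/

set_option autoImplicit false

namespace Cfsg.Agent.H29.CksHm

open Matrix Polynomial

variable {F : Type} [Field F]

/-- no eigenvector -/
def NoE (g : Matrix (Fin 3) (Fin 3) F) : Prop := ∀ (c : F) (v : Fin 3 → F), g *ᵥ v = c • v → v = 0

theorem cent {g : Matrix (Fin 3) (Fin 3) F} (hg : NoE g) :
    ∃ (E : Type) (_ : Field E) (_ : Algebra F E) (φ : E →ₐ[F] Matrix (Fin 3) (Fin 3) F),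
      ∀ h, h * g = g * h → ∃ e, h = φ e := by
  have hd : g.charpoly.natDegree = 3 := by simp
  have hi : Irreducible g.charpoly := by
    rw [g.charpoly_monic.irreducible_iff_roots_eq_zero_of_degree_le_three (by omega) hd.le]
    refine Multiset.eq_zero_of_forall_notMem fun c hc => ?_
    have h1 := (mem_roots g.charpoly_monic.ne_zero).1 hc
    rw [IsRoot, eval_charpoly] at h1
    obtain ⟨v, hv, e⟩ := exists_mulVec_eq_zero_iff.2 h1
    refine hv (hg c v ?_)
    rw [sub_mulVec, sub_eq_zero] at e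
    rw [← e]; ext i; simp [mulVec_diagonal]
  have : Fact (Irreducible g.charpoly) := ⟨hi⟩
  let φ : AdjoinRoot g.charpoly →ₐ[F] Matrix (Fin 3) (Fin 3) F :=
    Ideal.Quotient.liftₐ _ (aeval g) fun a ha => by
      obtain ⟨b, rfl⟩ := Ideal.mem_span_singleton'.1 ha
      rw [map_mul, aeval_self_charpoly, mul_zero]
  refine ⟨AdjoinRoot g.charpoly, inferInstance, inferInstance, φ, fun h hc => ?_⟩
  have hφ : ∀ e, h * φ e = φ e * h := fun e => by
    obtain ⟨f, rfl⟩ := AdjoinRoot.mk_surjective e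
    exact Algebra.commute_of_mem_adjoin_singleton_of_commute (aeval_mem_adjoin_singleton F g) hc
  let v : Fin 3 → F := Pi.single 0 1
  let ψ : AdjoinRoot g.charpoly →ₗ[F] (Fin 3 → F) :=
    { toFun := fun e => φ e *ᵥ v
      map_add' := fun a b => by rw [map_add, add_mulVec]
      map_smul' := fun c a => by rw [map_smul, smul_mulVec]; rfl }
  have hinj : Function.Injective ψ := (injective_iff_map_eq_zero ψ).2 fun e he => by
    by_contra h0
    have h1 : φ e⁻¹ *ᵥ (φ e *ᵥ v) = v := by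
      rw [mulVec_mulVec, ← map_mul, inv_mul_cancel₀ h0, map_one, one_mulVec]
    rw [show φ e *ᵥ v = 0 from he, mulVec_zero] at h1
    simpa [v] using congrFun h1 0
  have := (AdjoinRoot.powerBasis g.charpoly_monic.ne_zero).finite
  have hs : Function.Surjective ψ :=
    (LinearMap.injective_iff_surjective_of_finrank_eq_finrank (by
      rw [(AdjoinRoot.powerBasis g.charpoly_monic.ne_zero).finrank, AdjoinRoot.powerBasis_dim, hd]
      simp)).1 hinj
  obtain ⟨e, he⟩ := hs (h *ᵥ v)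
  refine ⟨e, ext_iff_mulVec.2 fun w => ?_⟩
  obtain ⟨e', rfl⟩ := hs w
  change h *ᵥ (φ e' *ᵥ v) = φ e *ᵥ (φ e' *ᵥ v)
  have he' : φ e *ᵥ v = h *ᵥ v := he
  rw [mulVec_mulVec, hφ, ← mulVec_mulVec, ← he', mulVec_mulVec, mulVec_mulVec, ← map_mul,
    ← map_mul, mul_comm]

theorem NoE.comm {g h h' : Matrix (Fin 3) (Fin 3) F} (hg : NoE g) (e : h * g = g * h)
    (e' : h' * g = g * h') : h * h' = h' * h := by
  obtain ⟨E, _, _, φ, k⟩ := cent hg
  obtain ⟨a, rfl⟩ := k h e
  obtain ⟨b, rfl⟩ := k h' e'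
  rw [← map_mul, ← map_mul, mul_comm]

theorem NoE.noE {g h : Matrix (Fin 3) (Fin 3) F} (hg : NoE g) (e : h * g = g * h)
    (hs : ∀ c : F, h ≠ c • 1) : NoE h := fun c v hv => by
  obtain ⟨E, _, _, φ, k⟩ := cent hg
  obtain ⟨a, rfl⟩ := k h e
  have h0 : a - algebraMap F E c ≠ 0 := fun h0 => hs c (by
    rw [sub_eq_zero.1 h0, AlgHom.commutes, Algebra.algebraMap_eq_smul_one])
  have h1 : φ (a - algebraMap F E c) *ᵥ v = 0 := by
    rw [map_sub, sub_mulVec, hv, AlgHom.commutes, Algebra.algebraMap_eq_smul_one, smul_mulVec,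
      one_mulVec, sub_self]
  rw [← one_mulVec v, ← map_one φ, ← inv_mul_cancel₀ h0, map_mul, ← mulVec_mulVec, h1, mulVec_zero]

theorem NoE.three {g : Matrix (Fin 3) (Fin 3) F} (hg : NoE g) (d : Matrix (Fin 3) (Fin 3) F) :
    ∃ s : Finset (Matrix (Fin 3) (Fin 3) F), s.card ≤ 3 ∧
      ∀ h, h * g = g * h → h.charpoly = d.charpoly → h ∈ s := by
  classical
  obtain ⟨E, _, _, φ, k⟩ := cent hg
  refine ⟨(d.charpoly.aroots E).toFinset.image φ, Finset.card_image_le.trans
    ((Multiset.toFinset_card_le _).trans (d.charpoly.card_roots_map_le_natDegree.trans (by simp))),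
    fun h e e' => ?_⟩
  obtain ⟨a, rfl⟩ := k h e
  refine Finset.mem_image_of_mem _ (Multiset.mem_toFinset.2 (mem_aroots.2
    ⟨d.charpoly_monic.ne_zero, φ.injective ?_⟩))
  rw [← e', map_zero]
  exact (aeval_algHom_apply φ a _).symm.trans (aeval_self_charpoly _)

/-- double counting of the conjugates of `Y` -/
theorem count {H : Type*} [Group H] [Fintype H] [DecidableEq H] (A : Subgroup H) (Y D : Finset H)
    (h1 : ∀ y ∈ Y, ∀ k, k * y * k⁻¹ ∈ D) (h2 : ∀ y ∈ Y, ∀ k, k * y = y * k → k ∈ A)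
    (h3 : ∀ d, ∃ s : Finset H, s.card ≤ 3 ∧ ∀ y ∈ Y, ∀ k, k * y * k⁻¹ = d → y ∈ s) :
    Nat.card H * Y.card ≤ 3 * Nat.card A * D.card := by
  classical
  have := Finset.card_le_mul_card_image_of_maps_to (s := Finset.univ ×ˢ Y) (t := D)
    (f := fun x : H × H => x.1 * x.2 * x.1⁻¹) (fun x hx => h1 _ (Finset.mem_product.1 hx).2 _)
    (Nat.card A * 3) fun d _ => ?_
  · rwa [Finset.card_product, Finset.card_univ, ← Nat.card_eq_fintype_card,
      mul_comm (Nat.card A)] at this
  obtain ⟨s, hs, e⟩ := h3 d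
  refine (Finset.card_le_mul_card_image_of_maps_to (t := s) (f := Prod.snd) (fun x hx => ?_)
    (Nat.card A) fun y _ => ?_).trans (Nat.mul_le_mul_left _ hs)
  · obtain ⟨h4, h5⟩ := Finset.mem_filter.1 hx
    exact e _ (Finset.mem_product.1 h4).2 _ h5
  · by_contra hc
    obtain ⟨x0, h0⟩ := Finset.card_pos.1 ((Nat.zero_le _).trans_lt (not_le.1 hc))
    apply hc
    rw [Nat.card_eq_fintype_card, Fintype.card_subtype]
    simp only [Finset.mem_filter, Finset.mem_product] at h0
    refine Finset.card_le_card_of_injOn (fun x => x0.1⁻¹ * x.1) (fun x hx => ?_) fun x hx x' hx' e => ?_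
    · simp only [Finset.coe_filter, Finset.mem_filter, Finset.mem_product, Set.mem_ofPred_eq] at hx ⊢
      refine ⟨Finset.mem_univ _, h2 y (hx.2 ▸ hx.1.1.2) _ ?_⟩
      have e1 := hx.1.2.trans h0.1.2.symm
      rw [hx.2, h0.2] at e1
      calc _ = x0.1⁻¹ * (x.1 * y * x.1⁻¹) * x.1 := by group
        _ = _ := by rw [e1]; group
    · simp only [Finset.coe_filter, Set.mem_ofPred_eq] at hx hx'
      exact Prod.ext (mul_left_cancel e) (hx.2.trans hx'.2.symm)

end Cfsg.Agent.H29.CksHm
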