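import Cfsg.Agent.H74.CksDefs
import Cfsg.Agent.H29.CksSing

/-! Project CKS, piece HM3: an element fixing two points is a scalar. -/

set_option autoImplicit false

namespace Cfsg.Agent.H29.CksHm

open Matrix Cfsg.Agent.H74.Cks

variable {F : Type} [Field F]

/-- block triangular invertible matrices -/
def BT (F : Type) [Field F] {α : Type} [LinearOrder α] (b : Fin 3 → α) :
    Subgroup (GL (Fin 3) F) where
  carrier := {k | (k : Matrix (Fin 3) (Fin 3) F).BlockTriangular b}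
  one_mem' := blockTriangular_one
  mul_mem' := fun h h' => BlockTriangular.mul h h'
  inv_mem' := fun {k} h => by
    have := k.invertible
    have h' := blockTriangular_inv_of_blockTriangular h
    rwa [← Matrix.coe_units_inv] at h'

theorem mem_bor {k : GL (Fin 3) F} : k ∈ BT F id ↔ (k : Matrix (Fin 3) (Fin 3) F) 1 0 = 0 ∧
    (k : Matrix (Fin 3) (Fin 3) F) 2 0 = 0 ∧ (k : Matrix (Fin 3) (Fin 3) F) 2 1 = 0 :=
  ⟨fun h => ⟨h (by decide), h (by decide), h (by decide)⟩, fun h i j hij => by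
    fin_cases i <;> fin_cases j <;> simp_all⟩

theorem mem_par {k : GL (Fin 3) F} : k ∈ BT F ![0, 1, 1] ↔
    (k : Matrix (Fin 3) (Fin 3) F) 1 0 = 0 ∧ (k : Matrix (Fin 3) (Fin 3) F) 2 0 = 0 :=
  ⟨fun h => ⟨h (by decide), h (by decide)⟩, fun h i j hij => by
    fin_cases i <;> fin_cases j <;> simp_all⟩

theorem bor_ne {k : GL (Fin 3) F} (h : k ∈ BT F id) (i : Fin 3) :
    (k : Matrix (Fin 3) (Fin 3) F) i i ≠ 0 := by
  have := k.det_ne_zero
  rw [det_of_isUpperTriangular h] at this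
  exact Finset.prod_ne_zero_iff.1 this i (Finset.mem_univ i)

/-- the action on `V / e₀` -/
def rho : BT F ![0, 1, 1] →* Matrix (Fin 2) (Fin 2) F where
  toFun k := ((k : GL (Fin 3) F) : Matrix (Fin 3) (Fin 3) F).submatrix Fin.succ Fin.succ
  map_one' := by ext i j; fin_cases i <;> fin_cases j <;> simp
  map_mul' k l := by
    obtain ⟨h1, h2⟩ := mem_par.1 k.2
    ext i j
    fin_cases i <;> fin_cases j <;> simp [mul_apply, Fin.sum_univ_three, h1, h2]

/-- scalars -/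
def sc (c : Fˣ) : GL (Fin 3) F :=
  Units.map (algebraMap F (Matrix (Fin 3) (Fin 3) F)).toMonoidHom c

theorem coe_sc (c : Fˣ) : (sc c : Matrix (Fin 3) (Fin 3) F) = (c : F) • 1 :=
  Algebra.algebraMap_eq_smul_one (c : F)

theorem sc_bor (c : Fˣ) : sc c ∈ BT F id := by simp [mem_bor, coe_sc]

theorem bor_le : BT F id ≤ BT F ![0, 1, 1] := fun _ h =>
  mem_par.2 ⟨(mem_bor.1 h).1, (mem_bor.1 h).2.1⟩

variable [Fintype F] {K : Subgroup (GL (Fin 3) F)}

theorem two_eq (he : Even (Fintype.card F)) : (2 : F) = 0 := by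
  have : CharP F 2 := ringChar.of_eq (FiniteField.even_card_iff_char_two.2 (Nat.even_iff.1 he))
  exact CharTwo.two_eq_zero

theorem odd_card (h2 : (2 : F) = 0) (hN : NoTv K) : Odd (Nat.card K) := by
  have : Fact (Nat.Prime 2) := ⟨Nat.prime_two⟩
  by_contra h
  obtain ⟨k, hk⟩ := exists_prime_orderOf_dvd_card' (G := K) 2
    (even_iff_two_dvd.1 (Nat.not_odd_iff_even.1 h))
  have h1 : ((k : GL (Fin 3) F) : Matrix (Fin 3) (Fin 3) F) * (k : GL (Fin 3) F) = 1 := by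
    have := pow_orderOf_eq_one k
    rw [hk, pow_two] at this
    exact congrArg (fun x : K => ((x : GL (Fin 3) F) : Matrix (Fin 3) (Fin 3) F)) this
  have h3 : k = 1 := Subtype.ext (hN k k.2 (by
    rw [sub_mul, mul_sub, h1, mul_one, one_mul, sub_sub_sub_eq, ← two_smul F, ← two_smul F, h2]
    simp))
  rw [h3, orderOf_one] at hk
  omega

theorem flag (hP : PanStmt) (h2 : (2 : F) = 0) (hq : Fintype.card F ≠ 2) (hK : FlagT K)
    (ho : Odd (Nat.card K)) {k : GL (Fin 3) F} (hk : k ∈ K) (hb : k ∈ BT F id) :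
    (k : Matrix (Fin 3) (Fin 3) F) 1 1 = (k : Matrix (Fin 3) (Fin 3) F) 2 2 ∧
      (k : Matrix (Fin 3) (Fin 3) F) 1 2 = 0 := by
  let K' := (K.subgroupOf (BT F ![0, 1, 1])).map rho.toHomUnits
  have hsq : ∀ t : F, ∀ k ∈ K', (k : Matrix (Fin 2) (Fin 2) F) = !![1, t; 0, 1] → t = 0 := by
    rintro t _ ⟨l, hl, rfl⟩ e
    have h1 : rho.toHomUnits l ^ 2 = 1 := Units.ext (by
      rw [pow_two, Units.val_mul, e]
      ext i j
      fin_cases i <;> fin_cases j <;> simp [← two_mul, h2])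
    have h3 : rho.toHomUnits l ^ Nat.card K = 1 := by
      have h4 := congrArg Subtype.val (pow_card_eq_one' (G := K) (x := ⟨l, hl⟩))
      rw [← map_pow, show l ^ Nat.card K = 1 from Subtype.ext h4, map_one]
    obtain ⟨m, hm⟩ := ho
    rw [hm, pow_succ, pow_mul, h1, one_pow, one_mul] at h3
    rw [h3] at e
    simpa using (congrFun (congrFun e 0) 1).symm
  have hin : ∀ l ∈ K, ∀ hl : l ∈ BT F id, rho.toHomUnits ⟨l, bor_le hl⟩ ∈ K' :=
    fun l hl hl' => ⟨_, hl, rfl⟩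
  refine (hP F K' (fun A ⟨c, hc⟩ => ?_) (fun A => ?_)).elim (fun h => ?_)
    fun h => h.2.elim (fun h => ?_) fun h => ?_
  rotate_left 2
  · obtain ⟨l, hl, e⟩ := h 1
    exact absurd (hsq 1 l hl e) one_ne_zero
  · obtain ⟨b1, b2, b3⟩ := mem_bor.1 hb
    have n1 := bor_ne hb 1
    have n2 := bor_ne hb 2
    have e1 : (k : Matrix (Fin 3) (Fin 3) F) 1 1 = (k : Matrix (Fin 3) (Fin 3) F) 2 2 := by
      by_contra hc
      set c := (k : Matrix (Fin 3) (Fin 3) F) 1 1 / (k : Matrix (Fin 3) (Fin 3) F) 2 2 with hcd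
      have c1 : c ≠ 1 := fun e => hc ((div_eq_one_iff_eq n2).1 e)
      have c0 : c ≠ 0 := div_ne_zero n1 n2
      have c2 : c * c ≠ 1 := fun e => c1 (sub_eq_zero.1 (pow_eq_zero_iff two_ne_zero |>.1
        (show (c - 1) ^ 2 = 0 by linear_combination e + (1 - c) * h2)))
      refine absurd (((Set.ncard_eq_three.2 ⟨1, c, c * c, c1.symm, c2.symm,
        fun e => c1 (by simpa [c0] using e), rfl⟩).ge.trans
        (Set.ncard_le_ncard ?_)).trans h) (by norm_num)
      rintro x (rfl | rfl | rfl)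
      · exact ⟨1, one_mem _, by simp⟩
      · exact ⟨_, hin k hk hb, by simp [rho, b3, hcd, n2]⟩
      · refine ⟨_, hin _ (mul_mem hk hk) (mul_mem hb hb), ?_⟩
        simp [rho, mul_apply, Fin.sum_univ_three, b1, b2, b3, hcd]
        field_simp
    refine ⟨e1, ?_⟩
    have := hsq ((k : Matrix (Fin 3) (Fin 3) F) 1 2 / (k : Matrix (Fin 3) (Fin 3) F) 2 2) _
      (hin _ (mul_mem (hK.1 _ ⟨_, coe_sc (Units.mk0 _ n2)⁻¹⟩) hk) (mul_mem (sc_bor _) hb)) (by
        ext i j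
        fin_cases i <;> fin_cases j <;> simp [rho, coe_sc, b3, e1, n2, div_eq_inv_mul])
    exact (div_eq_zero_iff.1 this).resolve_right n2
  · exact absurd ((h.eq_two_or_odd').resolve_right (Nat.not_odd_iff_even.2 (Nat.even_iff.2
      (FiniteField.even_card_iff_char_two.1 (CharP.ringChar_of_prime_eq_zero Nat.prime_two h2))))) hq
  · have hc0 : c ≠ 0 := fun e => A.det_ne_zero (by rw [hc, e]; simp)
    refine ⟨⟨sc (Units.mk0 c hc0), bor_le (sc_bor _)⟩, hK.1 _ ⟨_, coe_sc _⟩, Units.ext ?_⟩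
    rw [hc]
    ext i j
    fin_cases i <;> fin_cases j <;> simp [rho, coe_sc]
  · let B : GL (Fin 3) F := GeneralLinearGroup.mkOfDetNeZero
      !![1, 0, 0; 0, A.val 0 0, A.val 0 1; 0, A.val 1 0, A.val 1 1] (by
        have := A.det_ne_zero
        rw [det_fin_two] at this
        simpa [det_fin_three] using this)
    have hB : B ∈ BT F ![0, 1, 1] := mem_par.2 ⟨rfl, rfl⟩
    obtain ⟨l, hl, e⟩ := hK.2 B
    have hl' : l ∈ BT F ![0, 1, 1] := inv_mem_iff.1 ((mul_mem_cancel_right hB).1 (bor_le e))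
    refine ⟨_, ⟨⟨l, hl'⟩, hl, rfl⟩, ?_⟩
    have e' : rho.toHomUnits ⟨B, hB⟩ = A := Units.ext (by
      ext i j
      fin_cases i <;> fin_cases j <;> rfl)
    rw [← e', ← map_inv, ← map_mul]
    exact (mem_bor.1 e).2.2

theorem flag' (hP : PanStmt) (h2 : (2 : F) = 0) (hq : Fintype.card F ≠ 2) (hK : FlagT K)
    (ho : Odd (Nat.card K)) {k : GL (Fin 3) F} (hk : k ∈ K) (A : GL (Fin 3) F)
    (hb : A⁻¹ * k * A ∈ BT F id) :
    (A⁻¹ * k * A : GL (Fin 3) F).val 1 1 = (A⁻¹ * k * A : GL (Fin 3) F).val 2 2 ∧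
      (A⁻¹ * k * A : GL (Fin 3) F).val 1 2 = 0 := by
  obtain ⟨l, hl, e⟩ := hK.2 A
  have e : l⁻¹ * A ∈ BT F id := e
  have e1 : l⁻¹ * k * l = l⁻¹ * A * (A⁻¹ * k * A) * (l⁻¹ * A)⁻¹ := by group
  have hm : l⁻¹ * k * l ∈ BT F id := e1 ▸ mul_mem (mul_mem e hb) (inv_mem e)
  obtain ⟨f1, f2⟩ := flag hP h2 hq hK ho (mul_mem (mul_mem (inv_mem hl) hk) hl) hm
  rw [eq_mul_inv_iff_mul_eq] at e1
  generalize l⁻¹ * k * l = m at *
  generalize A⁻¹ * k * A = n at *
  generalize l⁻¹ * A = b at *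
  have e2 := congrArg Units.val e1
  rw [Units.val_mul, Units.val_mul] at e2
  obtain ⟨b1, b2, b3⟩ := mem_bor.1 e
  obtain ⟨m1, m2, m3⟩ := mem_bor.1 hm
  obtain ⟨n1, n2, n3⟩ := mem_bor.1 hb
  have e11 := congrFun (congrFun e2 1) 1
  have e22 := congrFun (congrFun e2 2) 2
  have e12 := congrFun (congrFun e2 1) 2
  simp only [mul_apply, Fin.sum_univ_three, b1, b2, b3, m1, m2, m3, n1, n2, n3, f2, zero_mul,
    mul_zero, zero_add, add_zero] at e11 e22 e12
  have g1 : n.val 1 1 = m.val 1 1 := mul_left_cancel₀ (bor_ne e 1) (by linear_combination -e11)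
  have g2 : n.val 2 2 = m.val 2 2 := mul_left_cancel₀ (bor_ne e 2) (by linear_combination -e22)
  refine ⟨by rw [g1, g2, f1], mul_left_cancel₀ (bor_ne e 1) ?_⟩
  rw [g2, ← f1] at e12
  linear_combination -e12

end Cfsg.Agent.H29.CksHm
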