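import Cfsg.Agent.H53.MWDefs2
import Cfsg.Agent.H93.ClassNumber

/-!
Project MW2, piece CP: the tools on class numbers and commuting probabilities.
-/

set_option autoImplicit false

namespace Cfsg.Agent.H29.CpK

open MulAction Cfsg.Agent.H12.RO Cfsg.Agent.H53.MW

universe u

theorem cls_congr {A B : Type*} [Group A] [Group B] (e : A ≃* B) :
    Nat.card (ConjClasses A) = Nat.card (ConjClasses B) := by
  refine Nat.card_congr (Equiv.ofBijective (ConjClasses.map e.toMonoidHom) ⟨?_, ?_⟩)
  · intro a b h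
    obtain ⟨a, rfl⟩ := ConjClasses.mk_surjective a
    obtain ⟨b, rfl⟩ := ConjClasses.mk_surjective b
    have h1 : IsConj (e a) (e b) := ConjClasses.mk_eq_mk_iff_isConj.1 h
    have h2 := e.symm.toMonoidHom.map_isConj h1
    simp only [MulEquiv.toMonoidHom_eq_coe, MonoidHom.coe_coe, MulEquiv.symm_apply_apply] at h2
    exact ConjClasses.mk_eq_mk_iff_isConj.2 h2
  · exact ConjClasses.map_surjective e.surjective

theorem prob_congr {A B : Type*} [Group A] [Group B] (e : A ≃* B) : commProb A = commProb B := by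
  rw [commProb_def', commProb_def', cls_congr e, Nat.card_congr e.toEquiv]

theorem prob_le_sub {A : Type*} [Group A] [Finite A] (X : Subgroup A) :
    commProb A ≤ commProb X := by
  have h := Cfsg.Agent.H93.card_conjClasses_le_index_mul X
  have h1 : (0 : ℚ) < Nat.card A := Nat.cast_pos.2 Nat.card_pos
  have h2 : (0 : ℚ) < Nat.card X := Nat.cast_pos.2 Nat.card_pos
  rw [commProb_def', commProb_def', div_le_div_iff₀ h1 h2, ← X.index_mul_card]
  have h3 : (Nat.card (ConjClasses A) : ℚ) ≤ X.index * Nat.card (ConjClasses X) := by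
    exact_mod_cast h
  push_cast
  nlinarith

theorem prob_inj {A B : Type*} [Group A] [Finite A] [Group B] (f : B →* A)
    (hf : Function.Injective f) : commProb A ≤ commProb B := by
  rw [prob_congr (MonoidHom.ofInjective hf)]
  exact prob_le_sub _

/-- two homomorphisms with the same kernel, the first one onto -/
theorem prob_ker {G A B : Type*} [Group G] [Group A] [Group B] [Finite B] (f : G →* A)
    (hf : Function.Surjective f) (g : G →* B) (h : ∀ x, f x = 1 ↔ g x = 1) :
    commProb B ≤ commProb A := by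
  have h1 : f.ker = g.ker := by
    ext x
    exact h x
  rw [← prob_congr (QuotientGroup.quotientKerEquivOfSurjective f hf),
    prob_congr (QuotientGroup.quotientMulEquivOfEq h1),
    prob_congr (QuotientGroup.quotientKerEquivRange g)]
  exact prob_le_sub _

theorem card_ne {α : Type*} [Finite α] (a : α) : Nat.card {x : α // x ≠ a} = Nat.card α - 1 := by
  classical
  have := Fintype.ofFinite α
  simp [Nat.card_eq_fintype_card]

section Img

variable {G V : Type*} [Group G] [MulAction G V]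

instance img_finite [Finite G] : Finite (img G V) :=
  Finite.of_surjective _ (toPermHom G V).rangeRestrict_surjective

theorem rr_eq_one {g : G} : (toPermHom G V).rangeRestrict g = 1 ↔ ∀ x : V, g • x = x := by
  rw [Subtype.ext_iff, Equiv.ext_iff]; rfl

theorem faith (h : ∀ g : G, (∀ x : V, g • x = x) → g = 1) :
    Nat.card (img G V) = Nat.card G ∧ cp G V = commProb G ∧
      ko G V = Nat.card (ConjClasses G) + Nat.card (orbitRel.Quotient G V) := by
  have hi : Function.Injective (toPermHom G V) := by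
    rw [injective_iff_map_eq_one]
    intro g hg
    exact h g fun x => Equiv.ext_iff.1 hg x
  let e := MonoidHom.ofInjective hi
  exact ⟨(Nat.card_congr e.toEquiv).symm, (prob_congr e).symm, by rw [ko, cls_congr e]⟩

theorem quot {G' : Type*} [Group G'] [MulAction G' V] (f : G →* G') (hf : Function.Surjective f)
    (h : ∀ (g : G) (v : V), f g • v = g • v) :
    img G V = img G' V ∧ cp G V = cp G' V ∧ ko G V = ko G' V := by
  have h1 : img G V = img G' V := by
    ext φ
    constructor
    · rintro ⟨g, rfl⟩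
      exact ⟨f g, Equiv.ext (h g)⟩
    · rintro ⟨g, rfl⟩
      obtain ⟨g, rfl⟩ := hf g
      exact ⟨g, Equiv.ext fun v => (h g v).symm⟩
  have h2 : orbitRel G V = orbitRel G' V := by
    ext a b
    rw [orbitRel_apply, orbitRel_apply]
    constructor
    · rintro ⟨g, rfl⟩
      exact ⟨f g, h g b⟩
    · rintro ⟨g, rfl⟩
      obtain ⟨g, rfl⟩ := hf g
      exact ⟨g, (h g b).symm⟩
  refine ⟨h1, by rw [cp, cp, h1], ?_⟩
  rw [ko, ko, h1, orbitRel.Quotient, orbitRel.Quotient, h2]

theorem sub [Finite G] (X : Subgroup G) : cp X V ≤ cp G V * (X.index : ℚ) ^ 2 := by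
  let f := (toPermHom G V).rangeRestrict
  have hf : Function.Surjective f := (toPermHom G V).rangeRestrict_surjective
  have h1 : cp X V ≤ commProb (X.map f) := by
    refine prob_ker (G := X) (f.subgroupMap X) (f.subgroupMap_surjective X)
      (toPermHom X V).rangeRestrict fun x => ?_
    rw [rr_eq_one, Subtype.ext_iff]
    exact rr_eq_one
  have h2 := (X.map f).commProb_subgroup_le
  have h3 : (X.map f).index ≤ X.index :=
    Nat.le_of_dvd (Nat.pos_of_ne_zero X.index_ne_zero_of_finite) (X.index_map_dvd hf)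
  have h4 : ((X.map f).index : ℚ) ≤ X.index := by exact_mod_cast h3
  refine h1.trans (h2.trans ?_)
  have h5 : 0 ≤ cp G V := (commProb_pos _).le
  exact mul_le_mul_of_nonneg_left (pow_le_pow_left₀ (Nat.cast_nonneg _) h4 2) h5

end Img

section Mod

variable {G V : Type*} [Group G] [Finite G] [AddCommGroup V] [DistribMulAction G V]

theorem sum (U W : AddSubgroup V) (hU : Inv G U) (hW : Inv G W) (h : U ⊔ W = ⊤) :
    (letI := subAct hU; cp G U) * (letI := subAct hW; cp G W) ≤ cp G V := by
  letI := subAct hU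
  letI := subAct hW
  rw [cp, cp, ← commProb_prod]
  refine prob_ker (G := G) (toPermHom G V).rangeRestrict (toPermHom G V).rangeRestrict_surjective
    ((toPermHom G U).rangeRestrict.prod (toPermHom G W).rangeRestrict) fun g => ?_
  rw [MonoidHom.prod_apply, Prod.mk_eq_one, rr_eq_one, rr_eq_one, rr_eq_one]
  refine ⟨fun hg => ⟨fun x => Subtype.ext (hg x), fun x => Subtype.ext (hg x)⟩, fun hg x => ?_⟩
  obtain ⟨a, ha, b, hb, rfl⟩ := AddSubgroup.mem_sup.1 (h ▸ AddSubgroup.mem_top x)
  rw [smul_add]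
  exact congrArg₂ (· + ·) (congrArg Subtype.val (hg.1 ⟨a, ha⟩))
    (congrArg Subtype.val (hg.2 ⟨b, hb⟩))

omit [Finite G] in
theorem sys_card {Ω : Type*} [MulAction G Ω] [Fintype Ω] (S : Sys G V Ω) :
    Nat.card V = ∏ ω, Nat.card (S.e ω).range := by
  classical
  rw [← Nat.card_pi]
  refine Nat.card_congr
    { toFun := fun x ω => ⟨S.e ω x, x, rfl⟩
      invFun := fun y => ∑ ω, (y ω : V)
      left_inv := fun x => S.sum x
      right_inv := fun y => ?_ }
  funext ω
  refine Subtype.ext ?_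
  change S.e ω (∑ ω, (y ω : V)) = y ω
  rw [map_sum, Finset.sum_eq_single ω]
  · obtain ⟨x, hx⟩ := (y ω).2
    rw [← hx, S.idem]
  · intro b _ hb
    obtain ⟨x, hx⟩ := (y b).2
    rw [← hx]
    exact S.orth _ _ hb.symm _
  · simp

theorem sys {Ω : Type*} [MulAction G Ω] [Fintype Ω] (S : Sys G V Ω) (c : ℚ) (hc : 0 ≤ c)
    (h : ∀ ω, c ≤ (letI := subAct (S.inv_range ω); cp (stabilizer G ω) (S.e ω).range) *
      Nat.card (S.e ω).range) :
    c ^ Fintype.card Ω ≤ cp G V * Nat.card V * (Nat.card (img G Ω) : ℚ) ^ 2 := by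
  let K := (toPermHom G Ω).ker
  have hK : ∀ ω, K ≤ stabilizer G ω := fun ω g hg => Equiv.ext_iff.1 hg ω
  letI := fun ω => subAct (S.inv_range ω)
  have h1 : ∏ ω, cp (stabilizer G ω) (S.e ω).range ≤ cp K V := by
    simp only [cp]
    rw [← commProb_pi]
    refine prob_ker (G := K) (toPermHom K V).rangeRestrict
      (toPermHom K V).rangeRestrict_surjective
      (MonoidHom.pi fun ω => (toPermHom (stabilizer G ω) (S.e ω).range).rangeRestrict.comp
        (Subgroup.inclusion (hK ω))) fun g => ?_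
    rw [rr_eq_one, funext_iff]
    constructor
    · intro hg ω
      exact rr_eq_one.2 fun x => Subtype.ext (hg x)
    · intro hg x
      rw [← S.sum x, Finset.smul_sum]
      refine Finset.sum_congr rfl fun ω _ => ?_
      exact congrArg Subtype.val (rr_eq_one.1 (hg ω) ⟨S.e ω x, x, rfl⟩)
  have h2 := sub (V := V) K
  have h3 : K.index = Nat.card (img G Ω) := Subgroup.index_ker _
  rw [h3] at h2
  calc c ^ Fintype.card Ω = ∏ _ω : Ω, c := by rw [Finset.prod_const, Finset.card_univ]
    _ ≤ ∏ ω, (cp (stabilizer G ω) (S.e ω).range * Nat.card (S.e ω).range) :=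
        Finset.prod_le_prod (fun _ _ => hc) fun ω _ => h ω
    _ = (∏ ω, cp (stabilizer G ω) (S.e ω).range) * Nat.card V := by
        rw [Finset.prod_mul_distrib, sys_card S, Nat.cast_prod]
    _ ≤ cp G V * (Nat.card (img G Ω) : ℚ) ^ 2 * Nat.card V :=
        mul_le_mul_of_nonneg_right (h1.trans h2) (Nat.cast_nonneg _)
    _ = _ := by ring

theorem orb_count [Finite V] :
    Nat.card V - 1 ≤ (Nat.card (orbitRel.Quotient G V) - 1) * Nat.card (img G V) := by
  classical
  let q : V → orbitRel.Quotient G V := Quotient.mk _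
  have h1 : ∀ v : {v : V // v ≠ 0}, ∃ p : {o : orbitRel.Quotient G V // o ≠ q 0} × img G V,
      (p.2 : Equiv.Perm V) p.1.1.out = v := by
    rintro ⟨v, hv⟩
    have h2 : q v ≠ q 0 := by
      intro e
      obtain ⟨g, hg⟩ := orbitRel_apply.1 (Quotient.exact e)
      exact hv (hg.symm.trans (smul_zero g))
    obtain ⟨g, hg⟩ := orbitRel_apply.1 (Quotient.exact (Quotient.out_eq (q v)).symm)
    exact ⟨(⟨q v, h2⟩, (toPermHom G V).rangeRestrict g), hg⟩
  choose F hF using h1
  have h2 : Function.Injective F := fun a b e => Subtype.ext (by rw [← hF a, ← hF b, e])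
  have h3 := Nat.card_le_card_of_injective F h2
  rwa [Nat.card_prod, card_ne, card_ne] at h3

theorem am [Finite V] :
    4 * cp G V * ((Nat.card V : ℚ) - 1) ≤ ((ko G V : ℚ) - 1) ^ 2 ∧ 2 ≤ ko G V ∧
    Nat.card V - 1 ≤ (Nat.card (orbitRel.Quotient G V) - 1) * Nat.card (img G V) := by
  have h := orb_count (G := G) (V := V)
  have h1 : 1 ≤ Nat.card (ConjClasses (img G V)) := Nat.card_pos
  have : Nonempty (orbitRel.Quotient G V) := ⟨Quotient.mk _ 0⟩
  have h2 : 1 ≤ Nat.card (orbitRel.Quotient G V) := Nat.card_pos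
  have h3 : 1 ≤ Nat.card V := Nat.card_pos
  refine ⟨?_, Nat.add_le_add h1 h2, h⟩
  have h4 : (0 : ℚ) < Nat.card (img G V) := Nat.cast_pos.2 Nat.card_pos
  have h5 : (Nat.card V : ℚ) - 1 ≤
      ((Nat.card (orbitRel.Quotient G V) : ℚ) - 1) * Nat.card (img G V) := by
    have := (Nat.cast_le (α := ℚ)).2 h
    rwa [Nat.cast_mul, Nat.cast_sub h3, Nat.cast_sub h2, Nat.cast_one] at this
  rw [cp, commProb_def', ko, Nat.cast_add]
  generalize (Nat.card (ConjClasses (img G V))) = k at h1 ⊢
  generalize (Nat.card (orbitRel.Quotient G V) : ℚ) = o at h5 ⊢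
  generalize (Nat.card (img G V) : ℚ) = n at h4 h5 ⊢
  have h6 : (0 : ℚ) ≤ k := Nat.cast_nonneg k
  calc 4 * ((k : ℚ) / n) * ((Nat.card V : ℚ) - 1) ≤ 4 * ((k : ℚ) / n) * ((o - 1) * n) :=
        mul_le_mul_of_nonneg_left h5 (by positivity)
    _ = 4 * k * (o - 1) := by field_simp
    _ ≤ _ := by nlinarith [sq_nonneg ((k : ℚ) - (o - 1))]

theorem sec {N : Type*} [AddCommGroup N] [DistribMulAction G N] (L M : Subgroup G) [hM : M.Normal]
    (π : G → N) (h : IsSec L M π) : ko G N ≤ Nat.card (ConjClasses G) + 1 := by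
  classical
  let f := (toPermHom G N).rangeRestrict
  let F : G → ConjClasses (img G N) ⊕ orbitRel.Quotient G N := fun g =>
    if g ∈ M then Sum.inr (Quotient.mk _ (π g)) else Sum.inl (ConjClasses.mk (f g))
  have hF : ∀ a b : G, IsConj a b → F a = F b := by
    intro a b hab
    obtain ⟨c, rfl⟩ := isConj_iff.1 hab
    by_cases ha : a ∈ M
    · simp only [F, if_pos ha, if_pos (hM.conj_mem a ha c), h.conj c a ha]
      exact congrArg _ (Quotient.sound (orbitRel_apply.2 ⟨c, rfl⟩)).symm
    · have hb : c * a * c⁻¹ ∉ M := fun hb => ha (by simpa [mul_assoc] using hM.conj_mem' _ hb c)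
      simp only [F, if_neg ha, if_neg hb]
      exact congrArg _ (ConjClasses.mk_eq_mk_iff_isConj.2 (f.map_isConj hab))
  let Φ : Option (ConjClasses G) → ConjClasses (img G N) ⊕ orbitRel.Quotient G N := fun o =>
    o.elim (Sum.inl (ConjClasses.mk 1)) (Quotient.lift F hF)
  have hΦ : Function.Surjective Φ := by
    rintro (c | o)
    · obtain ⟨φ, rfl⟩ := ConjClasses.mk_surjective c
      obtain ⟨g, rfl⟩ := (toPermHom G N).rangeRestrict_surjective φ
      by_cases hg : g ∈ M
      · refine ⟨none, ?_⟩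
        rw [rr_eq_one.2 (h.smul_of_mem hg)]
        rfl
      · exact ⟨some (ConjClasses.mk g), if_neg hg⟩
    · obtain ⟨n, rfl⟩ := Quotient.mk_surjective o
      obtain ⟨a, ha, rfl⟩ := h.surj n
      exact ⟨some (ConjClasses.mk a), if_pos ha⟩
  have := h.finite
  have h1 := Nat.card_le_card_of_surjective Φ hΦ
  rwa [Nat.card_sum, Finite.card_option] at h1

end Mod

theorem cls {H : Type*} [Group H] [Finite H] (U : Subgroup H) (hU : U ≤ Subgroup.center H)
    (hc : IsCyclic U) {ι : Type*} [Fintype ι] (x : ι → H) (z : ι → ℕ) (hz : ∀ i, 0 < z i)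
    (h1 : ∀ i j (g : H), ∀ a ∈ U, g * x i * g⁻¹ = a * x j → i = j)
    (h2 : ∀ i (g : H), ∀ a ∈ U, g * x i * g⁻¹ = a * x i → a ^ z i = 1) :
    ∑ i, (Nat.card U : ℚ) / z i ≤ Nat.card (ConjClasses H) := by
  classical
  have := Fintype.ofFinite H
  have := Fintype.ofFinite (ConjClasses H)
  let φ : ι → U → ConjClasses H := fun i a => ConjClasses.mk (a * x i)
  have key : ∀ i j (a b : U), φ i a = φ j b →
      ∃ g : H, g * x i * g⁻¹ = ((a⁻¹ * b : U) : H) * x j := by
    intro i j a b e
    obtain ⟨g, hg⟩ := isConj_iff.1 (ConjClasses.mk_eq_mk_iff_isConj.1 e)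
    refine ⟨g, ?_⟩
    have h3 : g * a = a * g := Subgroup.mem_center_iff.1 (hU a.2) g
    rw [Subgroup.coe_mul, Subgroup.coe_inv, mul_assoc _ (b : H), ← hg, ← mul_assoc g, h3]
    group
  let I : ι → Finset (ConjClasses H) := fun i => Finset.univ.image (φ i)
  have h3 : ∀ i, Nat.card U ≤ z i * (I i).card := by
    intro i
    rw [Nat.card_eq_fintype_card, ← Finset.card_univ]
    refine Finset.card_le_mul_card_image _ _ fun c hc' => ?_
    obtain ⟨a, -, rfl⟩ := Finset.mem_image.1 hc'
    refine le_trans ?_ (IsCyclic.card_pow_eq_one_le (α := U) (hz i))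
    refine Finset.card_le_card_of_injOn (fun b => a⁻¹ * b) (fun b hb => ?_)
      fun b _ b' _ e => mul_left_cancel e
    have hb' : φ i b = φ i a := (Finset.mem_filter.1 hb).2
    obtain ⟨g, hg⟩ := key i i a b hb'.symm
    exact Finset.mem_filter.2 ⟨Finset.mem_univ _, Subtype.ext (h2 i g _ (a⁻¹ * b).2 hg)⟩
  have h4 : ∑ i, (I i).card ≤ Nat.card (ConjClasses H) := by
    rw [← Finset.card_biUnion, Nat.card_eq_fintype_card]
    · exact Finset.card_le_univ _
    · intro i _ j _ hij
      refine Finset.disjoint_left.2 fun c hi hj => hij ?_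
      obtain ⟨a, -, rfl⟩ := Finset.mem_image.1 hi
      obtain ⟨b, -, e⟩ := Finset.mem_image.1 hj
      obtain ⟨g, hg⟩ := key i j a b e.symm
      exact h1 i j g _ (a⁻¹ * b).2 hg
  refine le_trans (Finset.sum_le_sum fun i _ => ?_) (((Nat.cast_sum _ _).symm.trans_le
    (Nat.cast_le.2 h4)))
  have h5 : (0 : ℚ) < z i := Nat.cast_pos.2 (hz i)
  rw [div_le_iff₀ h5, mul_comm]
  exact_mod_cast h3 i

/-- **CP.** -/
theorem cpKit : CpKit.{u} where
  inj _ _ _ _ _ f hf := prob_inj f hf
  faith _ _ _ _ h := faith h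
  quot _ _ _ _ _ _ _ f hf h := quot f hf h
  sub _ _ _ _ _ X := sub X
  sum _ _ _ _ _ _ U W hU hW h := sum U W hU hW h
  sys _ _ _ _ _ _ _ _ _ _ S c hc h := sys S c hc h
  am _ _ _ _ _ _ _ := am
  cls _ _ _ U hU hc _ x z hz h1 h2 := cls U hU hc x z hz h1 h2
  sec _ _ _ _ _ _ L M _ _ π _ h := sec L M π h
  quo _ _ _ _ _ _ hf := Nat.card_le_card_of_surjective _ (ConjClasses.map_surjective hf)

end Cfsg.Agent.H29.CpK
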