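import Cfsg.Agent.H37.FkTF
import Cfsg.Agent.H1.Card

/-!
# The Sylow subgroup of a frame of `SL₂`'s
-/

set_option autoImplicit false

namespace Cfsg.Agent.H29.FkFr0

open Cfsg Subgroup Matrix Cfsg.Agent.H37.FK

universe u

theorem index_eq_of {P Y : Type*} [Group P] (B : Subgroup P) (f : P → Y)
    (hf : Function.Surjective f) (h : ∀ a b, f a = f b ↔ a⁻¹ * b ∈ B) : B.index = Nat.card Y :=
  Nat.card_congr ((Quotient.congrRight fun a b => by
    rw [QuotientGroup.leftRel_apply, Setoid.ker_def, h]).trans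
      (Setoid.quotientKerEquivOfSurjective f hf))

section SL2
variable {F : Type} [Field F]

theorem det2 (a : SL2 F) : a.1 0 0 * a.1 1 1 - a.1 0 1 * a.1 1 0 = 1 := by
  rw [← det_fin_two]; exact a.2

theorem cmul (a b : SL2 F) : (a * b).1 = a.1 * b.1 := rfl

theorem cinv (a : SL2 F) : (a⁻¹).1 = adjugate a.1 := rfl

theorem cup (t : F) : (up t).1 = !![1, t; 0, 1] := rfl

theorem clo (t : F) : (lo t).1 = !![1, 0; t, 1] := rfl

theorem mul10 (a b : SL2 F) : (a * b).1 1 0 = a.1 1 0 * b.1 0 0 + a.1 1 1 * b.1 1 0 := by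
  simp [Matrix.mul_apply, Fin.sum_univ_two]

theorem inv10 (a b : SL2 F) : (a⁻¹ * b).1 1 0 = a.1 0 0 * b.1 1 0 - a.1 1 0 * b.1 0 0 := by
  rw [mul10, cinv, adjugate_fin_two]
  simp
  ring

open Classical in
/-- the point of the projective line given by the first column -/
noncomputable def pt (a : SL2 F) : Option F :=
  if a.1 1 0 = 0 then none else some (a.1 0 0 / a.1 1 0)

theorem pt_eq (a b : SL2 F) : pt a = pt b ↔ (a⁻¹ * b).1 1 0 = 0 := by
  have ha := det2 a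
  have hb := det2 b
  rw [inv10]
  unfold pt
  by_cases h1 : a.1 1 0 = 0 <;> by_cases h2 : b.1 1 0 = 0
  · simp [h1, h2]
  · have : a.1 0 0 ≠ 0 := fun e => by simp [e, h1] at ha
    simp [h1, h2, this]
  · have : b.1 0 0 ≠ 0 := fun e => by simp [e, h2] at hb
    simp [h1, h2, this]
  · simp only [h1, h2, if_false, Option.some.injEq]
    rw [div_eq_div_iff h1 h2, sub_eq_zero, mul_comm (b.1 0 0)]

theorem pt_surj : Function.Surjective (pt : SL2 F → Option F) := by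
  rintro (_ | t)
  · exact ⟨1, by simp [pt]⟩
  · exact ⟨⟨!![t, -1; 1, 0], by simp [det_fin_two]⟩, by simp [pt]⟩

theorem gen (A : Subgroup (SL2 F)) (h1 : ∀ t, up t ∈ A) (h2 : ∀ t, lo t ∈ A) (a : SL2 F) :
    a ∈ A := by
  have key : ∀ a : SL2 F, a.1 1 0 ≠ 0 → a ∈ A := fun a h => by
    have hd := det2 a
    have : a = up ((a.1 0 0 - 1) / a.1 1 0) * lo (a.1 1 0) * up ((a.1 1 1 - 1) / a.1 1 0) := by
      refine Subtype.ext ?_
      rw [cmul, cmul, cup, cup, clo]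
      ext i j
      fin_cases i <;> fin_cases j <;>
        simp [Matrix.mul_apply, Fin.sum_univ_two] <;> field_simp
      · ring
      · linear_combination (-1 : F) * hd
      · ring
    rw [this]
    exact mul_mem (mul_mem (h1 _) (h2 _)) (h1 _)
  by_cases h : a.1 1 0 = 0
  · have hd := det2 a
    have : (lo 1 * a).1 1 0 ≠ 0 := by
      rw [mul10, h]
      intro e
      have e' : a.1 0 0 = 0 := by simpa [lo] using e
      simp [e', h] at hd
    exact (A.mul_mem_cancel_left (h2 1)).1 (key _ this)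
  · exact key a h

theorem up_lo : up (1 : F) * lo 1 ≠ lo 1 * up 1 := fun e => by
  have := congrArg (fun a : SL2 F => a.1 0 0) e
  simp [cmul, cup, clo, Matrix.mul_apply, Fin.sum_univ_two] at this

theorem low_zero {a : SL2 F} {d : F} (h : a * up 1 * a⁻¹ = up d) : a.1 1 0 = 0 := by
  have := congrArg (fun a : SL2 F => a.1 1 1) (mul_inv_eq_iff_eq_mul.1 h)
  simpa [cmul, cup, Matrix.mul_apply, Fin.sum_univ_two] using this

end SL2

section Maps
variable {K : Type u} [Group K] {A B C : Subgroup K} {g h : K}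

theorem maps_one : Maps (1 : K) A A := fun x => by simp

theorem maps_mul (h1 : Maps g A B) (h2 : Maps h B C) : Maps (h * g) A C := fun x => by
  rw [h1 x, h2]
  simp [mul_assoc]

theorem maps_inv (h1 : Maps g A B) : Maps g⁻¹ B A := fun x => by
  rw [h1]
  simp [mul_assoc]

theorem maps_uniq (h1 : Maps g A B) (h2 : Maps g A C) : B = C := by
  ext x
  rw [maps_inv h1 x, maps_inv h2 x]

theorem maps_iff : Maps g A A ↔ g ∈ normalizer (A : Set K) := mem_normalizer_iff.symm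

theorem norm_of [Finite K] (h : ∀ x ∈ A, g * x * g⁻¹ ∈ A) : g ∈ normalizer (A : Set K) :=
  mem_normalizer_fintype h

theorem norm_sup [Finite K] (h1 : g ∈ normalizer (A : Set K)) (h2 : g ∈ normalizer (B : Set K)) :
    g ∈ normalizer ((A ⊔ B : Subgroup K) : Set K) := by
  refine norm_of fun x hx => ?_
  have : A ⊔ B ≤ (A ⊔ B).comap (MulAut.conj g).toMonoidHom :=
    sup_le (fun y hy => mem_sup_left ((mem_normalizer_iff.1 h1 y).1 hy))
      fun y hy => mem_sup_right ((mem_normalizer_iff.1 h2 y).1 hy)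
  exact this hx

end Maps

variable {K : Type u} [Group K] (Fr : Frame K)

theorem J_inj {i j : Fr.ι} (h : Fr.J i = Fr.J j) : i = j := by
  by_contra ne
  obtain ⟨b, hb⟩ : Fr.φ i (lo 1) ∈ Fr.J j := h ▸ ⟨_, rfl⟩
  refine up_lo (Fr.inj i ?_)
  rw [map_mul, map_mul, ← hb, Fr.comm i j ne]

theorem ind_uniq {g : K} {π τ : Equiv.Perm Fr.ι} (h1 : Fr.Ind g π) (h2 : Fr.Ind g τ) : π = τ :=
  Equiv.ext fun i => J_inj Fr (maps_uniq (h1 i) (h2 i))

theorem ind_mul {g h : K} {π τ : Equiv.Perm Fr.ι} (h1 : Fr.Ind g π) (h2 : Fr.Ind h τ) :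
    Fr.Ind (g * h) (π * τ) := fun i => maps_mul (h2 i) (h1 (τ i))

theorem ind_inv {g : K} {π : Equiv.Perm Fr.ι} (h1 : Fr.Ind g π) : Fr.Ind g⁻¹ π⁻¹ := fun i => by
  have := maps_inv (h1 (π⁻¹ i))
  rwa [show π (π⁻¹ i) = i by simp] at this

theorem ind_one : Fr.Ind 1 1 := fun _ => maps_one

theorem ind_J {i : Fr.ι} {g : K} (hg : g ∈ Fr.J i) : Fr.Ind g 1 := fun j => by
  refine maps_iff.2 ?_
  by_cases e : i = j
  · exact le_normalizer (e ▸ hg)
  · obtain ⟨a, rfl⟩ := hg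
    refine centralizer_le_normalizer _ (mem_centralizer_iff.2 ?_)
    rintro _ ⟨b, rfl⟩
    exact (Fr.comm i j e a b).symm

theorem ind_H [Finite K] {g : K} (hg : g ∈ Fr.H) : Fr.Ind g 1 := fun j => by
  obtain ⟨d, h1, h2⟩ := Fr.hact g hg j
  refine maps_iff.2 (norm_of ?_)
  rintro _ ⟨a, rfl⟩
  exact gen (((Fr.J j).comap (MulAut.conj g).toMonoidHom).comap (Fr.φ j))
    (fun t => ⟨_, (h1 t).symm⟩) (fun t => ⟨_, (h2 t).symm⟩) a

theorem norm_iSup [Finite K] {g : K} {π : Equiv.Perm Fr.ι} (h : Fr.Ind g π) :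
    g ∈ normalizer ((⨆ i, Fr.J i : Subgroup K) : Set K) := by
  refine norm_of fun x hx => ?_
  have : (⨆ i, Fr.J i) ≤ (⨆ i, Fr.J i).comap (MulAut.conj g).toMonoidHom :=
    iSup_le fun i y hy => mem_iSup_of_mem (π i) ((h i y).1 hy)
  exact this hx

theorem card_JH [Finite K] : Nat.card Fr.H * ∏ i, (Fintype.card (Fr.F i) + 1) ∣
    Nat.card ((⨆ i, Fr.J i) ⊔ Fr.H : Subgroup K) := by
  let Φ : (∀ i, SL2 (Fr.F i)) →* K :=
    MonoidHom.noncommPiCoprod Fr.φ fun i j h a b => Fr.comm i j h a b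
  have r : Φ.range = ⨆ i, Fr.J i := MonoidHom.noncommPiCoprod_range Fr.φ
  have s : ∀ i a, Φ (Pi.mulSingle i a) = Fr.φ i a := fun i a =>
    MonoidHom.noncommPiCoprod_mulSingle Fr.φ i a
  let B : Subgroup (∀ i, SL2 (Fr.F i)) :=
    { carrier := {a | ∀ i, (a i).1 1 0 = 0}
      one_mem' := fun i => by simp
      mul_mem' := fun {a b} ha hb i => by rw [Pi.mul_apply, mul10, ha i, hb i]; simp
      inv_mem' := fun {a} ha i => by
        have := inv10 (a i) 1
        rw [mul_one, ha i] at this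
        simpa using this }
  have iB : B.index = ∏ i, (Fintype.card (Fr.F i) + 1) := by
    rw [index_eq_of B (fun a i => pt (a i)) (fun y => ?_) fun a b => ?_, Nat.card_pi]
    · simp
    · choose a ha using fun i => pt_surj (y i)
      exact ⟨a, funext ha⟩
    · rw [funext_iff]
      exact forall_congr' fun i => pt_eq _ _
  have le : Fr.H.comap Φ ≤ B := fun a ha i => by
    obtain ⟨d, h1, -⟩ := Fr.hact _ ha i
    refine low_zero (d := d * 1) (Fr.inj i ?_)
    rw [← h1, ← s i, ← s i, ← map_inv, ← map_mul, ← map_mul]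
    congr 1
    ext1 j
    by_cases e : j = i
    · subst e; simp
    · simp [Pi.mulSingle_eq_of_ne e]
  have h1 := index_dvd_of_le le
  rw [iB, index_comap, r, ← H1.relIndex_sup_of_coe (coe_mul_of_right_le_normalizer_left _ _
    fun h hh => norm_iSup Fr (ind_H Fr hh))] at h1
  rw [← H1.card_mul_relIndex (le_sup_right : Fr.H ≤ _)]
  exact Nat.mul_dvd_mul_left _ h1

/-- the elements permuting the `J i` like an element of `W` -/
def DD : Subgroup K where
  carrier := {g | g ∈ normalizer (((⨆ i, Fr.J i) ⊔ Fr.H : Subgroup K) : Set K) ∧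
    ∃ π ∈ Fr.W, Fr.Ind g π}
  one_mem' := ⟨one_mem _, 1, one_mem _, ind_one Fr⟩
  mul_mem' := fun ⟨a, _, p, h⟩ ⟨b, _, t, k⟩ => ⟨mul_mem a b, _, mul_mem p t, ind_mul Fr h k⟩
  inv_mem' := fun ⟨a, _, p, h⟩ => ⟨inv_mem a, _, inv_mem p, ind_inv Fr h⟩

theorem exists_rho : ∃ ρ : DD Fr →* Equiv.Perm Fr.ι, ∀ g, ρ g ∈ Fr.W ∧ Fr.Ind g (ρ g) := by
  choose f h1 h2 using fun g : DD Fr => g.2.2
  exact ⟨MonoidHom.mk' f fun a b => ind_uniq Fr (h2 (a * b)) (ind_mul Fr (h2 a) (h2 b)),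
    fun g => ⟨h1 g, h2 g⟩⟩

theorem ind_JH [Finite K] {g : K} (hg : g ∈ (⨆ i, Fr.J i) ⊔ Fr.H) : Fr.Ind g 1 := by
  let I : Subgroup K :=
    { carrier := {g | Fr.Ind g 1}
      one_mem' := ind_one Fr
      mul_mem' := fun h k => by simpa using ind_mul Fr h k
      inv_mem' := fun h => by simpa using ind_inv Fr h }
  have : (⨆ i, Fr.J i) ⊔ Fr.H ≤ I :=
    sup_le (iSup_le fun i x hx => ind_J Fr hx) fun x hx => ind_H Fr hx
  exact this hg

theorem fr0 : Fr0Stmt.{u} := by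
  intro K _ _ Fr
  haveI : Fact (Nat.Prime 2) := ⟨Nat.prime_two⟩
  set M : Subgroup K := (⨆ i, Fr.J i) ⊔ Fr.H with hM
  obtain ⟨ρ, hρ⟩ := exists_rho Fr
  have MD : M ≤ DD Fr := fun g hg => ⟨le_normalizer hg, 1, one_mem _, ind_JH Fr hg⟩
  have nD : ∀ k, Fr.n k ∈ DD Fr := fun k =>
    ⟨norm_sup (norm_iSup Fr (π := Fr.σ k) (Fr.nJ k)) (Fr.nH k), Fr.σ k,
      subset_closure ⟨k, rfl⟩, Fr.nJ k⟩
  have rn : ∀ k, ρ ⟨_, nD k⟩ = Fr.σ k := fun k => ind_uniq Fr (hρ _).2 (Fr.nJ k)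
  have rr : ρ.range = Fr.W := le_antisymm (by rintro _ ⟨g, rfl⟩; exact (hρ g).1)
    ((closure_le _).2 (by rintro _ ⟨k, rfl⟩; exact ⟨_, rn k⟩))
  set N : Subgroup K := ρ.ker.map (DD Fr).subtype with hN
  have mN : ∀ g ∈ DD Fr, Fr.Ind g 1 → g ∈ N := fun g hg h =>
    ⟨⟨g, hg⟩, ind_uniq Fr (hρ _).2 h, rfl⟩
  have Nm : ∀ g ∈ N, Fr.Ind g 1 := by
    rintro _ ⟨g, hg, rfl⟩
    have := (hρ g).2
    rwa [MonoidHom.mem_ker.1 hg] at this
  have ND : N ≤ DD Fr := map_subtype_le _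
  have MN : M ≤ N := fun g hg => mN g (MD hg) (ind_JH Fr hg)
  have cD : Nat.card (DD Fr) = Nat.card M * M.relIndex N * Nat.card Fr.W := by
    rw [H1.card_mul_relIndex MN, hN, card_map_of_injective (DD Fr).subtype_injective, ← rr,
      ← index_ker, card_mul_index]
  set e := (Nat.card K).factorization 2 with he
  have h1 : 2 ^ e ∣ Nat.card M * Nat.card Fr.W :=
    (Fr.card e (Nat.ordProj_dvd _ _)).trans (Nat.mul_dvd_mul_right (card_JH Fr) _)
  have odd : ¬ 2 ∣ M.relIndex N := fun h2 => by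
    refine Nat.pow_succ_factorization_not_dvd Nat.card_pos.ne' Nat.prime_two
      (dvd_trans ?_ (card_subgroup_dvd_card (DD Fr)))
    rw [cD, mul_right_comm, pow_succ]
    exact Nat.mul_dvd_mul h1 h2
  obtain ⟨T, hT⟩ := H98.exists_sylIn 2 (DD Fr)
  obtain ⟨S0⟩ : Nonempty (Sylow 2 K) := inferInstance
  have hT' : H98.SylIn 2 T ⊤ := (H98.sylIn_top S0).of_card_le le_top hT.isPGroup (by
    rw [S0.card_eq_multiplicity, hT.card_eq_pow_factorization]
    refine Nat.pow_le_pow_right two_pos ?_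
    refine (Nat.prime_two.pow_dvd_iff_le_factorization Nat.card_pos.ne').1 (h1.trans ?_)
    rw [cD, mul_right_comm]
    exact Dvd.intro _ rfl)
  obtain ⟨S, rfl⟩ := hT'.exists_sylow_top
  have sM : H98.SylIn 2 ((S : Subgroup K) ⊓ M) M := hT.inf_of_normal MD fun g hg => hg.1
  have sN : H98.SylIn 2 ((S : Subgroup K) ⊓ N) N := hT.inf_of_normal ND fun g hg =>
    norm_of fun x hx => by
      obtain ⟨-, π, -, h⟩ := id hg
      refine mN _ (mul_mem (mul_mem hg (ND hx)) (inv_mem hg)) ?_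
      simpa using ind_mul Fr (ind_mul Fr h (Nm x hx)) (ind_inv Fr h)
  have onto : ∀ π ∈ Fr.W, ∃ s : DD Fr, (s : K) ∈ (S : Subgroup K) ∧ ρ s = π := fun π hπ => by
    obtain ⟨R, hR⟩ := hT.exists_sylow
    have h2 := (H98.sylIn_top R).map ρ
    rw [← MonoidHom.range_eq_map, rr] at h2
    have h3 := h2.eq_of_le le_rfl Fr.two h2.le
    obtain ⟨s, hs, e⟩ : π ∈ (R : Subgroup (DD Fr)).map ρ := h3 ▸ hπ
    exact ⟨s, by rw [hR] at hs; exact hs, e⟩
  refine ⟨S, fun s hs => (hT.le hs).2, fun π hπ => ?_, fun X hX hn π hπ => ?_, fun i => ?_,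
    fun s hs h => ?_, sM⟩
  · obtain ⟨s, hs, rfl⟩ := onto π hπ
    exact ⟨s, hs, (hρ s).2⟩
  · let U := ((hX.part S S.isPGroup').subgroupOf (DD Fr)).map ρ
    have hU : Fr.W ≤ U := (closure_le _).2 (by
      rintro _ ⟨k, rfl⟩
      obtain ⟨d, hd, le⟩ := hT.exists_conj_le (zpowers_le.2 (nD k)) (hX.two _ (hn k)).zpowers
      have m : d * Fr.n k * d⁻¹ ∈ (S : Subgroup K) := le ⟨_, mem_zpowers _, rfl⟩
      obtain ⟨s, hs, es⟩ := onto _ (hρ ⟨d, hd⟩).1
      refine ⟨s⁻¹ * (⟨d, hd⟩ * ⟨_, nD k⟩ * ⟨d, hd⟩⁻¹) * s, ⟨?_, ?_⟩, ?_⟩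
      · simpa using hX.conj _ (hX.conj _ (hn k) d trivial) (s : K)⁻¹ trivial
      · exact mul_mem (mul_mem (inv_mem hs) m) hs
      · simp only [map_mul, map_inv, es, rn]
        group)
    obtain ⟨s, hs, rfl⟩ := hU hπ
    exact ⟨s, hs.2, hs.1, (hρ s).2⟩
  · have le : Fr.J i ≤ M := le_sup_of_le_left (le_iSup Fr.J i)
    have := sM.inf_of_normal le fun g hg => maps_iff.1 (ind_JH Fr hg i)
    rwa [inf_assoc, inf_eq_right.2 le] at this
  · have h2 : H98.SylIn 2 ((S : Subgroup K) ⊓ M) N :=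
      H98.sylIn_of_not_dvd_relIndex (inf_le_right.trans MN) sM.isPGroup (by
        rw [← relIndex_mul_relIndex _ _ _ inf_le_right MN]
        exact fun h => (Nat.prime_two.dvd_mul.1 h).elim sM.not_dvd_relIndex odd)
    have h3 := h2.eq_of_le inf_le_right sN.isPGroup (inf_le_inf_left _ MN)
    have : s ∈ (S : Subgroup K) ⊓ M := h3 ▸ ⟨hs, mN s (hT.le hs) h⟩
    exact this.2

set_option linter.unusedTactic false in
theorem eqns_FkFr0 : True := by
  first | (have := @Cfsg.Agent.H29.FkFr0.pt.eq_1) | skip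
  first | (have := @Cfsg.Agent.H29.FkFr0.pt.eq_def) | skip
  first | (have := @Cfsg.Agent.H29.FkFr0.DD.eq_1.{0}) | skip
  first | (have := @Cfsg.Agent.H29.FkFr0.DD.eq_def.{0}) | skip
  trivial

end Cfsg.Agent.H29.FkFr0
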