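import Cfsg.Agent.H78.G40B

/-! Project L40G (row S3140), piece CV3: the centraliser of the four-group in the field case. -/

set_option autoImplicit false

namespace Cfsg.Agent.H29.G40Cv3

open Subgroup Cfsg.Agent.H83 Cfsg.Agent.H46.L40 Cfsg.Agent.H78.G40

universe u

local notation "C[" A "]" => Subgroup.centralizer (SetLike.coe A)
local notation "N[" A "]" => Subgroup.normalizer (SetLike.coe A)

section
variable {G : Type u} [Group G]

lemma mem_of_cop {H : Subgroup G} {n : G} {a b : ℕ} (h : a.Coprime b) (ha : n ^ a ∈ H)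
    (hb : n ^ b ∈ H) : n ∈ H := by
  have e : n = (n ^ a) ^ Nat.gcdA a b * (n ^ b) ^ Nat.gcdB a b := by
    rw [← zpow_natCast, ← zpow_natCast, ← zpow_mul, ← zpow_mul, ← zpow_add, ← Nat.gcd_eq_gcd_ab, h]
    simp
  rw [e]
  exact H.mul_mem (H.zpow_mem ha _) (H.zpow_mem hb _)

lemma pow_cen {A : Subgroup G} (ab : ∀ x ∈ A, ∀ y ∈ A, x * y = y * x) {n : G} (hn : n ∈ N[A])
    (h : ∀ x ∈ A, x * x = 1 → n * x = x * n) (j : ℕ) :
    ∀ x ∈ A, x ^ 2 ^ j = 1 → n ^ 2 ^ j * x = x * n ^ 2 ^ j := by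
  induction j with
  | zero =>
    intro x _ hx
    rw [pow_zero, pow_one] at hx
    rw [hx, mul_one, one_mul]
  | succ j ih =>
    intro x hx hj
    have h1 := ih (x * x) (A.mul_mem hx hx) (by rw [← pow_two, ← pow_mul, ← pow_succ', hj])
    have h2 : ∀ y ∈ A, y * y = 1 → n ^ 2 ^ j * y = y * n ^ 2 ^ j := fun y hy hyy =>
      (Commute.pow_left (h y hy hyy) _).eq
    rw [pow_succ, pow_mul]
    have hb : n ^ 2 ^ j ∈ N[A] := pow_mem hn _
    generalize n ^ 2 ^ j = b at h1 h2 hb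
    have h3 : b * x * b⁻¹ ∈ A := (mem_normalizer_iff.1 hb x).1 hx
    have h4 : b * x * b⁻¹ * x⁻¹ ∈ A := A.mul_mem h3 (A.inv_mem hx)
    have h5 : b * x * b⁻¹ * x⁻¹ * (b * x * b⁻¹ * x⁻¹) = 1 := by
      have := ab _ (A.inv_mem hx) _ h3
      calc _ = b * x * b⁻¹ * (x⁻¹ * (b * x * b⁻¹)) * x⁻¹ := by group
        _ = b * (x * x) * b⁻¹ * x⁻¹ * x⁻¹ := by rw [this]; group
        _ = 1 := by rw [h1]; group
    have h6 := h2 _ h4 h5
    calc b ^ 2 * x = b * (b * x * b⁻¹ * x⁻¹) * x * b := by rw [pow_two]; group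
      _ = (b * x * b⁻¹ * x⁻¹ * (b * x * b⁻¹ * x⁻¹)) * x * b ^ 2 := by rw [h6, pow_two]; group
      _ = x * b ^ 2 := by rw [h5, one_mul]

lemma nc2 [Finite G] {N A : Subgroup G} (hA : IsSylowIn 2 A N)
    (ab : ∀ x ∈ A, ∀ y ∈ A, x * y = y * x) (h : ∀ n ∈ N, ∀ x ∈ A, x * x = 1 → n * x = x * n) :
    NC2 N := by
  haveI : Fact (Nat.Prime 2) := ⟨Nat.prime_two⟩
  have key : ∀ n ∈ N, n ∈ N[A] → ∀ x ∈ A, x * n = n * x := by
    intro n hn hnA x hx
    obtain ⟨j, hj⟩ := hA.isPGroup ⟨x, hx⟩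
    have h1 := pow_cen ab hnA (h n hn) j x hx (congrArg Subtype.val hj)
    obtain ⟨k, b, hb, e⟩ := Nat.exists_eq_two_pow_mul_odd (orderOf_pos n).ne'
    have h2 : IsPGroup 2 (zpowers (n ^ b)) := by
      rw [IsPGroup.iff_card]
      have : orderOf (n ^ b) ∣ 2 ^ k := orderOf_dvd_of_pow_eq_one (by
        rw [← pow_mul, mul_comm, ← e, pow_orderOf_eq_one])
      obtain ⟨i, -, hi⟩ := (Nat.dvd_prime_pow Nat.prime_two).1 this
      exact ⟨i, by rw [Nat.card_zpowers, hi]⟩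
    have h3 := hA.max (zpowers (n ^ b) ⊔ A) (sup_le (zpowers_le.2 (pow_mem hn b)) hA.le)
      (IsPGroup.to_sup_of_normal_right' h2 hA.isPGroup (zpowers_le.2 (pow_mem hnA b))) le_sup_right
    have h4 : n ^ b ∈ A := h3 ▸ mem_sup_left (mem_zpowers _)
    exact (mem_centralizer_singleton_iff.1 (mem_of_cop (H := Cz x)
      ((Nat.coprime_two_left.2 hb).pow_left j) (mem_centralizer_singleton_iff.2 h1)
      (mem_centralizer_singleton_iff.2 (ab _ h4 _ hx)))).symm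
  have hP : normalizer (hA.toSylow : Set N) ≤ centralizer (hA.toSylow : Set N) := by
    intro n hn x hx
    have hn' : (n : G) ∈ N[A] := by
      rw [mem_normalizer_iff]
      intro y
      by_cases hy : y ∈ N
      · exact (mem_set_normalizer_iff.1 hn ⟨y, hy⟩)
      · refine ⟨fun k => absurd (hA.le k) hy, fun k => absurd ?_ hy⟩
        simpa [mul_assoc] using N.mul_mem (N.mul_mem (N.inv_mem n.2) (hA.le k)) n.2
    exact Subtype.ext (key n n.2 hn' x hx)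
  refine ⟨(MonoidHom.transferSylow hA.toSylow hP).ker.map N.subtype, map_subtype_le _, ?_,
    fun x hx ho => ⟨⟨x, hx⟩, ?_, rfl⟩⟩
  · rw [card_map_of_injective N.subtype_injective, ← Nat.not_even_iff_odd, even_iff_two_dvd]
    exact MonoidHom.not_dvd_card_ker_transferSylow _ hP
  · obtain ⟨j, hj⟩ := hA.toSylow.isPGroup' (MonoidHom.transferSylow hA.toSylow hP ⟨x, hx⟩)
    have h1 : MonoidHom.transferSylow hA.toSylow hP ⟨x, hx⟩ ^ orderOf x = 1 := by
      rw [← map_pow, show (⟨x, hx⟩ : N) ^ orderOf x = 1 from Subtype.ext (pow_orderOf_eq_one x),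
        map_one]
    exact mem_bot.1 (mem_of_cop (H := ⊥) ((Nat.coprime_two_left.2 ho).pow_left j) (mem_bot.2 hj)
      (mem_bot.2 h1))

end

theorem cv3 : Cv3S.{u} := by
  intro hK hD hO hC X _ e σ τ θ hF G _ _ S ψ hT
  have pre : ∀ r ∈ S.R, r ∈ C[S.V] → ∃ x ∈ C[V0.map e], ψ x = r := by
    intro r hr hc
    rw [← hT.rg] at hr
    obtain ⟨x, rfl⟩ := hr
    refine ⟨x, ?_, rfl⟩
    rintro _ ⟨m, hm, rfl⟩
    apply hT.inj
    rw [map_mul, map_mul, hT.he]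
    exact hc _ ⟨m, hm, rfl⟩
  refine hC hK hD hO G S ?_ fun r hr hc => ?_
  · have ht : S.t ∈ N[S.X ⊓ C[S.V]] := by
      have h1 : S.t ∈ C[S.V] := by
        rintro _ ⟨m, -, rfl⟩
        exact (S.tL m).symm
      refine inf_normalizer_le_normalizer_inf ⟨?_, le_normalizer h1⟩
      haveI := S.Xn
      rw [normalizer_eq_top]
      trivial
    obtain ⟨h1, A, hA1, hA2⟩ := hD G _ _ _ S.fn _ inf_le_left ht
    refine nc2 (h1 A hA1 hA2) (fun x hx y hy => ?_) fun n hn x hx hxx => ?_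
    · obtain ⟨x', hx', rfl⟩ := pre x (hA2.le hx).2 (hA2.le hx).1.2
      obtain ⟨y', hy', rfl⟩ := pre y (hA2.le hy).2 (hA2.le hy).1.2
      rw [← map_mul, ← map_mul, hF.ab _ hx' _ hy']
    · obtain ⟨x', hx', rfl⟩ := pre x (hA2.le hx).2 (hA2.le hx).1.2
      obtain ⟨m, hm, rfl⟩ := hF.om x' hx' (hT.inj (by rw [map_mul, hxx, map_one]))
      rw [hT.he]
      exact (hn.2 _ ⟨m, hm, rfl⟩).symm
  · obtain ⟨x, hx, rfl⟩ := pre r hr hc
    obtain ⟨k, hk⟩ := hF.two ⟨x, hx⟩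
    exact ⟨k, by rw [← map_pow, show x ^ 2 ^ k = 1 from congrArg Subtype.val hk, map_one]⟩

end Cfsg.Agent.H29.G40Cv3
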