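import Cfsg.Agent.H56.HLK

/-! Project HL (S3727), piece G0: the parabolic / Borel dichotomy. -/

set_option autoImplicit false
set_option linter.unusedSectionVars false

namespace Cfsg.Agent.H29.HlG0

open MulAction Subgroup Cfsg.Agent.H83 Cfsg.Agent.H56.TT Cfsg.Agent.H56.HL
open scoped Cfsg.Agent.H63

universe u v

variable {G : Type u} [Group G] {Ω : Type v} [MulAction G Ω] {NN : Ω → Subgroup G} {q : ℕ}

theorem pk_of (h : St NN q) {a b : Ω} (hab : a ≠ b) {E : Subgroup G} (hE : Vx (NN a) q E)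
    (h1 : NN a ⊓ stabilizer G b ≤ N[E]) (h2 : SS (NN a) q E ≤ stabilizer G b) : PK NN q := by
  refine h.spread (fun x y => ∃ E, Vx (NN x) q E ∧ NN x ⊓ stabilizer G y ≤ N[E] ∧
    SS (NN x) q E ≤ stabilizer G y) ?_ hab ⟨E, hE, h1, h2⟩
  rintro g x y - ⟨X, hX, e1, e2⟩
  refine ⟨cj g X, by rw [h.smul]; exact hX.cj' g, ?_, ?_⟩
  · rw [h.smul, ← cj_stab, ← cj_inf, ← cj_normalizer, cj_le_cj_iff]; exact e1
  · rw [h.smul, ← cj_stab, ← cj_SS', cj_le_cj_iff]; exact e2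

theorem bk_of (h : St NN q) {a b : Ω} (hab : a ≠ b) {E F : Subgroup G} (hA : Adj (NN a) q E F)
    (e : UU NN a b = E ⊔ F) : BK NN q := by
  refine h.spread (fun x y => ∃ E F, Adj (NN x) q E F ∧ UU NN x y = E ⊔ F ∧ ZZ NN x y = E ⊓ F)
    ?_ hab ⟨E, F, hA, e, BK.zz h hA e⟩
  rintro g x y - ⟨X, Y, hX, e1, e2⟩
  refine ⟨cj g X, cj g Y, by rw [h.smul]; exact hX.cj' g, ?_, ?_⟩
  · rw [← h.cj_UU, e1, cj_sup]
  · rw [← h.cj_ZZ, e2, cj_inf]

theorem g0 : G0Stmt.{u, v} := by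
  intro G Ω _ _ _ _ _ NN q h
  obtain ⟨a, -, -⟩ := h.nt
  obtain ⟨E, F, hA⟩ := (h.kit a).l3.ex
  have syl := ((h.kit a).l3.fb hA).syl
  haveI : Fact (Nat.Prime 2) := ⟨Nat.prime_two⟩
  obtain ⟨b, hb, hab⟩ := syl.isPGroup.exists_fixed_point_of_prime_dvd_card_of_fixed_point Ω
    (even_iff_two_dvd.1 h.even) (a := a) (fun u => h.fix a (syl.le u.2))
  have hU : E ⊔ F ≤ NN a ⊓ stabilizer G b := fun u hu => ⟨syl.le hu, hb ⟨u, hu⟩⟩
  have hne : NN a ⊓ stabilizer G b ≠ NN a := fun e => by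
    obtain ⟨n, hn, h1⟩ := h.fix1 hab
    rw [← e] at hn
    exact h1 hn.2
  by_cases hE : NN a ⊓ stabilizer G b ≤ N[E]
  · by_cases hF : NN a ⊓ stabilizer G b ≤ N[F]
    · refine Or.inr (bk_of h hab hA (le_antisymm ((closure_le _).2 fun g hg => ?_) fun g hg => ?_))
      · exact (h.kit a).ka.borel hA g hg.1 (hE ⟨hg.1, hg.2.1⟩) (hF ⟨hg.1, hg.2.1⟩) hg.2.2
      · exact mem_UU (hU hg).1 (hU hg).2 (Is2.of_mem syl.isPGroup hg)
    · exact Or.inl (pk_of h hab hA.vl hE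
        (((h.kit a).kd.ov2 hA hU inf_le_left hE hF).trans inf_le_right))
  · have hF := ((h.kit a).kd.ov1 hA hU inf_le_left hne).resolve_left hE
    exact Or.inl (pk_of h hab hA.vr hF
      (((h.kit a).kd.ov2 hA.symm (by rw [sup_comm]; exact hU) inf_le_left hF hE).trans
        inf_le_right))

end Cfsg.Agent.H29.HlG0
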