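import Cfsg.Agent.H42.HtDefs
import Cfsg.Agent.H40.F6Cz
import Cfsg.Agent.H6.ZStar

/-!
# Project HT, piece ZS: isolated involutions modulo a central involution
-/

set_option autoImplicit false

namespace Cfsg.Agent.H29.HtZS

open Cfsg Cfsg.Agent.H42.HT Cfsg.Agent.H40.F6 Subgroup

universe u

theorem dih {G : Type*} [Group G] {a b : G} {m : ℕ} (aa : a * a = 1) (bb : b * b = 1)
    (h : (a * b) ^ (2 * m + 1) = 1) : (a * b) ^ (m + 1) * b * ((a * b) ^ (m + 1))⁻¹ = a := by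
  have s : SemiconjBy b (a * b)⁻¹ (a * b) := by
    rw [SemiconjBy, mul_inv_rev, mul_inv_cancel_left, mul_assoc, bb, mul_one,
      inv_eq_of_mul_eq_one_right aa]
  rw [← inv_pow, mul_assoc, (s.pow_right (m + 1)).eq, ← mul_assoc, ← pow_add,
    show m + 1 + (m + 1) = 2 * m + 1 + 1 by ring, pow_succ, h, one_mul, mul_assoc, bb, mul_one]

/-- **ZS** -/
theorem zs : ZsStmt.{u} := by
  intro G _ _ w r ww w1 rr H
  set X := centralizer ({w} : Set G) with hX
  have mX : ∀ {x}, x ∈ X ↔ x * w = w * x := mem_centralizer_singleton_iff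
  have wX : w ∈ X := mX.2 rfl
  have ZX : zpowers w ≤ X := (zpowers_le (G := G)).2 wX
  have ze : ∀ v ∈ zpowers w, v = 1 ∨ v = w := fun v hv => by
    obtain ⟨n, rfl⟩ := hv
    have e2 : w ^ (2 : ℤ) = 1 := by rw [zpow_two, ww]
    simp only
    rw [zpow_eq_zpow_emod n e2]
    rcases Int.emod_two_eq_zero_or_one n with h | h <;> simp [h]
  have cz : ∀ x ∈ X, ∀ v ∈ zpowers w, x * v = v * x := fun x hx v hv => by
    rcases ze v hv with rfl | rfl
    · simp
    · exact mX.1 hx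
  haveI nZ : ((zpowers w).subgroupOf X).Normal := ⟨fun v hv g => by
    rw [mem_subgroupOf] at hv ⊢
    simp only [coe_mul, coe_inv]
    rw [cz g g.2 v hv, mul_inv_cancel_right]; exact hv⟩
  have pZ : IsPGroup 2 (zpowers w) := fun v => ⟨1, Subtype.ext (by
    rcases ze v v.2 with h | h <;> simp [h, pow_two, ww])⟩
  set p := QuotientGroup.mk' ((zpowers w).subgroupOf X) with hp
  have kp : ∀ x : X, p x = 1 ↔ (x : G) ∈ zpowers w := fun x => QuotientGroup.eq_one_iff x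
  have cr : r * w = w * r := by rw [← rr, mul_assoc]
  set R : X := ⟨r, mX.2 cr⟩ with hR
  have R2 : p R * p R = 1 := by
    rw [← map_mul, kp]
    exact rr ▸ mem_zpowers _
  have eqv : ∀ n : X, p n * p R * (p n)⁻¹ = p R ↔ (n : G) ∈ Mr w r := fun n => by
    rw [mem_Mr ww, eq_comm, ← inv_mul_eq_one, ← map_inv, ← map_inv, ← map_mul, ← map_mul, ← map_mul,
      kp]
    change r⁻¹ * (n * r * (n : G)⁻¹) ∈ _ ↔ _
    refine ⟨fun h => ⟨mX.1 n.2, (ze _ h).imp (fun h => (inv_mul_eq_one.1 h).symm)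
      fun h => inv_mul_eq_iff_eq_mul.1 h⟩, ?_⟩
    rintro ⟨-, h | h⟩ <;> rw [h]
    · rw [inv_mul_cancel]; exact one_mem _
    · rw [inv_mul_cancel_left]; exact mem_zpowers _
  have iso : IsIsolatedInvolution (p R) := by
    refine ⟨orderOf_eq_prime (by rw [pow_two, R2]) fun h => w1 ?_, fun g hg => ?_⟩
    · rcases ze r ((kp R).1 h) with h | h
      · rw [← rr, h, one_mul]
      · rw [← rr, h, ww]
    · obtain ⟨g, rfl⟩ := QuotientGroup.mk'_surjective _ g
      refine (eqv g).2 (H g (mX.1 g.2) ((eqv (g * R * g⁻¹)).1 ?_))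
      rw [map_mul, map_mul, map_inv, ← hg.eq, mul_inv_cancel_right]
  refine ⟨Oc X, odd_Oc X, Oc_le X, le_norm_Oc X, fun n hn => ?_⟩
  set N : X := ⟨n, mX.2 hn⟩ with hN
  obtain ⟨v, hv, o, ho, e⟩ := split ZX pZ cz (k := R * N * R⁻¹ * N⁻¹) (by
    rw [← hp, map_mul, map_mul, map_mul, map_inv, map_inv]
    exact H6.zstar _ iso _)
  obtain ⟨m, hm⟩ := odd_Oc X
  have om : o ^ (2 * m + 1) = 1 :=
    hm ▸ congrArg Subtype.val (pow_card_eq_one' (x := (⟨o, ho⟩ : Oc X)))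
  set O : X := ⟨o, Oc_le X ho⟩ with hO
  have e1 : p R * (p N * p R * (p N)⁻¹) = p O := by
    have := congrArg p (show R * N * R⁻¹ * N⁻¹ = ⟨v, ZX hv⟩ * O from Subtype.ext e)
    rwa [map_mul, map_mul, map_mul, map_mul, (kp ⟨v, ZX hv⟩).2 hv, one_mul, map_inv, map_inv,
      inv_eq_of_mul_eq_one_right R2, mul_assoc, mul_assoc, ← mul_assoc (p N)] at this
  have e2 := dih (m := m) (b := p N * p R * (p N)⁻¹) R2 (by rw [conj_mul, R2]; group) (by
    rw [e1, ← map_pow, show O ^ (2 * m + 1) = 1 from Subtype.ext om, map_one])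
  refine ⟨o ^ (m + 1), pow_mem ho _, (eqv (O ^ (m + 1) * N)).1 ?_⟩
  rw [e1] at e2
  rw [map_mul, map_pow]
  exact Eq.trans (by group) e2

end Cfsg.Agent.H29.HtZS
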