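import Cfsg.Agent.H29.CpK

/-!
Project MW2: sufficient conditions for `Lin`.
-/

set_option autoImplicit false

namespace Cfsg.Agent.H29.Lp

open MulAction Cfsg.Agent.H12.RO Cfsg.Agent.H53.MW

universe u

section AM

variable {G V : Type*} [Group G] [Finite G] [AddCommGroup V] [Finite V] [DistribMulAction G V]

theorem cp_pos : 0 < cp G V := commProb_pos _

theorem cp_le_one : cp G V ≤ 1 := commProb_le_one _

/-- AM: the second half of `Lin` from the commuting probability -/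
theorem am_lin {p : ℕ} (h : 2401 * (p : ℚ) ^ 2 ≤ 14400 * (cp G V * ((Nat.card V : ℚ) - 1))) :
    49 * p + 60 ≤ 60 * ko G V := by
  obtain ⟨h1, h2, -⟩ := CpK.am (G := G) (V := V)
  have h3 : (2 : ℚ) ≤ ko G V := by exact_mod_cast h2
  have h4 : (49 * (p : ℚ)) ^ 2 ≤ (60 * ((ko G V : ℚ) - 1)) ^ 2 := by nlinarith
  have h5 := (pow_le_pow_iff_left₀ (by positivity) (by linarith) two_ne_zero).1 h4
  have h6 : 49 * (p : ℚ) + 60 ≤ 60 * ko G V := by linarith
  exact_mod_cast h6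

/-- `|V| ≥ p²` and `cp |V| ≥ p² / 5.9` -/
theorem lin_of_cp2 {p : ℕ} (hp : 11 ≤ p) (hV : p ^ 2 ≤ Nat.card V)
    (h : 10 * (p : ℚ) ^ 2 ≤ 59 * (cp G V * Nat.card V)) : Lin p G V := by
  have hp' : (11 : ℚ) ≤ p := by exact_mod_cast hp
  have hV' : (p : ℚ) ^ 2 ≤ Nat.card V := by exact_mod_cast hV
  have h0 := cp_pos (G := G) (V := V)
  refine ⟨by nlinarith, fun _ => am_lin ?_⟩
  have h1 : (121 : ℚ) ≤ Nat.card V := by nlinarith
  have h2 : 121 * cp G V ≤ cp G V * Nat.card V := by nlinarith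
  nlinarith

/-- `|V| ≥ p³` and `cp |V| ≥ p² / 5.99` -/
theorem lin_of_cp3 {p : ℕ} (hp : 11 ≤ p) (hV : p ^ 3 ≤ Nat.card V)
    (h : 100 * (p : ℚ) ^ 2 ≤ 599 * (cp G V * Nat.card V)) : Lin p G V := by
  have hp' : (11 : ℚ) ≤ p := by exact_mod_cast hp
  have hV' : (p : ℚ) ^ 3 ≤ Nat.card V := by exact_mod_cast hV
  have h0 := cp_pos (G := G) (V := V)
  refine ⟨by nlinarith, fun _ => am_lin ?_⟩
  have h3 : (11 : ℚ) ^ 3 ≤ (p : ℚ) ^ 3 := pow_le_pow_left₀ (by norm_num) hp' 3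
  have h1 : (1331 : ℚ) ≤ Nat.card V := by linarith
  have h2 : 1331 * cp G V ≤ cp G V * Nat.card V := by nlinarith
  nlinarith

end AM

section Pk

variable {G V K W : Type u} [Group G] [Finite G] [Group.IsSolvable G] [AddCommGroup V] [Finite V]
  [Nontrivial V] [DistribMulAction G V] [Field K] [Finite K] [Module K V] [AddCommGroup W]
  [Finite W] [DistribMulAction G W] {σ : G →* RingAut K} {U To E M : Subgroup G} {π : G → W}
  {b : W → W → Kˣ} {e : ℕ}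

omit [Finite G] [Group.IsSolvable G] [Finite V] [Nontrivial V] [Finite K] [Finite W] in
theorem U_le_ker (P : Pk G V K W σ U To E M π b e) : U ≤ σ.ker := fun u hu =>
  P.σM u (P.M_eq ▸ Subgroup.mem_sup_left hu)

omit [Finite G] [Group.IsSolvable G] [Finite V] [Nontrivial V] [Finite K] [Finite W] in
theorem M_le_ker (P : Pk G V K W σ U To E M π b e) : M ≤ σ.ker := P.σM

/-- The class number bound `cls` in `G₀ = ker σ`, for elements given in `G`. -/
theorem cls_ker (O : OrdKit.{u}) (P : Pk G V K W σ U To E M π b e) {ι : Type*} [Fintype ι]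
    (x : ι → G) (hx : ∀ i, σ (x i) = 1) (z : ι → ℕ) (hz : ∀ i, 0 < z i)
    (h1 : ∀ i j (g : G), σ g = 1 → ∀ a ∈ U, g * x i * g⁻¹ = a * x j → i = j)
    (h2 : ∀ i (g : G), σ g = 1 → ∀ a ∈ U, g * x i * g⁻¹ = a * x i → a ^ z i = 1) :
    (∑ i, (1 : ℚ) / z i) * Nat.card U ≤ Nat.card (ConjClasses σ.ker) := by
  obtain ⟨-, -, -, -, -, hc, -⟩ := O.pk G V K W σ U To E M π b e P
  have e1 := Subgroup.subgroupOfEquivOfLe (U_le_ker P)
  have hcyc : IsCyclic (U.subgroupOf σ.ker) := by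
    have := P.cyc
    exact isCyclic_of_surjective e1.symm e1.symm.surjective
  have h := CpK.cls (H := σ.ker) (U.subgroupOf σ.ker)
    (fun a ha => Subgroup.mem_center_iff.2 fun g => Subtype.ext (hc g g.2 a ha).symm.eq) hcyc
    (fun i => ⟨x i, hx i⟩) z hz
    (fun i j g a ha h => h1 i j g g.2 a ha (congrArg Subtype.val h))
    (fun i g a ha h => Subtype.ext (h2 i g g.2 a ha (congrArg Subtype.val h)))
  rw [Nat.card_congr e1.toEquiv] at h
  rw [Finset.sum_mul]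
  refine le_of_eq_of_le (Finset.sum_congr rfl fun i _ => ?_) h
  ring

/-- `cp ≥ c / (f² e² h)` if `k(G₀) ≥ c |U|` -/
theorem cp_ge (O : OrdKit.{u}) (P : Pk G V K W σ U To E M π b e) {c : ℚ}
    (hc : c * Nat.card U ≤ Nat.card (ConjClasses σ.ker)) :
    c ≤ cp G V * (σ.ker.index ^ 2 * e ^ 2 * Nat.card (img σ.ker W) : ℕ) := by
  obtain ⟨-, -, h3, -⟩ := O.pk G V K W σ U To E M π b e P
  have h1 := σ.ker.commProb_subgroup_le
  rw [← (CpK.faith P.faith).2.1, commProb_def', h3] at h1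
  have hu : (0 : ℚ) < Nat.card U := Nat.cast_pos.2 Nat.card_pos
  have he : (0 : ℚ) < e := Nat.cast_pos.2 P.pos
  have hh : (0 : ℚ) < Nat.card (img σ.ker W) := Nat.cast_pos.2 Nat.card_pos
  push_cast at h1 ⊢
  rw [div_le_iff₀ (by positivity)] at h1
  refine le_of_mul_le_mul_right (hc.trans (h1.trans_eq ?_)) hu
  ring

/-- `k(G₀) ≥ |U|` -/
theorem cls_one (O : OrdKit.{u}) (P : Pk G V K W σ U To E M π b e) :
    (1 : ℚ) * Nat.card U ≤ Nat.card (ConjClasses σ.ker) := by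
  have h := cls_ker O P (ι := Unit) (fun _ => 1) (fun _ => map_one σ) (fun _ => 1)
    (fun _ => one_pos) (fun _ _ _ _ _ _ _ => rfl) (fun _ g _ a _ h => by simpa using h.symm)
  simpa using h

/-- the numbers: `|V| = p ^ (F n)`, `|K| = p ^ F`, `1 ≤ f ≤ F`, `e ≤ n` -/
theorem nums (O : OrdKit.{u}) (P : Pk G V K W σ U To E M π b e) {p : ℕ} (hp : p.Prime)
    (hV : ∀ v : V, p • v = 0) : ∃ F, Nat.card K = p ^ F ∧
      Nat.card V = p ^ (F * Module.finrank K V) ∧ σ.ker.index ∣ F ∧ 0 < σ.ker.index ∧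
      σ.ker.index ≤ F ∧ σ.ker.index * e ≤ F * Module.finrank K V := by
  obtain ⟨h1, -, -, h4, -⟩ := O.pk G V K W σ U To E M π b e P
  obtain ⟨F, hF, hd, h0⟩ := h4 p hp hV
  have h5 := Nat.le_of_dvd h0 hd
  exact ⟨F, hF, by rw [h1, hF, pow_mul], hd, Nat.pos_of_ne_zero σ.ker.index_ne_zero_of_finite, h5,
    Nat.mul_le_mul h5 P.le⟩

/-- `lin_of_bound`, case `|V| ≥ p³` -/
theorem lin_of_bound (O : OrdKit.{u}) (P : Pk G V K W σ U To E M π b e) {p : ℕ} (hp : 11 ≤ p)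
    {c : ℚ} (hc : c * Nat.card U ≤ Nat.card (ConjClasses σ.ker)) (hV : p ^ 3 ≤ Nat.card V)
    (h : 100 * (p : ℚ) ^ 2 * (σ.ker.index ^ 2 * e ^ 2 * Nat.card (img σ.ker W) : ℕ) ≤
      599 * c * Nat.card V) : Lin p G V := by
  refine lin_of_cp3 hp hV ?_
  have h1 := cp_ge O P hc
  have h2 : 0 < σ.ker.index ^ 2 * e ^ 2 * Nat.card (img σ.ker W) :=
    Nat.mul_pos (Nat.mul_pos (pow_pos (Nat.pos_of_ne_zero σ.ker.index_ne_zero_of_finite) 2)
      (pow_pos P.pos 2)) Nat.card_pos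
  generalize σ.ker.index ^ 2 * e ^ 2 * Nat.card (img σ.ker W) = D at h h1 h2
  have h3 : (0 : ℚ) < D := Nat.cast_pos.2 h2
  have h4 : (0 : ℚ) ≤ Nat.card V := Nat.cast_nonneg _
  refine le_of_mul_le_mul_right (h.trans ?_) h3
  nlinarith [mul_le_mul_of_nonneg_right h1 h4]

/-- `lin_of_bound`, case `|V| ≥ p²` -/
theorem lin_of_bound2 (O : OrdKit.{u}) (P : Pk G V K W σ U To E M π b e) {p : ℕ} (hp : 11 ≤ p)
    {c : ℚ} (hc : c * Nat.card U ≤ Nat.card (ConjClasses σ.ker)) (hV : p ^ 2 ≤ Nat.card V)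
    (h : 10 * (p : ℚ) ^ 2 * (σ.ker.index ^ 2 * e ^ 2 * Nat.card (img σ.ker W) : ℕ) ≤
      59 * c * Nat.card V) : Lin p G V := by
  refine lin_of_cp2 hp hV ?_
  have h1 := cp_ge O P hc
  have h2 : 0 < σ.ker.index ^ 2 * e ^ 2 * Nat.card (img σ.ker W) :=
    Nat.mul_pos (Nat.mul_pos (pow_pos (Nat.pos_of_ne_zero σ.ker.index_ne_zero_of_finite) 2)
      (pow_pos P.pos 2)) Nat.card_pos
  generalize σ.ker.index ^ 2 * e ^ 2 * Nat.card (img σ.ker W) = D at h h1 h2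
  have h3 : (0 : ℚ) < D := Nat.cast_pos.2 h2
  have h4 : (0 : ℚ) ≤ Nat.card V := Nat.cast_nonneg _
  refine le_of_mul_le_mul_right (h.trans ?_) h3
  nlinarith [mul_le_mul_of_nonneg_right h1 h4]

/-- `lin_of_bound` with a natural number factor and `|V| = p ^ (m + 2)`, `m ≥ 1` -/
theorem lin_of_nat (O : OrdKit.{u}) (P : Pk G V K W σ U To E M π b e) {p : ℕ} (hp : 11 ≤ p)
    {c : ℕ} (hc : (c : ℚ) * Nat.card U ≤ Nat.card (ConjClasses σ.ker)) {m : ℕ} (hm : 1 ≤ m)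
    (hV : Nat.card V = p ^ (m + 2))
    (h : 100 * (σ.ker.index ^ 2 * e ^ 2 * Nat.card (img σ.ker W)) ≤ 599 * c * p ^ m) :
    Lin p G V := by
  refine lin_of_bound O P hp hc (hV ▸ Nat.pow_le_pow_right (by omega) (by omega)) ?_
  rw [hV]
  have h1 := (Nat.cast_le (α := ℚ)).2 (Nat.mul_le_mul_right (p ^ 2) h)
  generalize σ.ker.index ^ 2 * e ^ 2 * Nat.card (img σ.ker W) = D at h1
  push_cast at h1 ⊢
  refine le_of_eq_of_le (by ring) (h1.trans_eq (by ring))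

/-- the symplectic bound for `G₀` -/
theorem h_le_sqf (sq : SqfStmt'.{u}) (P : Pk G V K W σ U To E M π b e) (h2 : 2 ≤ e)
    (hs : Squarefree e) : Nat.card (img σ.ker W) ≤ e * (e ^ 2 - 1) :=
  sq σ.ker W Kˣ b e h2 hs P.card P.b_add_left P.b_add_right P.b_self P.b_nd fun g x y =>
    Units.ext (by
      have := P.b_smul g x y
      rw [show σ g = 1 from g.2] at this
      exact this)

/-- the base size bound for `G₀` -/
theorem h_le_base (O : OrdKit.{u}) (P : Pk G V K W σ U To E M π b e) (h2 : 2 ≤ e) :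
    5 * Nat.card (img σ.ker W) ≤ e ^ 6 := by
  have : Nontrivial W := Finite.one_lt_card_iff_nontrivial.1 (by
    rw [P.card]; nlinarith)
  have h := O.base σ.ker W (O.clifford G W P.cr σ.ker)
  rwa [P.card, ← pow_mul] at h

end Pk

end Cfsg.Agent.H29.Lp
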