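import Cfsg.Agent.H29.LpA

/-!
Project MW2, piece LP1: the primitive case with `e = 1` or `e ≥ 5`.
-/

set_option autoImplicit false

namespace Cfsg.Agent.H29.Lp

open MulAction Cfsg.Agent.H12.RO Cfsg.Agent.H53.MW

universe u

theorem num1 : ∀ m : ℕ, 10 * (m + 2) ^ 2 ≤ 59 * 11 ^ m
  | 0 => by norm_num
  | m + 1 => by
    have := num1 m
    have h1 : (m + 1 + 2) ^ 2 ≤ 11 * (m + 2) ^ 2 := by ring_nf; omega
    rw [pow_succ 11]
    omega

theorem num5 : ∀ f : ℕ, 756000 * (f + 1) ^ 2 ≤ 599 * 11 ^ (5 * f + 3)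
  | 0 => by norm_num
  | f + 1 => by
    have := num5 f
    rw [show 5 * (f + 1) + 3 = 5 * f + 3 + 5 by ring, pow_add 11 _ 5]
    have h1 : (f + 1 + 1) ^ 2 ≤ 11 * (f + 1) ^ 2 := by ring_nf; omega
    omega

theorem num8 : ∀ m : ℕ, 20 * (m + 8) ^ 8 ≤ 599 * 11 ^ (m + 6)
  | 0 => by norm_num
  | m + 1 => by
    have h := num8 m
    have h1 : (8 * (m + 1 + 8)) ^ 8 ≤ (9 * (m + 8)) ^ 8 := Nat.pow_le_pow_left (by omega) 8
    rw [mul_pow, mul_pow] at h1
    rw [show m + 1 + 6 = m + 6 + 1 by ring, pow_succ 11]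
    generalize (m + 1 + 8) ^ 8 = a at h1 ⊢
    generalize (m + 8) ^ 8 = c at h h1
    generalize 11 ^ (m + 6) = d at h ⊢
    omega

/-- **LP1.** -/
theorem lp1 (O : OrdKit.{u}) (sq : SqfStmt'.{u}) : LinP.{u} fun e => e = 1 ∨ 5 ≤ e := by
  intro G V K W _ _ _ _ _ _ _ _ _ _ _ _ _ σ U To E M π b e P he p hp h11 hV
  obtain ⟨F, hK, hVc, -, hf0, hfF, hfe⟩ := nums O P hp hV
  have hn := P.le
  have hc := cls_one O P
  rcases he with rfl | he
  · have hW : Subsingleton W := (Nat.card_eq_one_iff_unique.1 (by rw [P.card]; rfl)).1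
    have hh : Nat.card (img σ.ker W) = 1 := Nat.card_unique
    have hFm : F ≤ F * Module.finrank K V := Nat.le_mul_of_pos_right _ hn
    generalize F * Module.finrank K V = m at hVc hfe hFm
    rcases Nat.lt_or_ge m 2 with hm | hm
    · have h1 : σ.ker.index = 1 := by omega
      have h2 : m = 1 := by omega
      have h3 := cp_ge O P hc
      rw [h1, hh] at h3
      rw [h2, pow_one] at hVc
      refine ⟨?_, fun h => ?_⟩
      · rw [hVc]
        have : (0 : ℚ) ≤ p := Nat.cast_nonneg _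
        norm_num at h3
        nlinarith
      · rw [hVc] at h
        nlinarith
    · obtain ⟨m, rfl⟩ := Nat.exists_eq_add_of_le' hm
      refine lin_of_bound2 O P h11 hc (hVc ▸ Nat.pow_le_pow_right (by omega) (by omega)) ?_
      rw [hh, hVc]
      have h1 : σ.ker.index ^ 2 ≤ (m + 2) ^ 2 := Nat.pow_le_pow_left (by omega) 2
      have h2 : 11 ^ m ≤ p ^ m := Nat.pow_le_pow_left h11 m
      have h3 : 10 * σ.ker.index ^ 2 ≤ 59 * p ^ m := by
        have := num1 m
        omega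
      have h4 := (Nat.cast_le (α := ℚ)).2 (Nat.mul_le_mul_right (p ^ 2) h3)
      push_cast at h4 ⊢
      exact le_of_eq_of_le (by ring) (h4.trans_eq (by ring))
  have hc' : ((1 : ℕ) : ℚ) * Nat.card U ≤ Nat.card (ConjClasses σ.ker) := by
    rwa [Nat.cast_one]
  obtain ⟨f, hf⟩ := Nat.exists_eq_add_of_le' hf0
  rcases Nat.lt_or_ge e 7 with h7 | h7
  · have hh : e ^ 2 * Nat.card (img σ.ker W) ≤ 7560 := by
      have h1 : e = 5 ∨ e = 6 := by omega
      rcases h1 with rfl | rfl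
      · have := h_le_sqf sq P (by norm_num) (Nat.prime_five.prime.squarefree)
        omega
      · have := h_le_sqf sq P (by norm_num) (by
          rw [show 6 = 2 * 3 from rfl, Nat.squarefree_mul (by norm_num)]
          exact ⟨Nat.prime_two.prime.squarefree, Nat.prime_three.prime.squarefree⟩)
        omega
    have h1 : 5 * f + 3 + 2 ≤ F * Module.finrank K V := by
      rw [hf] at hfe
      nlinarith
    obtain ⟨m, hm⟩ := Nat.exists_eq_add_of_le h1
    refine lin_of_nat O P h11 hc' (m := 5 * f + 3 + m) (by omega) (by rw [hVc, hm]; ring_nf) ?_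
    have h2 : 11 ^ (5 * f + 3) ≤ p ^ (5 * f + 3 + m) :=
      (Nat.pow_le_pow_left h11 _).trans (Nat.pow_le_pow_right (by omega) (by omega))
    have h3 := num5 f
    have h4 := Nat.mul_le_mul_left ((f + 1) ^ 2) hh
    rw [hf, mul_assoc, show f + (0 + 1) = f + 1 from rfl]
    omega
  have hh := h_le_base O P (by omega)
  have h1 : 5 * (σ.ker.index ^ 2 * e ^ 2 * Nat.card (img σ.ker W)) ≤
      (F * Module.finrank K V) ^ 8 := by
    calc _ = σ.ker.index ^ 2 * e ^ 2 * (5 * Nat.card (img σ.ker W)) := by ring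
      _ ≤ σ.ker.index ^ 8 * e ^ 2 * e ^ 6 :=
        Nat.mul_le_mul (Nat.mul_le_mul_right _ (Nat.pow_le_pow_right hf0 (by norm_num))) hh
      _ = (σ.ker.index * e) ^ 8 := by ring
      _ ≤ _ := Nat.pow_le_pow_left hfe 8
  have h2 : 7 ≤ F * Module.finrank K V := by nlinarith
  rcases h2.eq_or_lt with h2 | h2
  · have he7 : e = 7 := by nlinarith
    have hF : F = 1 := by nlinarith
    obtain ⟨-, -, -, -, h5, -⟩ := O.pk G V K W σ U To E M π b e P
    have h3 := h5 7 (by norm_num) (he7 ▸ dvd_rfl)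
    rw [hK, hF, pow_one] at h3
    have h4 : 12 ^ 5 ≤ p ^ 5 := Nat.pow_le_pow_left (by omega) 5
    refine lin_of_nat O P h11 hc' (m := 5) (by omega) (by rw [hVc, ← h2]) ?_
    rw [← h2] at h1
    omega
  · obtain ⟨m, hm⟩ := Nat.exists_eq_add_of_le' (show 8 ≤ _ from h2)
    refine lin_of_nat O P h11 hc' (m := m + 6) (by omega) (by rw [hVc, hm]) ?_
    rw [hm] at h1
    have h3 := num8 m
    have h4 : 11 ^ (m + 6) ≤ p ^ (m + 6) := Nat.pow_le_pow_left h11 _
    omega

end Cfsg.Agent.H29.Lp
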