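import Cfsg.Agent.H48.M2Defs

/-! An involution of `JJ` outside `TT` does not centralize the second ark. -/

set_option autoImplicit false

namespace Cfsg.Agent.H48.M2

open Cfsg Subgroup Cfsg.Agent.H48 Cfsg.Agent.H48.Rec Cfsg.Agent.H49 Cfsg.Agent.H95.Par
open Cfsg.Agent.H97.Gr (DD ZZ)
open Cfsg.Agent.H97.Yt (M)

namespace BN

theorem perp_card {A U Z : Subgroup M} {ν : (Fin 10 → ZMod 2) → M}
    {q : QuadraticForm (ZMod 2) (Fin 10 → ZMod 2)} (f : Frm A ν q) (UA : U ≤ A) (ZA : Z ≤ A)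
    (hU : Nat.card U = 16) (hS : Sng U) (h : ∀ u ∈ U, u ≠ 1 → Z ≤ Qz u) : Nat.card Z ≤ 64 := by
  have ν0 : ν 0 = 1 := by simpa using f.add 0 0
  let S : Submodule (ZMod 2) (Fin 10 → ZMod 2) :=
    { carrier := {a | ν a ∈ U}
      add_mem' := fun {a b} ha hb => by
        show ν (a + b) ∈ U
        rw [f.add]; exact mul_mem ha hb
      zero_mem' := by
        show ν 0 ∈ U
        rw [ν0]; exact one_mem _
      smul_mem' := fun c a ha => by
        show ν (c • a) ∈ U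
        rcases (by decide : ∀ c : ZMod 2, c = 0 ∨ c = 1) c with rfl | rfl
        · rw [zero_smul, ν0]; exact one_mem _
        · rwa [one_smul] }
  have c1 : Nat.card S = 16 := by
    rw [← hU]
    refine Nat.card_congr (Equiv.ofBijective (fun a => ⟨ν a.1, a.2⟩) ⟨fun a b e =>
      Subtype.ext (f.inj (congrArg Subtype.val e)), fun u => ?_⟩)
    obtain ⟨a, ha⟩ := (f.mem _).1 (UA u.2)
    exact ⟨⟨a, show ν a ∈ U from ha ▸ u.2⟩, Subtype.ext ha⟩
  rw [Module.natCard_eq_pow_finrank (K := ZMod 2), Nat.card_zmod] at c1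
  have c2 : Module.finrank (ZMod 2) S = 4 :=
    Nat.pow_right_injective le_rfl (c1.trans (by norm_num))
  have c3 := LinearMap.BilinForm.finrank_orthogonal f.nd S
  rw [c2, Module.finrank_fin_fun] at c3
  have c4 := Module.natCard_eq_pow_finrank (K := ZMod 2)
    (V := LinearMap.BilinForm.orthogonal (QuadraticMap.polarBilin q) S)
  rw [c3, Nat.card_zmod] at c4
  choose g hg using fun z : Z => (f.mem _).1 (ZA z.2)
  refine le_of_le_of_eq (Nat.card_le_card_of_injective (fun z : Z =>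
    (⟨g z, fun a ha => ?_⟩ : LinearMap.BilinForm.orthogonal (QuadraticMap.polarBilin q) S))
    fun z z' e => Subtype.ext ?_) c4
  · by_cases h1 : ν a = 1
    · rw [f.inj (h1.trans ν0.symm), map_zero, LinearMap.zero_apply]
    · exact (f.perp a (hS _ ha h1).1 _).1 (hg z ▸ h _ ha h1 z.2)
  · rw [← hg z, ← hg z', show g z = g z' from congrArg Subtype.val e]

end BN

theorem bn_of (bu : BuStmt) (bc : BcStmt) (bd : BdStmt) (ta : TaStmt) (tr2 : Tr2Stmt)
    (tr4 : Tr4Stmt) (idx : IdxStmt) (form : FormStmt) (pf : PfStmt) : BnStmt := by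
  intro w w' y h l hy
  obtain ⟨s1, j1, c0, u1, u2, sg, u3, -⟩ := bu w w' h
  obtain ⟨-, -, -, -, v2, -⟩ := bu w' w h.symm
  rw [U0_comm] at v2
  obtain ⟨-, -, t1, t2, -⟩ := ta w w' h.t1
  obtain ⟨-, -, -, t3, -⟩ := ta w' w h.t2
  have p2 := pf _ h.t2.ark
  have cA : Ak w' w ≤ CP (Ak w w') := fun a ha x hx => bc w w' h x (mem_sup_left hx) a (mem_sup_left ha)
  have sy : Sp (Ak w w') w y :=
    ⟨mem_sup_left l.mem.1, j1 l.mem, l.sq, fun e => l.out ⟨l.mem, mem_sup_left e⟩⟩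
  have h4 := tr4 _ _ w w' y h.t1.ark t2 h.z1 s1 sy (mem_centralizer_singleton_iff.1 l.mem.2).symm
    (fun e => l.out ⟨l.mem, by
      simpa using mul_mem (inv_mem (mem_sup_right (mem_zpowers w')))
        (mem_sup_left e : _ ∈ Ak w w' ⊔ zpowers w')⟩) cA fun k hk => ⟨p2.el.cm hk t3, hy k hk⟩
  obtain ⟨ν, q, f⟩ := form _ h.t2.ark
  have h5 := BN.perp_card (Z := Ak w' w ⊓ (Qz w ⊔ Ak w w')) f v2 inf_le_left c0 sg
    fun u hu u0 a ha => by
      have d := ((bd w w' h).2 u hu u0).2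
      by_cases a1 : a ∈ Ak w w'
      · exact d ⟨a1, ha.1⟩
      by_cases a2 : w' * a ∈ Ak w w'
      · exact (mul_mem_cancel_left (u3 u hu u0).2).1 (d ⟨a2, mul_mem t3 ha.1⟩)
      exfalso
      have c8 := tr2 _ w w' a h.t1.ark t2 h.z1 s1 ⟨ha.2, cA ha.1, p2.el a ha.1, a1⟩
        (p2.el.cm t3 ha.1) a2
      obtain ⟨N, hN, -, cN⟩ := idx _ _ h.t2.ark v2 sg a fun _ _ _ => mem_sup_right ha.1
      have le : N ≤ Us (Ak w w') w' ⊓ Us (Ak w w') a := fun x hx => by
        obtain ⟨x1, x2⟩ := (hN x).1 hx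
        refine ⟨u1 x1, ?_⟩
        by_cases x0 : x = 1
        · rw [x0]; exact one_mem _
        · exact subset_closure ⟨u2 x1, (sg x x1 x0).1, mem_sup_left (x2.resolve_left x0)⟩
      have e := eq_of_le_of_card_ge le (by omega)
      have wN : w ∈ N := e ▸ ⟨subset_closure ⟨t2, h.z1, s1.qa⟩, subset_closure ⟨t2, h.z1, ha.2⟩⟩
      exact t1 (u3 w ((hN w).1 wN).1 (ZZ_ne h.z1)).2
  rw [p2.card] at h4
  omega

end Cfsg.Agent.H48.M2
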