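import Cfsg.Agent.H29.CpK
import Cfsg.Agent.H72.MWLandau
import Cfsg.Agent.H53.MWOrd
import Cfsg.Agent.H3.Fitting

/-!
Project MW2, piece 4190: `k(G) ≥ p / (3 log₂ p)` if `p` divides `|G : F(G)|`.
-/

set_option autoImplicit false

namespace Cfsg.Agent.H29.M4190

open MulAction Cfsg.Agent.H12.RO Cfsg.Agent.H53.MW Polynomial

universe u

theorem num6 : ∀ d : ℕ, (d + 9) ^ 6 ≤ 450 ^ 3 * 2 ^ d
  | 0 => by norm_num
  | d + 1 => by
    have h := num6 d
    have h1 : (9 * (d + 1 + 9)) ^ 6 ≤ (10 * (d + 9)) ^ 6 := Nat.pow_le_pow_left (by omega) 6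
    rw [mul_pow, mul_pow] at h1
    rw [pow_succ 2]
    generalize (d + 1 + 9) ^ 6 = a at h1 ⊢
    generalize (d + 9) ^ 6 = c at h h1
    generalize 2 ^ d = e at h ⊢
    omega

theorem num_main {p d k : ℕ} (hd : 0 < d) (h1 : p ^ 3 < 2 ^ d) (h2 : 2 * 2 ^ d ≤ k ^ 2 * d ^ 2) :
    p ≤ 15 * k := by
  have h3 : d ^ 6 ≤ 450 ^ 3 * 2 ^ d := (Nat.pow_le_pow_left (by omega) 6).trans (num6 d)
  have h4 : (p ^ 2 * d ^ 2) ^ 3 ≤ (450 * 2 ^ d) ^ 3 := by
    calc (p ^ 2 * d ^ 2) ^ 3 = (p ^ 3) ^ 2 * d ^ 6 := by ring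
      _ ≤ (2 ^ d) ^ 2 * (450 ^ 3 * 2 ^ d) := Nat.mul_le_mul (Nat.pow_le_pow_left h1.le 2) h3
      _ = _ := by ring
  have h5 := (Nat.pow_le_pow_iff_left (by norm_num)).1 h4
  have h6 : p ^ 2 * d ^ 2 ≤ (15 * k) ^ 2 * d ^ 2 := by nlinarith
  exact (Nat.pow_le_pow_iff_left two_ne_zero).1 (Nat.le_of_mul_le_mul_right h6 (pow_pos hd 2))

section Deg

variable {H N : Type*} [Group H] [Finite H] [AddCommGroup N] [Finite N] [Nontrivial N]
  [DistribMulAction H N]

omit [Finite H] [Finite N] [Nontrivial N] in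
theorem aeval_conj (g z : H) (m : ℤ[X]) (v : N) :
    aeval (DistribMulAction.toModuleEnd ℤ N (g * z * g⁻¹)) m (g • v) =
      g • aeval (DistribMulAction.toModuleEnd ℤ N z) m v := by
  induction m using Polynomial.induction_on' with
  | add a b ha hb => simp only [map_add, LinearMap.add_apply, ha, hb, smul_add]
  | monomial n c =>
    rw [aeval_monomial, aeval_monomial, ← map_pow, ← map_pow, conj_pow]
    change c • (g * z ^ n * g⁻¹) • g • v = g • c • z ^ n • v
    rw [mul_smul, mul_smul, inv_smul_smul]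
    exact (map_zsmul (DistribSMul.toAddMonoidHom N g) c _).symm

/-- a monic polynomial killing `z` has at least as many roots as `z` has conjugates -/
theorem index_le_natDegree {p : ℕ} (hp : p.Prime) {z : H} (hz : z ^ p = 1)
    (hn : ∀ g : H, ∃ i : ℕ, g * z * g⁻¹ = z ^ i) (hfpf : ∀ v : N, z • v = v → v = 0) {m : ℤ[X]}
    (hm : m.Monic) (h0 : aeval (DistribMulAction.toModuleEnd ℤ N z) m = 0) :
    (Subgroup.centralizer {z}).index ≤ m.natDegree := by
  classical
  let T := DistribMulAction.toModuleEnd ℤ N z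
  let φ : ℤ[X] →+* Module.End ℤ N := (aeval T).toRingHom
  obtain ⟨I, hI, hle⟩ := Ideal.exists_le_maximal (RingHom.ker φ) (RingHom.ker_ne_top φ)
  letI := Ideal.Quotient.field I
  let ζ : ℤ[X] ⧸ I := Ideal.Quotient.mk I X
  have key : ∀ f : ℤ[X], aeval T f = 0 → aeval ζ f = 0 := by
    intro f hf
    have h1 : aeval ζ f = Ideal.Quotient.mk I f := by
      have := aeval_algHom_apply (Ideal.Quotient.mkₐ ℤ I) X f
      rwa [aeval_X_left_apply] at this
    rw [h1, Ideal.Quotient.eq_zero_iff_mem]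
    exact hle hf
  have hζp : ζ ^ p = 1 := by
    have := key (X ^ p - 1) (by
      rw [map_sub, map_pow, aeval_X, map_one, ← map_pow, hz, map_one, sub_self])
    rwa [map_sub, map_pow, aeval_X, map_one, sub_eq_zero] at this
  have hζ1 : ζ ≠ 1 := by
    intro h
    have hu : IsUnit (T - 1) := by
      rw [Module.End.isUnit_iff]
      refine Finite.injective_iff_bijective.1 ((injective_iff_map_eq_zero _).2 fun v hv => ?_)
      exact hfpf v (sub_eq_zero.1 hv)
    obtain ⟨w, hw⟩ := hu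
    have : Finite (Module.End ℤ N) := DFunLike.finite _
    have h1 : (T - 1) ^ Nat.card (Module.End ℤ N)ˣ = 1 := by
      rw [← hw, ← Units.val_pow_eq_pow_val, pow_card_eq_one', Units.val_one]
    have := key ((X - 1) ^ Nat.card (Module.End ℤ N)ˣ - 1) (by
      rw [map_sub, map_pow, map_sub, aeval_X, map_one, h1, sub_self])
    rw [map_sub, map_pow, map_sub, aeval_X, map_one, h, sub_self, zero_pow Nat.card_pos.ne',
      zero_sub, neg_eq_zero] at this
    exact one_ne_zero this
  haveI := Fact.mk hp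
  have hord : orderOf ζ = p := orderOf_eq_prime hζp hζ1
  choose i hi using hn
  have hm' : m.map (algebraMap ℤ (ℤ[X] ⧸ I)) ≠ 0 := (hm.map _).ne_zero
  have hroot : ∀ g : H, ζ ^ i g ∈ (m.aroots (ℤ[X] ⧸ I)).toFinset := by
    intro g
    rw [Multiset.mem_toFinset, mem_aroots']
    refine ⟨hm', ?_⟩
    have := key (m.comp (X ^ i g)) (by
      rw [aeval_comp, map_pow, aeval_X, ← map_pow, ← hi]
      ext v
      have h1 := aeval_conj g z m (g⁻¹ • v)
      rw [smul_inv_smul, h0] at h1
      rw [h1]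
      exact smul_zero g)
    rwa [aeval_comp, map_pow, aeval_X] at this
  have hinj : Function.Injective fun q : H ⧸ Subgroup.centralizer {z} =>
      (⟨ζ ^ i q.out, hroot _⟩ : (m.aroots (ℤ[X] ⧸ I)).toFinset) := by
    intro q q' e
    have h1 : ζ ^ i q.out = ζ ^ i q'.out := congrArg Subtype.val e
    rw [(isOfFinOrder_iff_pow_eq_one.2 ⟨p, hp.pos, hζp⟩).pow_eq_pow_iff_modEq, hord] at h1
    have h2 : z ^ i q.out = z ^ i q'.out :=
      pow_eq_pow_iff_modEq.2 (h1.of_dvd (orderOf_dvd_of_pow_eq_one hz))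
    rw [← hi, ← hi] at h2
    rw [← q.out_eq, ← q'.out_eq]
    refine QuotientGroup.eq.2 (Subgroup.mem_centralizer_singleton_iff.2 ?_)
    calc q.out⁻¹ * q'.out * z = q.out⁻¹ * (q'.out * z * q'.out⁻¹) * q'.out := by group
      _ = _ := by rw [← h2]; group
  have h1 := Nat.card_le_card_of_injective _ hinj
  rw [Nat.card_eq_fintype_card (α := (m.aroots (ℤ[X] ⧸ I)).toFinset), Fintype.card_coe] at h1
  exact h1.trans ((Multiset.toFinset_card_le _).trans ((card_roots' _).trans natDegree_map_le))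

end Deg

theorem logb_ge {p : ℕ} (hp : 32 ≤ p) : (15 : ℝ) ≤ 3 * Real.logb 2 p := by
  have h : (5 : ℝ) ≤ Real.logb 2 p := by
    rw [Real.le_logb_iff_rpow_le (by norm_num) (by positivity)]
    norm_num
    exact hp
  linarith

/-- the faithful irreducible case -/
theorem core (Z : LinZStmt'.{u}) {H N : Type u} [Group H] [Finite H] [Group.IsSolvable H]
    [AddCommGroup N] [Finite N] [DistribMulAction H N] (hf : ∀ g : H, (∀ x : N, g • x = x) → g = 1)
    (hirr : Irr H N) {r : ℕ} (hr : r.Prime) (hrN : ∀ v : N, r • v = 0) {p : ℕ} (hp : p.Prime)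
    (h53 : 53 ≤ p) {z : H} (hz : z ^ p = 1) (hz1 : z ≠ 1)
    (hn : ∀ g : H, ∃ i : ℕ, g * z * g⁻¹ = z ^ i) :
    (p : ℝ) / (3 * Real.logb 2 p) + 1 ≤ ko H N := by
  haveI := Fact.mk hp
  have hlog := logb_ge (p := p) (by omega)
  have hpos : 0 < 3 * Real.logb 2 p := by linarith
  let C := Subgroup.centralizer ({z} : Set H)
  have hzC : z ∈ C := Subgroup.mem_centralizer_singleton_iff.2 rfl
  have hzc : (⟨z, hzC⟩ : C) ∈ Subgroup.center C := Subgroup.mem_center_iff.2 fun g =>
    Subtype.ext (Subgroup.mem_centralizer_singleton_iff.1 g.2)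
  rcases le_or_gt (C.index : ℝ) (3 * Real.logb 2 p) with hd | hd
  · have h1 := CpK.cls (H := C) (Subgroup.zpowers ⟨z, hzC⟩) (Subgroup.zpowers_le.2 hzc)
      inferInstance (ι := Unit) (fun _ => 1) (fun _ => 1) (fun _ => one_pos)
      (fun _ _ _ _ _ _ => rfl) (fun _ g a _ h => by simpa using h.symm)
    have h2 : orderOf (⟨z, hzC⟩ : C) = p :=
      orderOf_eq_prime (Subtype.ext hz) fun h => hz1 (congrArg Subtype.val h)
    rw [Nat.card_zpowers, h2] at h1
    have h3 : p ≤ Nat.card (ConjClasses C) := by simpa using h1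
    have h4 := h3.trans (Cfsg.Agent.H93.card_conjClasses_subgroup_le C)
    have h5 : (p : ℝ) ≤ C.index * Nat.card (ConjClasses H) := by exact_mod_cast h4
    have : Nonempty (orbitRel.Quotient H N) := ⟨Quotient.mk _ 0⟩
    have h6 : (1 : ℝ) ≤ Nat.card (orbitRel.Quotient H N) := by
      exact_mod_cast (Nat.card_pos : 0 < Nat.card (orbitRel.Quotient H N))
    rw [(CpK.faith hf).2.2, Nat.cast_add]
    refine add_le_add ?_ h6
    rw [div_le_iff₀ hpos]
    nlinarith [(Nat.cast_nonneg _ : (0 : ℝ) ≤ Nat.card (ConjClasses H))]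
  have hCn : C.Normal := ⟨fun c hc g => by
    obtain ⟨i, hi⟩ := hn g⁻¹
    have h1 : Commute c (z ^ i) :=
      Commute.pow_right (Subgroup.mem_centralizer_singleton_iff.1 hc) i
    rw [← hi] at h1
    refine Subgroup.mem_centralizer_singleton_iff.2 ?_
    calc g * c * g⁻¹ * z = g * (c * (g⁻¹ * z * g⁻¹⁻¹)) * g⁻¹ := by group
      _ = _ := by rw [h1.eq]; group⟩
  have hfpf : ∀ v : N, z • v = v → v = 0 := by
    let A : AddSubgroup N :=
      { carrier := {v | z • v = v}
        add_mem' := fun {a b} ha hb => by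
          change z • (a + b) = a + b
          rw [smul_add, ha, hb]
        zero_mem' := smul_zero z
        neg_mem' := fun {a} ha => by
          change z • -a = -a
          rw [smul_neg, ha] }
    have hA : Inv H A := fun g v hv => by
      obtain ⟨i, hi⟩ := hn g⁻¹
      have h1 : z ^ i • v = v := (stabilizer H v).pow_mem hv i
      change z • g • v = g • v
      rw [← hi, inv_inv, mul_smul, mul_smul, inv_smul_eq_iff] at h1
      exact h1
    rcases hirr A hA with h | h
    · intro v hv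
      exact AddSubgroup.mem_bot.1 (h ▸ (hv : v ∈ A))
    · exact absurd (hf z fun x => (h ▸ AddSubgroup.mem_top x : x ∈ A)) hz1
  have : Nontrivial N := by
    by_contra h
    rw [not_nontrivial_iff_subsingleton] at h
    exact hz1 (hf z fun x => Subsingleton.elim _ _)
  obtain ⟨-, m, hm, hm0, hm2⟩ := Z p hp h53 r hr C N (clifford hirr.cr C) hrN ⟨z, hzC⟩ hzc
    (Subtype.ext hz) hfpf
  have h1 : C.index ≤ m.natDegree := index_le_natDegree hp hz hn hfpf hm hm0
  have h2 := CpK.sub (V := N) C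
  obtain ⟨h3, h4, -⟩ := CpK.am (G := H) (V := N)
  have h5 : (2 : ℚ) ≤ Nat.card N := by exact_mod_cast (Finite.one_lt_card : 1 < Nat.card N)
  have h6 : p ^ 3 < 2 ^ C.index := by
    have h7 : Real.logb 2 ((p : ℝ) ^ 3) < C.index := by
      rw [Real.logb_pow]
      exact_mod_cast hd
    rw [Real.logb_lt_iff_lt_rpow (by norm_num) (by positivity), Real.rpow_natCast] at h7
    exact_mod_cast h7
  obtain ⟨k, hk⟩ : ∃ k, ko H N = k + 1 := ⟨ko H N - 1, by omega⟩
  have h7 : 2 * 2 ^ C.index ≤ k ^ 2 * C.index ^ 2 := by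
    have h8 : (2 : ℚ) ^ C.index ≤ 2 ^ m.natDegree := pow_le_pow_right₀ (by norm_num) h1
    have h9 : 0 < cp H N := commProb_pos _
    rw [hk, Nat.cast_add, Nat.cast_one, add_sub_cancel_right] at h3
    have h10 : 2 * (cp H N * Nat.card N) ≤ (k : ℚ) ^ 2 := by nlinarith
    have h11 : (2 : ℚ) * 2 ^ C.index ≤ k ^ 2 * C.index ^ 2 := by
      calc (2 : ℚ) * 2 ^ C.index ≤ 2 * (cp H N * (C.index : ℚ) ^ 2 * Nat.card N) :=
            mul_le_mul_of_nonneg_left ((h8.trans hm2).trans
              (mul_le_mul_of_nonneg_right h2 (Nat.cast_nonneg _))) (by norm_num)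
        _ = 2 * (cp H N * Nat.card N) * (C.index : ℚ) ^ 2 := by ring
        _ ≤ _ := mul_le_mul_of_nonneg_right h10 (by positivity)
    exact_mod_cast h11
  have h8 := num_main (Nat.pos_of_ne_zero C.index_ne_zero_of_finite) h6 h7
  have h9 : (p : ℝ) ≤ 15 * k := by exact_mod_cast h8
  rw [hk, Nat.cast_add, Nat.cast_one]
  refine add_le_add ?_ le_rfl
  rw [div_le_iff₀ hpos]
  nlinarith [(Nat.cast_nonneg _ : (0 : ℝ) ≤ k)]

/-- in a nilpotent group with Sylow `p`-subgroups of order `p` all elements of order `p` are powers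
of each other -/
theorem mem_zpowers_of_nilpotent {F : Type*} [Group F] [Finite F] [Group.IsNilpotent F] {p : ℕ}
    (hp : p.Prime) (h2 : ¬ p ^ 2 ∣ Nat.card F) {a b : F} (ha : a ^ p = 1) (hb : b ^ p = 1)
    (ha1 : a ≠ 1) : b ∈ Subgroup.zpowers a := by
  haveI := Fact.mk hp
  have hP : ∀ x : F, x ^ p = 1 → IsPGroup p (Subgroup.zpowers x) := fun x hx y =>
    ⟨1, by
      obtain ⟨_, k, rfl⟩ := y
      refine Subtype.ext ?_
      change (x ^ k) ^ p ^ 1 = 1
      rw [pow_one, ← zpow_natCast, ← zpow_mul, mul_comm, zpow_mul, zpow_natCast, hx, one_zpow]⟩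
  obtain ⟨P, hPa⟩ := (hP a ha).exists_le_sylow
  obtain ⟨Q, hQb⟩ := (hP b hb).exists_le_sylow
  have hn : (P : Subgroup F).Normal :=
    P.normal_of_normalizerCondition Group.normalizerCondition_of_isNilpotent
  have := Sylow.unique_of_normal P hn
  obtain rfl : P = Q := Subsingleton.elim _ _
  obtain ⟨k, hk⟩ := IsPGroup.iff_card.1 P.isPGroup'
  have h1 : k ≤ 1 := by
    by_contra h
    exact h2 ((pow_dvd_pow p (by omega)).trans (hk ▸ Subgroup.card_subgroup_dvd_card _))
  have h3 : Subgroup.zpowers a = P := by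
    refine Subgroup.eq_of_le_of_card_ge hPa ?_
    rw [Nat.card_zpowers, orderOf_eq_prime ha ha1, hk]
    exact (Nat.pow_le_pow_right hp.pos h1).trans_eq (pow_one p)
  exact h3 ▸ hQb (Subgroup.mem_zpowers b)

theorem small {p : ℕ} (hp : p.Prime) (h : p < 53) : (p : ℝ) / (3 * Real.logb 2 p) ≤ 3 := by
  have h2 := hp.two_le
  have h1 : 2 ^ p ≤ p ^ 9 := by
    interval_cases p <;> first | (norm_num; done) | norm_num at hp
  have h3 : (2 : ℝ) ≤ p := by exact_mod_cast h2
  have h4 : (p : ℝ) ≤ Real.logb 2 ((p : ℝ) ^ 9) := by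
    rw [Real.le_logb_iff_rpow_le (by norm_num) (by positivity), Real.rpow_natCast]
    exact_mod_cast h1
  rw [Real.logb_pow] at h4
  have h5 : 0 < Real.logb 2 p := Real.logb_pos (by norm_num) (by linarith)
  rw [div_le_iff₀ (by positivity)]
  push_cast at h4
  linarith

/-- **S4190** from the class number bound and the linear statement. -/
theorem s4190 (hk : HKStmt.{u}) (Z : LinZStmt'.{u}) (G : Type u) [Group G] [Finite G]
    [Group.IsSolvable G] {p : ℕ} (hp : p.Prime) (hG : p ∣ (fittingSubgroup G).index) :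
    (p : ℝ) / (3 * Real.logb 2 p) ≤ Nat.card (ConjClasses G) := by
  haveI := Fact.mk hp
  induction hn : Nat.card G using Nat.strong_induction_on generalizing G with
  | _ n ih =>
  have hF : ∀ N : Subgroup G, N.Normal → (∀ a ∈ N, ∀ b ∈ N, a * b = b * a) →
      N ≤ fittingSubgroup G := fun N hN hc => by
    haveI : IsMulCommutative N := ⟨⟨fun a b => Subtype.ext (hc a a.2 b b.2)⟩⟩
    exact H3.le_fitting_of_isMulCommutative
  rcases Nat.lt_or_ge p 53 with h53 | h53
  · refine (small hp h53).trans ?_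
    have h1 : 3 ≤ Nat.card (ConjClasses G) := by
      by_contra h
      have h2 := (H72.MW.landau G).1 (by omega)
      have h3 : IsCyclic G := by
        have h4 : 0 < Nat.card G := Nat.card_pos
        have h5 : Nat.card G = 1 ∨ Nat.card G = 2 := by omega
        rcases h5 with h5 | h5
        · have := (Nat.card_eq_one_iff_unique.1 h5).1
          infer_instance
        · exact isCyclic_of_prime_card h5
      have h4 := hF ⊤ inferInstance fun a _ b _ => h3.isMulCommutative.is_comm.comm a b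
      rw [top_le_iff.1 h4, Subgroup.index_top, Nat.dvd_one] at hG
      exact hp.ne_one hG
    exact_mod_cast h1
  have hlog := logb_ge (p := p) (by omega)
  by_cases h2 : p ^ 2 ∣ Nat.card G
  · have h1 : (49 : ℝ) * p ≤ 60 * Nat.card (ConjClasses G) := by exact_mod_cast hk G p hp h2
    rw [div_le_iff₀ (by linarith)]
    nlinarith [(Nat.cast_nonneg _ : (0 : ℝ) ≤ Nat.card (ConjClasses G))]
  obtain ⟨z, hz⟩ := exists_prime_orderOf_dvd_card' p (hG.trans (fittingSubgroup G).index_dvd_card)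
  have hzp : z ^ p = 1 := hz ▸ pow_orderOf_eq_one z
  have hzF : z ∉ fittingSubgroup G := fun h => h2 (by
    rw [← (fittingSubgroup G).card_mul_index, sq]
    exact Nat.mul_dvd_mul (hz ▸ Subgroup.orderOf_dvd_natCard _ h) hG)
  have hbt : (⊥ : Subgroup G) < ⊤ := bot_lt_iff_ne_bot.2 fun h =>
    hzF ((h.le.trans bot_le) (Subgroup.mem_top z))
  obtain ⟨M, hMn, hM0, -, hmin⟩ := exists_chief_above hbt
  obtain ⟨hab, r, hr, hexp, -⟩ := chief_elem hM0 hmin
  by_cases hq : p ∣ (fittingSubgroup (G ⧸ M)).index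
  · have h1 : Nat.card (G ⧸ M) < n := by
      rw [← hn, ← M.card_mul_index]
      have h2 : 1 < Nat.card M := (Subgroup.one_lt_card_iff_ne_bot M).2 hM0.ne'
      have h3 : 0 < M.index := Nat.pos_of_ne_zero Subgroup.index_ne_zero_of_finite
      change M.index < _
      nlinarith
    refine (ih _ h1 (G ⧸ M) hq rfl).trans (Nat.cast_le.2 ?_)
    exact Nat.card_le_card_of_surjective _
      (ConjClasses.map_surjective (QuotientGroup.mk'_surjective M))
  let f := QuotientGroup.mk' M
  have hfn := H3.fitting_normal (G ⧸ M)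
  have hfz : f z ∈ fittingSubgroup (G ⧸ M) := by
    have h1 := (fittingSubgroup (G ⧸ M)).pow_index_mem (f z)
    refine (Subgroup.zpowers_le.2 h1) (mem_zpowers_pow_iff.2 ?_)
    refine Nat.Coprime.coprime_dvd_right (orderOf_dvd_of_pow_eq_one (n := p) ?_)
      ((Nat.Prime.coprime_iff_not_dvd hp).2 hq).symm
    rw [← map_pow, hzp, map_one]
  have hconj : ∀ g : G, f (g * z * g⁻¹) ∈ Subgroup.zpowers (f z) := by
    intro g
    by_cases h1 : f z = 1
    · rw [map_mul, map_mul, h1, mul_one, ← map_mul, mul_inv_cancel, map_one]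
      exact Subgroup.one_mem _
    have := H3.fitting_isNilpotent (G ⧸ M)
    obtain ⟨k, hk⟩ := mem_zpowers_of_nilpotent (F := fittingSubgroup (G ⧸ M)) hp
      (fun h => h2 (h.trans ((Subgroup.card_subgroup_dvd_card _).trans M.card_quotient_dvd_card)))
      (a := ⟨f z, hfz⟩) (b := ⟨f g * f z * (f g)⁻¹, hfn.conj_mem _ hfz _⟩)
      (Subtype.ext (by
        change f z ^ p = 1
        rw [← map_pow, hzp, map_one]))
      (Subtype.ext (by
        change (f g * f z * (f g)⁻¹) ^ p = 1
        rw [conj_pow, ← map_pow, hzp, map_one, mul_one, mul_inv_cancel]))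
      fun h => h1 (congrArg Subtype.val h)
    exact ⟨k, by rw [map_mul, map_mul, map_inv]; exact congrArg Subtype.val hk⟩
  obtain ⟨N, _, _, π, S⟩ := exists_sec ⊥ M hab
  haveI := S.finite
  let ρ := DistribMulAction.toModuleAut ℤ N (S := G)
  have hfin : Finite ρ.range := Finite.of_surjective _ ρ.rangeRestrict_surjective
  have hsol : Group.IsSolvable ρ.range :=
    Group.isSolvable_of_surjective ρ.rangeRestrict_surjective
  have hirr : Irr ρ.range N := fun U hU =>
    S.irr bot_le hmin U fun g v hv => hU (ρ.rangeRestrict g) v hv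
  have hMρ : ∀ a ∈ M, ρ.rangeRestrict a = 1 := fun a ha =>
    Subtype.ext (LinearEquiv.ext (S.smul_of_mem ha))
  have hMc : ∀ a ∈ M, ∀ b ∈ M, Commute a b := fun a ha b hb =>
    commutatorElement_eq_one_iff_commute.1 (hab (Subgroup.commutator_mem_commutator ha hb))
  have h1 := core Z (H := ρ.range) (N := N) (fun g hg => Subtype.ext (LinearEquiv.ext hg)) hirr hr
    (fun v => by
      obtain ⟨a, ha, rfl⟩ := S.surj v
      rw [← S.pow ha, Subgroup.mem_bot.1 (hexp a ha), S.one]) hp h53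
    (z := ρ.rangeRestrict z) (by rw [← map_pow, hzp, map_one]) ?_ ?_
  · rw [← (CpK.quot ρ.rangeRestrict ρ.rangeRestrict_surjective fun _ _ => rfl).2.2] at h1
    have h3 : (ko G N : ℝ) ≤ Nat.card (ConjClasses G) + 1 := by
      exact_mod_cast CpK.sec ⊥ M π S
    linarith
  · intro h
    have hzM : ∀ a ∈ M, Commute z a := fun a ha => by
      have h3 : z • π a = π a := LinearEquiv.ext_iff.1 (congrArg Subtype.val h) (π a)
      rw [← S.conj z a ha, S.eq_iff (hMn.conj_mem a ha z) ha, Subgroup.mem_bot,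
        inv_mul_eq_one, mul_inv_eq_iff_eq_mul] at h3
      exact h3
    have hmem : ∀ a ∈ (Subgroup.zpowers (f z)).comap f, ∃ k : ℤ, ∃ m ∈ M, a = z ^ k * m := by
      rintro a ⟨k, hk⟩
      refine ⟨k, (z ^ k)⁻¹ * a, QuotientGroup.eq.1 ?_, by group⟩
      exact (map_zpow f z k).trans hk
    refine hzF (hF ((Subgroup.zpowers (f z)).comap f) ⟨fun a ha g => ?_⟩ (fun a ha b hb => ?_)
      (Subgroup.mem_zpowers _))
    · obtain ⟨k, hk⟩ := ha
      have h3 := (Subgroup.zpowers (f z)).zpow_mem (hconj g) k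
      have h4 : f z ^ k = f a := hk
      rw [map_mul, map_mul, map_inv, conj_zpow, h4, ← map_inv, ← map_mul, ← map_mul] at h3
      exact h3
    · obtain ⟨k, m, hm, rfl⟩ := hmem a ha
      obtain ⟨l, m', hm', rfl⟩ := hmem b hb
      exact (((Commute.refl z).zpow_zpow k l).mul_right ((hzM m' hm').zpow_left k)).mul_left
        (((hzM m hm).zpow_left l).symm.mul_right (hMc m hm m' hm'))
  · intro g
    obtain ⟨g, rfl⟩ := ρ.rangeRestrict_surjective g
    obtain ⟨i, hi⟩ := (mem_powers_iff_mem_zpowers.2 (hconj g))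
    have h3 : (z ^ i)⁻¹ * (g * z * g⁻¹) ∈ M := QuotientGroup.eq.1 ((map_pow f z i).trans hi)
    have h4 := hMρ _ h3
    rw [map_mul, map_inv, inv_mul_eq_one, map_pow, map_mul, map_mul, map_inv] at h4
    exact ⟨i, h4.symm⟩

end Cfsg.Agent.H29.M4190
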