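import Cfsg.Agent.H29.LpB
import Cfsg.Agent.H29.M4190
import Cfsg.Agent.H28.MwL
import Cfsg.Agent.H28.MwS
import Cfsg.Agent.H72.MWLP2
import Cfsg.Agent.H72.MWHK
import Cfsg.Agent.H49.MwL1
import Cfsg.Agent.H49.MwZ1
import Cfsg.Agent.H53.MWPk
import Cfsg.Agent.H53.MWOrd

/-!
Project MW2: the unconditional statements.
-/

set_option autoImplicit false

namespace Cfsg.Agent.H29.MwAll

open Cfsg.Agent.H53.MW

universe u

theorem linAll : LinStmt.{u} :=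
  H28.MwL.lin pk CpK.cpKit ordKit (Lp.lp1 ordKit H28.MwS.sqf) (H72.MW.lp2 CpK.cpKit ordKit)
    (H49.MwL.linP34 CpK.cpKit ordKit H28.MwS.sqf (H28.MwS.ord16 pk ordKit))

theorem hkAll : HKStmt.{u} := H72.MW.hk CpK.cpKit linAll

theorem linZAll : LinZStmt'.{u} := H49.MwZ.linZ pk CpK.cpKit ordKit

end Cfsg.Agent.H29.MwAll
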