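import Cfsg.Agent.H53.FMDefs
import Cfsg.Agent.S2981
import Cfsg.Agent.H6.ZJe
import Cfsg.Agent.H51.QdInv
import Cfsg.Agent.H85.Minimal

/-! Project FPM, step M8: a group of characteristic `p` (odd) in which `C(Ω₁Z(T))` and
`N(Z(J(T)))` have odd order has odd order. -/

set_option autoImplicit false

namespace Cfsg.Agent.H29.OFL

open Subgroup Cfsg Cfsg.Agent.H83
open scoped commutatorElement MatrixGroups

universe u

theorem two_ne {F : Type*} [Field F] [Fintype F] {p n : ℕ} (hp : p.Prime) (h2 : p ≠ 2)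
    (hF : Fintype.card F = p ^ n) : (2 : F) ≠ 0 := by
  intro h
  have h3 : ((p ^ n : ℕ) : F) = 0 := hF ▸ FiniteField.cast_card_eq_zero F
  have h4 : Nat.Coprime 2 (p ^ n) :=
    ((Nat.coprime_primes Nat.prime_two hp).2 (Ne.symm h2)).pow_right n
  obtain ⟨a, b, e⟩ := (Nat.isCoprime_iff_coprime.2 h4).map (Int.castRingHom F)
  simp only [eq_intCast, Int.cast_natCast] at e
  rw [h3] at e
  simp [h] at e

theorem neg_one_odd {F : Type*} [Field F] (h2 : (2 : F) ≠ 0) {m : ℕ} (hm : Odd m) :
    (-1 : SL(2, F)) ^ m ≠ 1 := by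
  rw [hm.neg_one_pow]
  intro h
  have := congrArg (fun A : SL(2, F) => A.1 0 0) h
  simp at this
  apply h2
  linear_combination -this

/-- The Weyl element. -/
def w0 (F : Type*) [Field F] : SL(2, F) := ⟨!![0, 1; -1, 0], by simp [Matrix.det_fin_two]⟩

/-- A transvection. -/
def u0 (F : Type*) [Field F] : SL(2, F) := ⟨!![1, 1; 0, 1], by simp [Matrix.det_fin_two]⟩

theorem w0_sq (F : Type*) [Field F] : w0 F * w0 F = -1 := by
  ext a b
  rw [Matrix.SpecialLinearGroup.coe_mul]
  fin_cases a <;> fin_cases b <;> simp [w0, Matrix.mul_apply, Fin.sum_univ_two]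

theorem w0_four (F : Type*) [Field F] : w0 F ^ 4 = 1 := by
  rw [show 4 = 2 * 2 from rfl, pow_mul, pow_two (w0 F), w0_sq, neg_one_sq]

theorem not_comm (F : Type*) [Field F] : u0 F * w0 F ≠ w0 F * u0 F := by
  intro h
  have := congrArg (fun A : SL(2, F) => A.1 0 0) h
  simp only [Matrix.SpecialLinearGroup.coe_mul] at this
  simp [w0, u0, Matrix.mul_apply, Fin.sum_univ_two] at this

/-- A group of odd order does not involve `SL₂(p)`. -/
theorem not_involves {G : Type*} [Group G] [Finite G] {p : ℕ} [Fact p.Prime] (hp : p ≠ 2)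
    (ho : Odd (Nat.card G)) : ¬ Involves SL(2, ZMod p) G := by
  rintro ⟨K, R, _, ⟨e⟩⟩
  have h1 : Odd (Nat.card SL(2, ZMod p)) := by
    rw [← Nat.card_congr e.toEquiv]
    exact ho.of_dvd_nat ((card_quotient_dvd_card _).trans (card_subgroup_dvd_card K))
  exact neg_one_odd (two_ne (n := 1) Fact.out hp (by simp)) h1 pow_card_eq_one'

/-- The `ZJ` theorem for groups of odd order. -/
theorem zj_odd {G : Type*} [Group G] [Finite G] {p : ℕ} [Fact p.Prime] (hp : p ≠ 2)
    (ho : Odd (Nat.card G)) (S : Sylow p G)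
    (hc : centralizer (pCore p G : Set G) ≤ pCore p G) :
    (centerThompsonOf p (S : Subgroup G)).Normal :=
  H6.zje_normal hp S hc fun _ _ hB => H51.stableOn_of_isNormalizerPStable
    (H51.isNormalizerPStable_of_SL2Free hp (not_involves hp ho)) hB le_normalizer_of_normal

/-- The same inside an ambient group. -/
theorem zj_odd' {G : Type*} [Group G] [Finite G] {p : ℕ} [Fact p.Prime] (hp : p ≠ 2)
    {T M : Subgroup G} (ho : Odd (Nat.card M)) (hT : IsSylowIn p T M) (hc : CharP p M) :
    M ≤ normalizer (centerThompsonOf p T : Set G) := by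
  have h := zj_odd hp ho hT.toSylow (charP_iff.1 hc)
  have h1 := map_normalizer_subtype (centerThompsonOf p (hT.toSylow : Subgroup M))
  rw [normalizer_eq_top_iff.2 h, H51.map_centerThompsonOf p _ M.subtype_injective,
    hT.map_toSylow, ← MonoidHom.range_eq_map, range_subtype] at h1
  exact h1.le.trans inf_le_right

theorem odd_of_le {G : Type*} [Group G] [Finite G] {A B : Subgroup G} (h : A ≤ B)
    (hB : Odd (Nat.card B)) : Odd (Nat.card A) := hB.of_dvd_nat (card_dvd_of_le h)

theorem card_map_sub {G : Type*} [Group G] {M : Subgroup G} (K : Subgroup M) :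
    Nat.card (K.map M.subtype) = Nat.card K := card_map_of_injective M.subtype_injective

/-- The minimal case. -/
theorem min_case {P : Type u} [Group P] [Finite P] {p : ℕ} [Fact p.Prime] (hp : p ≠ 2)
    (S : Sylow p P) (hc : centralizer (pCore p P : Set P) ≤ pCore p P)
    (h1 : Odd (Nat.card ↥(centralizer (OZ p (S : Subgroup P) : Set P))))
    (h2 : Odd (Nat.card ↥(normalizer (centerThompsonOf p (S : Subgroup P) : Set P))))
    (ih : ∀ M : Subgroup P, (S : Subgroup P) ≤ M → M ≠ ⊤ → Odd (Nat.card M)) :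
    Odd (Nat.card P) := by
  by_contra hev
  have hne : ∀ M : Subgroup P, Odd (Nat.card M) → M ≠ ⊤ := by
    rintro M hM rfl
    exact hev (by rwa [card_top] at hM)
  have hch : CharP p (⊤ : Subgroup P) := by
    rw [H83.CharP, pCoreOf_top, top_inf_eq]; exact hc
  have hmax : ∀ M : Subgroup P, (S : Subgroup P) ≤ M → M ≠ ⊤ →
      M ≤ normalizer (centerThompsonOf p (S : Subgroup P) : Set P) := fun M a b =>
    zj_odd' hp (ih M a b) (isSylowIn_of_sylow S a)
      (hch.of_le le_top ((isSylowIn_top S).pCoreOf_le.trans a))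
  have hNS := H51.normalizer_le_normalizer_centerThompsonOf p (S : Subgroup P)
  have hpm : IsPMinimal p P := (H85.isPMinimal_iff_top S).2 ⟨_, H85.isSyl_top S,
    fun h => hne _ h2 (top_le_iff.1 (h.trans hNS)), le_normalizer.trans hNS, (hne _ h2).lt_top,
    fun K a b => hmax K a b.ne⟩
  have hcs : cStarStarOf p (S : Subgroup P) ≠ ⊤ := fun e => hne _ h2 (top_le_iff.1
    (e.ge.trans (sup_le (hmax _ (le_cent_OZ (p := p) _) (hne _ h1))
      (H51.normalizer_thompson_le_normalizer_center p _))))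
  obtain ⟨r, E, k1, k2, k3, k4, -, -, -, -, k9⟩ := S2981.result hpm hc S hcs
  have hEn : (pCore p P).Normal := normalizer_eq_top_iff.1 (top_le_iff.1
    (pCoreOf_top (p := p) (G := P) ▸ le_norm_pCoreOf (p := p) (⊤ : Subgroup P)))
  have hVn : (omegaOneCenter p (pCore p P)).Normal := normalizer_eq_top_iff.1 (top_le_iff.1
    (norm_OZ (p := p) (normalizer_eq_top_iff.2 hEn).ge))
  have hZV : OZ p (S : Subgroup P) ≤ omegaOneCenter p (pCore p P) := by
    have := hch.OZ_le (isSylowIn_top S)
    rwa [pCoreOf_top] at this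
  generalize omegaOneCenter p (pCore p P) = V at *
  have hCn : (centralizer (V : Set P)).Normal := inferInstance
  have hCle : centralizer (V : Set P) ≤ centralizer (OZ p (S : Subgroup P) : Set P) :=
    centralizer_le hZV
  generalize centralizer (V : Set P) = C at *
  have hJ := H51.thompsonSubgroup_characteristic p P
  obtain ⟨i⟩ : Nonempty (Fin r) := by
    by_contra h0
    rw [not_nonempty_iff] at h0
    rw [iSup_of_empty] at k3
    refine hne _ h1 (top_le_iff.1 (k2.ge.trans (sup_le (sup_le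
      (le_sup_left.trans (k3.ge.trans bot_le)) (le_cent_OZ _)) hCle)))
  obtain ⟨n, -, ⟨F, _, _, hq, ⟨_, ⟨e⟩⟩, -⟩ | ⟨h, -⟩⟩ := k9 i
  swap
  · exact hp h
  have hF := two_ne Fact.out hp hq
  let φ : E i →* SL(2, F) := e.toMonoidHom.comp (QuotientGroup.mk' _)
  have hφ : Function.Surjective φ := e.surjective.comp (QuotientGroup.mk'_surjective _)
  have hk : ∀ x : E i, φ x = 1 ↔ (x : P) ∈ C := fun x => by
    simp [φ, mem_subgroupOf]
  have hLn : (⨆ j, E j).Normal := k3 ▸ inferInstance
  let π := QuotientGroup.mk' C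
  have hπ : ∀ x, π x = 1 ↔ x ∈ C := fun x => QuotientGroup.eq_one_iff x
  have hLn' : ((⨆ j, E j).map π).Normal := hLn.map π (QuotientGroup.mk'_surjective C)
  let K : Subgroup P := (centralizer (((⨆ j, E j).map π : Subgroup (P ⧸ C)) : Set (P ⧸ C))).comap π
  have hKn : K.Normal := inferInstance
  have hCK : C ≤ K := fun x hx => by
    rw [mem_comap, (hπ x).2 hx]; exact one_mem _
  obtain ⟨z, hz⟩ := hφ (-1)
  have hzK : (z : P) ∈ K := by
    have : (⨆ j, E j) ≤ (centralizer {π z}).comap π := iSup_le fun j y hy => by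
      rw [mem_comap, mem_centralizer_singleton_iff]
      apply Commute.eq
      rw [← commutatorElement_eq_one_iff_commute, ← map_commutatorElement, hπ]
      by_cases hj : j = i
      · subst hj
        have := (hk ⁅(⟨y, hy⟩ : E j), z⁆).1 (by
          rw [map_commutatorElement, hz, commutatorElement_eq_one_iff_commute]
          exact Commute.neg_one_right _)
        exact this
      · exact k4 j i hj (commutator_mem_commutator hy z.2)
    rintro _ ⟨y, hy, rfl⟩
    exact mem_centralizer_singleton_iff.1 (this hy)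
  by_cases hKS : K ⊔ (S : Subgroup P) = ⊤
  · obtain ⟨w, hw⟩ := hφ (w0 F)
    obtain ⟨v, hv⟩ := hφ (u0 F)
    have hw4 : (w : P) ^ 4 ∈ K := hCK ((hk (w ^ 4)).1 (by rw [map_pow, hw, w0_four]))
    obtain ⟨k, hk1, s, hs, hks⟩ := mem_sup_of_normal_left.1 (hKS.ge (mem_top (w : P)))
    obtain ⟨m, hm⟩ := S.isPGroup' ⟨s, hs⟩
    have hs1 : s ^ p ^ m = 1 := congrArg Subtype.val hm
    have hq1 : (QuotientGroup.mk' K (w : P)) ^ 4 = 1 := by
      rw [← map_pow]; exact (QuotientGroup.eq_one_iff _).2 hw4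
    have hq2 : (QuotientGroup.mk' K (w : P)) ^ p ^ m = 1 := by
      have : QuotientGroup.mk' K k = 1 := (QuotientGroup.eq_one_iff _).2 hk1
      rw [← hks, map_mul, this, one_mul, ← map_pow, hs1, map_one]
    have hco : Nat.gcd 4 (p ^ m) = 1 :=
      Nat.Coprime.pow 2 m ((Nat.coprime_primes Nat.prime_two Fact.out).2 (Ne.symm hp))
    have hwK : (w : P) ∈ K := by
      have := pow_gcd_eq_one.2 ⟨hq1, hq2⟩
      rw [hco, pow_one] at this
      exact (QuotientGroup.eq_one_iff _).1 this
    have h3 : π v * π w = π w * π v := hwK _ ⟨v, le_iSup E i v.2, rfl⟩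
    have h4 : φ ⁅v, w⁆ = 1 := (hk _).2 ((hπ _).1 (by
      change π ⁅(v : P), (w : P)⁆ = 1
      rw [map_commutatorElement, commutatorElement_eq_one_iff_commute]; exact h3))
    rw [map_commutatorElement, commutatorElement_eq_one_iff_commute, hv, hw] at h4
    exact not_comm F h4.eq
  · have h3 := ih _ le_sup_right hKS
    have h4 : (z : P) ^ Nat.card ↥(K ⊔ (S : Subgroup P)) = 1 :=
      congrArg Subtype.val (pow_card_eq_one' (x := (⟨z, mem_sup_left hzK⟩ : ↥(K ⊔ (S : Subgroup P)))))
    refine neg_one_odd hF h3 ?_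
    rw [← hz, ← map_pow, (Subtype.ext h4 : z ^ _ = 1), map_one]

theorem aux (n : ℕ) : ∀ (P : Type u) [Group P] [Finite P] (p : ℕ) (T : Subgroup P),
    Nat.card P = n → p.Prime → p ≠ 2 →
    IsSylowIn p T ⊤ → centralizer (pCore p P : Set P) ≤ pCore p P →
    Odd (Nat.card ↥(centralizer (OZ p T : Set P))) →
    Odd (Nat.card ↥(normalizer (centerThompsonOf p T : Set P))) → Odd (Nat.card P) := by
  induction n using Nat.strong_induction_on with
  | _ n ih =>
  intro P _ _ p T hn hp h2 hT hc a b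
  haveI := Fact.mk hp
  obtain ⟨S, rfl⟩ := hT.exists_sylow_top
  refine min_case h2 S hc a b fun M h3 h4 => ?_
  have hch : CharP p (⊤ : Subgroup P) := by
    rw [H83.CharP, pCoreOf_top, top_inf_eq]; exact hc
  have hS := isSylowIn_of_sylow S h3
  refine ih _ ?_ M p hS.toSylow rfl hp h2 (isSylowIn_top _)
    (charP_iff.1 (hch.of_le le_top (hT.pCoreOf_le.trans h3))) ?_ ?_
  · rw [← hn, ← card_top (G := P)]
    exact Nat.lt_of_le_of_ne (card_le_of_le le_top) fun e =>
      h4 (eq_of_le_of_card_ge le_top e.ge)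
  · rw [← card_map_sub, map_centralizer_subtype, OZ_map_subtype, hS.map_toSylow]
    exact odd_of_le inf_le_right a
  · rw [← card_map_sub, map_normalizer_subtype, H51.map_centerThompsonOf p _ M.subtype_injective,
      hS.map_toSylow]
    exact odd_of_le inf_le_right b

theorem ofLoc : H53.FM.OFLocStmt.{u} :=
  fun P _ _ p T => aux _ P p T rfl

end Cfsg.Agent.H29.OFL
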