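import Cfsg.Agent.H89.OlDefs

/-!
# Groups of order 32 with cyclic commutator subgroup of order 4 and an abelian maximal subgroup
-/

set_option autoImplicit false

namespace Cfsg.Agent.H29.OlGc1

open Subgroup Cfsg.Agent.H18 Cfsg.Agent.H26.K64 Cfsg.Agent.H89.Ol
open scoped commutatorElement

universe u

variable {G : Type u} [Group G] [Finite G]

theorem comm_form {P B : Subgroup G} (hB : B ≤ P) (hc : Nat.card P ≤ 2 * Nat.card B)
    (ab : ∀ b ∈ B, ∀ c ∈ B, Commute b c) {x : G} (xP : x ∈ P) (xB : x ∉ B) :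
    (∀ b ∈ B, x * b * x⁻¹ ∈ B) ∧ ∀ d ∈ ⁅P, P⁆, ∃ b ∈ B, d = b⁻¹ * (x * b * x⁻¹) := by
  have nb : ∀ b ∈ B, x * b * x⁻¹ ∈ B := fun b hb => by
    simpa using inv_mul_mem_of_card_le hB hc (inv_mem (mul_mem xP (hB hb))) (inv_mem xP)
      (fun h => xB ((B.mul_mem_cancel_right hb).1 (inv_mem_iff.1 h))) fun h => xB (inv_mem_iff.1 h)
  let D : Subgroup G :=
    { carrier := {d | ∃ b ∈ B, d = b⁻¹ * (x * b * x⁻¹)}
      one_mem' := ⟨1, one_mem _, by simp⟩
      mul_mem' := by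
        rintro _ _ ⟨b, hb, rfl⟩ ⟨c, hc, rfl⟩
        refine ⟨b * c, mul_mem hb hc, ?_⟩
        rw [← mul_assoc, (ab _ (mul_mem (inv_mem hb) (nb b hb)) _ (inv_mem hc)).eq]
        group
      inv_mem' := by
        rintro _ ⟨b, hb, rfl⟩
        refine ⟨b⁻¹, inv_mem hb, ?_⟩
        rw [mul_inv_rev, (ab _ (inv_mem (nb b hb)) _ (inv_mem (inv_mem hb))).eq]
        group }
  have Q : ∀ c ∈ B, ∀ g ∈ P, ⁅c, g⁆ ∈ D := fun c hc' g hg => by
    by_cases h : g ∈ B
    · rw [(ab c hc' g h).commutator_eq]; exact one_mem _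
    · refine ⟨c⁻¹, inv_mem hc', ?_⟩
      have := (ab _ (inv_mul_mem_of_card_le hB hc xP hg xB h) _ (inv_mem hc')).eq
      calc ⁅c, g⁆ = c * x * (x⁻¹ * g * c⁻¹) * g⁻¹ := by rw [commutatorElement_def]; group
        _ = _ := by rw [this]; group
  refine ⟨nb, fun d hd => (commutator_le.2 fun g hg h hh => ?_ : ⁅P, P⁆ ≤ D) hd⟩
  by_cases h1 : g ∈ B
  · exact Q g h1 h hh
  by_cases h2 : h ∈ B
  · rw [← commutatorElement_inv]; exact inv_mem (Q h h2 g hg)
  have m1 := inv_mul_mem_of_card_le hB hc hg hh h1 h2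
  have m2 := inv_mul_mem_of_card_le hB hc (inv_mem hg) hg (fun h => h1 (inv_mem_iff.1 h)) h1
  have := (ab _ m2 _ m1).eq
  have e : ⁅g, h⁆ = ⁅g⁻¹ * h, g⁆ := by
    simp only [commutatorElement_def]
    calc g * h * g⁻¹ * h⁻¹ = g⁻¹⁻¹ * g * (g⁻¹ * h) * g⁻¹ * h⁻¹ := by group
      _ = _ := by rw [this]; group
  rw [e]
  exact Q _ m1 g hg

theorem gc1 : GC1Stmt.{u} := by
  intro G _ _ P r a cP hr or aP oa hA
  have hP : IsPGroup 2 P := IsPGroup.of_card (n := 5) cP
  have ca : Nat.card (zpowers a) = 8 := by rw [Nat.card_zpowers, oa]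
  have zd : ∀ n : ℤ, a ^ n = 1 ↔ 8 ∣ n := fun n => by
    rw [← orderOf_dvd_iff_zpow_eq_one, oa]; rfl
  have r4 : r ^ 4 = 1 := by rw [← or, pow_orderOf_eq_one]
  have r2 : r * r ≠ 1 := fun e => by
    have := orderOf_dvd_of_pow_eq_one (show r ^ 2 = 1 by rwa [pow_two])
    rw [or] at this
    omega
  obtain ⟨y, hy, ya⟩ : ∃ y ∈ P ⊓ Cz (zpowers a), y ∉ zpowers a := by
    by_contra h
    push Not at h
    have := card_le_of_le (H := P ⊓ Cz (zpowers a)) h
    unfold CP at hA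
    omega
  set B := closure ({a, y} : Set G) with hBd
  have aB : a ∈ B := subset_closure (by simp)
  have zB : zpowers a ≤ B := zpowers_le.2 aB
  have BP : B ≤ P := (closure_le _).2 (by rintro _ (rfl | rfl); exacts [aP, hy.1])
  have ab : ∀ b ∈ B, ∀ c ∈ B, Commute b c := by
    have ay : a * y = y * a := mem_Cz_zpowers.1 hy.2
    have := isMulCommutative_closure (k := ({a, y} : Set G)) (by
      rintro _ (rfl | rfl) _ (rfl | rfl)
      exacts [rfl, ay, ay.symm, rfl])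
    exact fun b hb c hc => congrArg Subtype.val (this.is_comm.comm (⟨b, hb⟩ : B) ⟨c, hc⟩)
  have c1 : 2 * Nat.card (zpowers a) ≤ Nat.card B :=
    card_le_half (lt_of_le_of_ne zB fun e => ya (e ▸ subset_closure (by simp)))
  obtain ⟨x, xP, xB⟩ : ∃ x ∈ P, x ∉ B := by
    by_contra h
    push Not at h
    have : ⁅P, P⁆ ≤ ⊥ := commutator_le.2 fun g hg k hk =>
      mem_bot.2 (ab g (h g hg) k (h k hk)).commutator_eq
    refine r2 ?_
    have e : r = 1 := mem_bot.1 (this (hr ▸ mem_zpowers r))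
    rw [e, one_mul]
  have c2 : 2 * Nat.card B ≤ Nat.card P := card_le_half (lt_of_le_of_ne BP fun e => xB (e ▸ xP))
  have h1 : Nat.card P ≤ 2 * Nat.card B := by omega
  have h2 : Nat.card B ≤ 2 * Nat.card (zpowers a) := by omega
  obtain ⟨nb, cf⟩ := comm_form BP h1 ab xP xB
  have PB : ∀ d ∈ ⁅P, P⁆, d ∈ B := fun d hd => by
    obtain ⟨b, hb, rfl⟩ := cf d hd
    exact mul_mem (inv_mem hb) (nb b hb)
  have rP : r ∈ ⁅P, P⁆ := hr ▸ mem_zpowers r
  have rB := PB r rP
  have e4 : r * r = a ^ 4 := by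
    have : r * r ∈ zpowers a := by
      by_cases h : r ∈ zpowers a
      · exact mul_mem h h
      · simpa using inv_mul_mem_of_card_le zB h2 (inv_mem rB) rB (fun k => h (inv_mem_iff.1 k)) h
    obtain ⟨m, hm⟩ := mem_zpowers_iff.1 this
    have k1 : 8 ∣ m + m := (zd _).1 (by rw [zpow_add, hm, ← r4]; simp only [pow_succ, pow_zero, one_mul, mul_assoc])
    have k2 : ¬ 8 ∣ m := fun k => r2 (hm ▸ (zd m).2 k)
    have k3 : a ^ (m - 4) = 1 := (zd _).2 (by omega)
    rw [← hm, show m = m - 4 + 4 by ring, zpow_add, k3, one_mul]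
    exact zpow_ofNat a 4
  have xw : ¬ Commute x (a * a) := fun c => by
    obtain ⟨b, hb, e⟩ := cf r rP
    have cz : ∀ n : ℤ, Commute x (a ^ (2 * n)) := fun n => by
      rw [zpow_mul, zpow_two]; exact c.zpow_right n
    by_cases h : r ∈ zpowers a
    · obtain ⟨i, hi⟩ := mem_zpowers_iff.1 h
      have k1 : 8 ∣ i * 4 := (zd _).1 (by rw [zpow_mul, hi]; exact_mod_cast r4)
      obtain ⟨j, rfl⟩ : 2 ∣ i := by omega
      have k2 : x * r * x⁻¹ = r := by rw [← hi, (cz j).eq, mul_inv_cancel_right]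
      have m2 := inv_mul_mem_of_card_le BP h1 (inv_mem xP) xP (fun h => xB (inv_mem_iff.1 h)) xB
      have k3 := (ab _ m2 _ hb).eq
      have k4 := (ab _ (nb b hb) _ hb).eq
      refine r2 ?_
      nth_rewrite 1 [← k2]
      rw [e]
      calc _ = x * b⁻¹ * x⁻¹ * (x⁻¹⁻¹ * x * b) * x⁻¹ * x⁻¹ * (b⁻¹ * (x * b * x⁻¹)) := by group
        _ = (x * b * x⁻¹)⁻¹ * (x * b * x⁻¹) := by rw [k3]; group
        _ = 1 := by group
    · have k1 : Commute x (b * b) := by
        by_cases h' : b ∈ zpowers a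
        · obtain ⟨i, rfl⟩ := mem_zpowers_iff.1 h'
          rw [← zpow_add, ← two_mul]
          exact cz i
        · obtain ⟨i, hi⟩ := mem_zpowers_iff.1 (inv_mul_mem_of_card_le zB h2 rB hb h h')
          have k2 : b = r * a ^ i := by rw [hi]; group
          have k3 := (ab _ (zpow_mem aB i) _ rB).eq
          have : b * b = a ^ (2 * (2 + i)) := by
            calc b * b = r * (a ^ i * r) * a ^ i := by rw [k2]; group
              _ = r * r * a ^ i * a ^ i := by rw [k3]; group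
              _ = _ := by rw [e4]; group
          rw [this]
          exact cz _
      refine r2 ?_
      have k4 := (ab _ (nb b hb) _ (inv_mem hb)).eq
      rw [e]
      calc _ = b⁻¹ * (x * b * x⁻¹ * b⁻¹) * (x * b * x⁻¹) := by group
        _ = b⁻¹ * b⁻¹ * (x * (b * b)) * x⁻¹ := by rw [k4]; group
        _ = 1 := by rw [k1.eq]; group
  have cw : ∀ g ∈ P, Commute g (a * a) → g ∈ B := fun g hg c => by
    by_contra h
    have := ab _ (inv_mul_mem_of_card_le BP h1 hg xP h xB) _ (mul_mem aB aB)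
    exact xw (by simpa using c.mul_left this)
  have w4 : (a * a) ^ (4 : ℤ) = 1 := by rw [← zpow_two, ← zpow_mul]; exact (zd _).2 (by norm_num)
  have sq : ∀ c ∈ ⁅P, P⁆, zpowers (a * c * (a * c)) = zpowers (a * a) := fun c hc => by
    obtain ⟨i, rfl⟩ := mem_zpowers_iff.1 (hr ▸ hc)
    have k1 := (ab _ (zpow_mem rB i) _ aB).eq
    have e : a * r ^ i * (a * r ^ i) = (a * a) ^ (1 + 2 * i) := by
      calc _ = a * (r ^ i * a) * r ^ i := by group
        _ = a * a * (r * r) ^ i := by rw [k1, (Commute.refl r).mul_zpow]; group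
        _ = _ := by rw [e4, ← zpow_two]; group
    rw [e]
    refine le_antisymm (zpowers_le.2 (zpow_mem (mem_zpowers _) _)) (zpowers_le.2 ⟨1 + 2 * i, ?_⟩)
    change ((a * a) ^ (1 + 2 * i)) ^ (1 + 2 * i) = a * a
    rw [← zpow_mul, show (1 + 2 * i) * (1 + 2 * i) = 1 + 4 * (i + i * i) by ring, zpow_add,
      zpow_mul, w4, one_zpow, zpow_one, mul_one]
  refine ⟨aP, fun g hg => mem_normalizer_fintype ?_, sq, e4 ▸ mul_mem rP rP,
    fun R hR t tR tw ho => ?_⟩
  · rintro _ ⟨n, rfl⟩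
    have m := commutator_mem_commutator hg aP
    have k1 := (ab _ aB _ (PB _ m)).eq
    have : g * (a * a) * g⁻¹ = a * ⁅g, a⁆ * (a * ⁅g, a⁆) := by
      rw [k1, commutatorElement_def]; group
    change g * (a * a) ^ n * g⁻¹ ∈ zpowers (a * a)
    rw [← conj_zpow, this, ← sq _ m]
    exact zpow_mem (mem_zpowers _) n
  have hRp : IsPGroup 2 R := hP.to_le hR
  have tc : Commute t (a * a) := by
    obtain ⟨j, hj⟩ := mem_zpowers_iff.1 ((mem_normalizer_iff.1 tw _).1 (mem_zpowers (a * a)))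
    have k1 : ¬ 2 ∣ j := by
      rintro ⟨i, rfl⟩
      have : t * (a * a) ^ (2 : ℤ) * t⁻¹ = 1 := by
        rw [← conj_zpow, ← hj, ← zpow_mul, show 2 * i * 2 = 4 * i by ring, zpow_mul, w4, one_zpow]
      rw [conj_eq_one_iff, ← zpow_two, ← zpow_mul, zd] at this
      omega
    obtain ⟨i, rfl⟩ : ∃ i, j = 1 + 2 * i := ⟨(j - 1) / 2, by omega⟩
    refine comm_of_sq_comm ho (mul_inv_eq_iff_eq_mul.1 ?_)
    calc t * t * (a * a) * (t * t)⁻¹ = t * (t * (a * a) * t⁻¹) * t⁻¹ := by group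
      _ = a * a := by
        rw [← hj, ← conj_zpow, ← hj, ← zpow_mul,
          show (1 + 2 * i) * (1 + 2 * i) = 1 + 4 * (i + i * i) by ring, zpow_add,
          zpow_mul, w4, one_zpow, zpow_one, mul_one]
  have cB : ∀ g ∈ R, g ∈ B ↔ t * g * t⁻¹ ∈ B := fun g hg => by
    have m := (mem_normalizer_iff.1 tR g).1 hg
    refine ⟨fun h => cw _ (hR m) ((tc.mul_left (ab _ h _ (mul_mem aB aB))).mul_left tc.inv_left),
      fun h => cw _ (hR hg) ?_⟩
    simpa [mul_assoc] using (tc.inv_left.mul_left (ab _ h _ (mul_mem aB aB))).mul_left tc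
  have fz : ∀ e ∈ zpowers a, e * e = 1 → t * e = e * t := fun e he ee => by
    obtain ⟨i, rfl⟩ := mem_zpowers_iff.1 he
    rw [← zpow_add, zd] at ee
    obtain ⟨j, rfl⟩ : 2 ∣ i := by omega
    rw [zpow_mul, zpow_two]
    exact (tc.zpow_right j).eq
  have cj2 : ∀ k, k * k = 1 → t * k * t⁻¹ * (t * k * t⁻¹) = 1 := fun k kk => by
    rw [conj_mul, kk]; group
  have fi : ∀ k ∈ R, k ∈ B → k * k = 1 → t * k = k * t := fun k kR kB kk => by
    by_cases h : k ∈ zpowers a
    · exact fz k h kk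
    by_cases h' : t * k * t⁻¹ ∈ zpowers a
    · have := fz _ h' (cj2 k kk)
      rw [inv_mul_cancel_right] at this
      exact mul_inv_eq_iff_eq_mul.1 (mul_left_cancel this)
    have tB := (cB k kR).1 kB
    refine comm_of_comm hRp ho tR kR (fz _ (inv_mul_mem_of_card_le zB h2 kB tB h h') ?_)
    rw [← pow_two, (ab _ (inv_mem kB) _ tB).mul_pow, inv_pow, pow_two, pow_two, kk, cj2 k kk,
      inv_one, one_mul]
  have fK : ∀ n : ℕ, ∀ k ∈ R, k ∈ B → k ^ 2 ^ n = 1 → t * k = k * t := fun n => by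
    induction n with
    | zero => intro k _ _ e; rw [pow_zero, pow_one] at e; simp [e]
    | succ n ih =>
      intro k kR kB e
      have tB := (cB k kR).1 kB
      have k1 := ih (k * k) (mul_mem kR kR) (mul_mem kB kB)
        (by rw [← pow_two, ← pow_mul, ← pow_succ', e])
      refine comm_of_comm hRp ho tR kR (fi _ (mul_mem (inv_mem kR)
        ((mem_normalizer_iff.1 tR k).1 kR)) (mul_mem (inv_mem kB) tB) ?_)
      rw [← pow_two, (ab _ (inv_mem kB) _ tB).mul_pow, inv_pow, pow_two, pow_two, conj_mul, k1]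
      group
  have fB : ∀ k ∈ R, k ∈ B → t * k = k * t := fun k kR kB => by
    obtain ⟨n, hn⟩ := hRp ⟨k, kR⟩
    exact fK n k kR kB (congrArg Subtype.val hn)
  refine mem_Cz.2 fun g hg => Eq.symm ?_
  by_cases h : g ∈ B
  · exact fB g hg h
  have m := (mem_normalizer_iff.1 tR g).1 hg
  exact comm_of_comm hRp ho tR hg (fB _ (mul_mem (inv_mem hg) m)
    (inv_mul_mem_of_card_le BP h1 (hR hg) (hR m) h fun k => h ((cB g hg).2 k)))

end Cfsg.Agent.H29.OlGc1
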