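import Cfsg.Agent.H46.J2Defs
import Cfsg.Agent.H46.TRed1
import Cfsg.Agent.S1910

/-!
# A standard subgroup of type `J₂`: `4` does not divide `|K^g ∩ N(A)|`
-/

set_option autoImplicit false
open scoped Pointwise commutatorElement
open Subgroup

namespace Cfsg.Agent.H29.S94RedJ
open Cfsg.Agent.H8 Cfsg.Agent.H23.D2 Cfsg.Agent.H46.S94 Cfsg.Agent.H46.TRed1

universe u

local notation "C[" A "]" => Subgroup.centralizer (SetLike.coe A)
local notation "N[" A "]" => Subgroup.normalizer (SetLike.coe A)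

variable {Γ : Type} [Group Γ] {G : Type u} [Group G]

/-- an elementary four-group `T` inducing `E` on `A` -/
structure PS (ψ : Γ →* G) (A : Subgroup G) (Λ E : Subgroup Γ) (T : Subgroup G) : Prop where
  inj : Function.Injective ψ
  rng : ψ.range = A
  card : Nat.card T = 4
  sq : ∀ x ∈ T, x * x = 1
  cen : ∀ x ∈ T, ∀ l ∈ Λ, x * ψ l = ψ l * x
  all : ∀ e ∈ E, ∃ k ∈ C[A], ψ e * k ∈ T
  dec : ∀ x ∈ T, ∃ e ∈ E, ∃ k ∈ C[A], x = ψ e * k

theorem one_of {ψ : Γ →* G} {A : Subgroup G} (hb : Base Γ) (hi : Function.Injective ψ)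
    (rng : ψ.range = A) {a : Γ} (ha : ψ a ∈ C[A]) : a = 1 :=
  hb.eq_one fun x => hi (by
    rw [map_mul, map_mul, mem_C.1 ha (ψ x) (rng ▸ ⟨x, rfl⟩)])

theorem cfg [Finite G] {φ : Γ →* G} {A : Subgroup G} (hb : Base Γ) (hi : Function.Injective φ)
    (rng : φ.range = A) (hA : IsStandardSubgroup A) {g : G} (hg : g ∉ N[A]) {s : G}
    (hs : s ∈ MulAut.conj g • C[A] ⊓ N[A]) (ho : orderOf s = 2) :
    Cfg φ A (MulAut.conj g • C[A]) N[(MulAut.conj g • A : Subgroup G)] := by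
  obtain ⟨h1, -, h3, h5⟩ := red_data hA hg
  refine ⟨hb, hi, rng, fun x hx hk ⟨n, hn⟩ => ?_, fun a ha x hx => ?_, fun s hs ss s1 c hc => ?_,
    fun k => ?_⟩
  · exact eq_one_of_odd_two (h1.of_dvd_nat (H10.orderOf_dvd_card_of_mem ⟨hx, hk⟩)) hn
  · rw [← centralizer_conj_smul] at hx ⊢
    exact C_conj ha hx
  · exact h3 s hs (ord_of_sq ss s1) (mem_centralizer_singleton_iff.2 hc)
  · exact h5 s hs ho (by rw [← rng]; rintro _ ⟨a, rfl⟩; exact rng ▸ k a)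

theorem surj [Finite G] {ψ : Γ →* G} {A T : Subgroup G} {E : Subgroup Γ} (hb : Base Γ)
    (hi : Function.Injective ψ) (rng : ψ.range = A) (cT : Nat.card T = 4) (cE : Nat.card E = 4)
    (all : ∀ e ∈ E, ∃ k ∈ C[A], ψ e * k ∈ T) :
    ∀ x ∈ T, ∃ e ∈ E, ∃ k ∈ C[A], x = ψ e * k := by
  haveI := hb.fin
  choose κ hκ hT using fun e : E => all e e.2
  let F : E → T := fun e => ⟨ψ e * κ e, hT e⟩
  have Fi : Function.Injective F := fun x y exy => by
    have e2 : ψ x * κ x = ψ y * κ y := congrArg Subtype.val exy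
    have e3 : ψ ((y : Γ)⁻¹ * x) = κ y * (κ x)⁻¹ := by
      rw [map_mul, map_inv]
      calc (ψ y)⁻¹ * ψ x = (ψ y)⁻¹ * (ψ x * κ x) * (κ x)⁻¹ := by group
        _ = _ := by rw [e2]; group
    have := one_of hb hi rng (a := (y : Γ)⁻¹ * x) (by rw [e3]; exact mul_mem (hκ y) (inv_mem (hκ x)))
    exact Subtype.ext (inv_mul_eq_one.1 this).symm
  have Fs : Function.Surjective F :=
    ((Nat.bijective_iff_injective_and_card F).2 ⟨Fi, cE.trans cT.symm⟩).2
  intro x hx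
  obtain ⟨e, he⟩ := Fs ⟨x, hx⟩
  exact ⟨e, e.2, κ e, hκ e, (congrArg Subtype.val he).symm⟩

theorem anyS [Finite G] {φ : Γ →* G} {A : Subgroup G} (hb : Base Γ) (hi : Function.Injective φ)
    (rng : φ.range = A) (hA : IsStandardSubgroup A) {z b : Γ} {Λ E : Subgroup Γ} (r : RD z b Λ E)
    (el : El E) {g : G} (hg : g ∉ N[A])
    (h4 : 4 ∣ Nat.card (MulAut.conj g • C[A] ⊓ N[A] : Subgroup G)) {T : Subgroup G}
    (hT : IsSylowIn 2 T (MulAut.conj g • C[A] ⊓ N[A])) : ∃ ψ : Γ →* G, PS ψ A Λ E T := by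
  haveI : Fact (Nat.Prime 2) := ⟨Nat.prime_two⟩
  subst rng
  obtain ⟨c, T0, p⟩ := red1 Γ G φ hb hi hA z b Λ E r g hg h4
  obtain ⟨h, hh, rfl⟩ := p.syl.exists_conj_eq hT
  let ψ : Γ →* G := (MulAut.conj h).toMonoidHom.comp (tw φ c)
  have hψ : ∀ a, ψ a = h * φ (c * a * c⁻¹) * h⁻¹ := fun a => rfl
  have i1 : Function.Injective ψ :=
    (MulAut.conj h).injective.comp (hi.comp (MulAut.conj c).injective)
  have r1 : ψ.range = φ.range := by
    rw [range_conj]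
    have : (tw φ c).range = φ.range := by
      ext x
      exact ⟨fun ⟨a, e⟩ => ⟨_, e⟩, fun ⟨a, e⟩ => ⟨c⁻¹ * a * c, by
        rw [tw_apply, ← e]; congr 1; group⟩⟩
    rw [this]
    exact mem_N_iff.1 hh.2
  have c4 : Nat.card (MulAut.conj h • T0 : Subgroup G) = 4 := by rw [card_conj, p.card]
  have all : ∀ e ∈ E, ∃ k ∈ C[φ.range], ψ e * k ∈ MulAut.conj h • T0 := fun e he => by
    obtain ⟨k, hk, m⟩ := p.all e he
    refine ⟨h * k * h⁻¹, C_conj hh.2 hk, ?_⟩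
    have : ψ e * (h * k * h⁻¹) = h * (φ (c * e * c⁻¹) * k) * h⁻¹ := by rw [hψ]; group
    rw [this]
    exact conj_mem_conj.2 m
  have dec := surj hb i1 r1 c4 r.card all
  refine ⟨ψ, i1, r1, c4, fun x hx => ?_, fun x hx l hl => ?_, all, dec⟩
  · obtain ⟨e, he, k, hk, ex⟩ := dec x hx
    have e1 : x * x = k * k := by
      have := mem_C.1 hk (ψ e) (r1 ▸ ⟨e, rfl⟩)
      calc x * x = ψ e * (k * ψ e) * k := by rw [ex]; group
        _ = ψ (e * e) * (k * k) := by rw [← this, map_mul]; group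
        _ = _ := by rw [el e he, map_one, one_mul]
    have m := mul_mem hx hx
    obtain ⟨n, hn⟩ := hT.isPGroup ⟨_, m⟩
    exact eq_one_of_odd_two ((red_data hA hg).1.of_dvd_nat
      (H10.orderOf_dvd_card_of_mem ⟨(hT.le m).1, e1 ▸ mul_mem hk hk⟩)) (congrArg Subtype.val hn)
  · have := p.cen _ (mem_conj.1 hx) l hl
    rw [hψ]
    calc x * (h * φ (c * l * c⁻¹) * h⁻¹) = h * (h⁻¹ * x * h * φ (c * l * c⁻¹)) * h⁻¹ := by group
      _ = _ := by rw [this]; group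

namespace PS
variable {ψ : Γ →* G} {A T : Subgroup G} {Λ E : Subgroup Γ} (p : PS ψ A Λ E T)
include p

theorem mA (a : Γ) : ψ a ∈ A := p.rng ▸ ⟨a, rfl⟩

theorem kc {k : G} (hk : k ∈ C[A]) (a : Γ) : ψ a * k = k * ψ a := mem_C.1 hk _ (p.mA a)

theorem two : IsPGroup 2 T := fun x => ⟨1, Subtype.ext (by simpa [pow_two] using p.sq x x.2)⟩

theorem ab {x y : G} (hx : x ∈ T) (hy : y ∈ T) : x * y = y * x := comm_of_sq p.sq hx hy

theorem eT (el : El E) {e : Γ} (he : e ∈ E) {x : G} (hx : x ∈ T) : ψ e * x = x * ψ e := by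
  obtain ⟨e', he', k, hk, rfl⟩ := p.dec x hx
  rw [← mul_assoc, ← map_mul, comm_of_sq el he he', map_mul, mul_assoc, p.kc hk, mul_assoc]

theorem kT (el : El E) {e : Γ} (he : e ∈ E) {k : G} (hk : ψ e * k ∈ T) : k ∈ C[T] := by
  refine mem_C.2 fun x hx => ?_
  have h1 := p.eT el he hx
  have h2 := p.ab hx hk
  calc x * k = (ψ e)⁻¹ * (ψ e * x) * k := by group
    _ = (ψ e)⁻¹ * (x * (ψ e * k)) := by rw [h1]; group
    _ = k * x := by rw [h2]; group

theorem inv [Finite G] : ∃ s ∈ T, orderOf s = 2 :=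
  haveI : Fact (Nat.Prime 2) := ⟨Nat.prime_two⟩
  H10.exists_mem_orderOf_eq (p := 2) (by rw [p.card]; norm_num)

end PS

theorem four_dvd [Finite G] {A T : Subgroup G} (hA : IsStandardSubgroup A) {g : G} (hg : g ∉ N[A])
    (hT : IsSylowIn 2 T (MulAut.conj g • C[A] ⊓ N[A])) (c4 : Nat.card T = 4) :
    ∃ R : Subgroup G, R ≤ C[A] ⊓ C[T] ∧ IsPGroup 2 R ∧ Nat.card R = 4 := by
  haveI : Fact (Nat.Prime 2) := ⟨Nat.prime_two⟩
  rw [hA.2.2.2] at hg hT
  obtain ⟨S, hS, hTS⟩ := exists_isSylowIn_ge (H := C[A] ⊔ T) hT.isPGroup le_sup_right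
  obtain ⟨-, -, h3, -, ⟨e⟩⟩ := S1910.result C[A] hA.2.1 g hg T
    (by rintro rfl; simp at c4) hT.le ⟨hT.isPGroup, hT.not_dvd⟩ S hTS
    hS.le ⟨hS.isPGroup, hS.not_dvd⟩
  refine ⟨S ⊓ N[T] ⊓ C[A], le_inf inf_le_right ?_, hS.isPGroup.to_le (inf_le_left.trans inf_le_left),
    (Nat.card_congr e.toEquiv).trans c4⟩
  rw [commutator_comm] at h3
  exact commutator_eq_bot_iff_le_centralizer.1 h3

/-- the second four-group -/
theorem second [Finite G] {φ : Γ →* G} {A T : Subgroup G} (hb : Base Γ)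
    (hA : IsStandardSubgroup A) {z b : Γ} {Λ E : Subgroup Γ} (r : RD z b Λ E) (el : El E)
    {g : G} (hg : g ∉ N[A]) (hT : IsSylowIn 2 T (MulAut.conj g • C[A] ⊓ N[A]))
    (p : PS φ A Λ E T) :
    ∃ (ψ : Γ →* G) (T' : Subgroup G), PS ψ (MulAut.conj g • A) Λ E T' ∧
      IsSylowIn 2 T' (C[A] ⊓ C[T]) ∧ ∀ e ∈ E, ∀ k ∈ C[A], φ e * k ∈ T → k ∈ T' := by
  haveI : Fact (Nat.Prime 2) := ⟨Nat.prime_two⟩
  let K0 : Subgroup G :=
    { carrier := {k | k ∈ C[A] ∧ ∃ e ∈ E, φ e * k ∈ T}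
      one_mem' := ⟨one_mem _, 1, one_mem _, by simp⟩
      mul_mem' := by
        rintro k k' ⟨hk, e, he, m⟩ ⟨hk', e', he', m'⟩
        refine ⟨mul_mem hk hk', e * e', mul_mem he he', ?_⟩
        have : φ (e * e') * (k * k') = φ e * k * (φ e' * k') := by
          rw [map_mul, mul_assoc, ← mul_assoc (φ e'), p.kc hk]; group
        rw [this]
        exact mul_mem m m'
      inv_mem' := by
        rintro k ⟨hk, e, he, m⟩
        refine ⟨inv_mem hk, e⁻¹, inv_mem he, ?_⟩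
        rw [p.kc (inv_mem hk), map_inv, ← mul_inv_rev]
        exact inv_mem m }
  have k2 : IsPGroup 2 K0 := fun x => by
    obtain ⟨hk, e, he, m⟩ := x.2
    refine ⟨1, Subtype.ext ?_⟩
    have h1 := p.sq _ m
    have h2 : φ e * x * (φ e * x) = φ (e * e) * (x * x) := by
      rw [map_mul, mul_assoc, ← mul_assoc (x : G), ← p.kc hk]; group
    rw [h2, el e he, map_one, one_mul] at h1
    simpa [pow_two] using h1
  obtain ⟨T', hT', le0⟩ := exists_isSylowIn_ge (H := C[A] ⊓ C[T]) k2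
    (fun k ⟨hk, e, he, m⟩ => ⟨hk, p.kT el he m⟩)
  obtain ⟨R, Rle, R2, Rc⟩ := four_dvd hA hg hT p.card
  obtain ⟨s, sT, so⟩ := p.inv
  have le1 : C[A] ⊓ C[T] ≤ C[A] ⊓ N[(MulAut.conj g • A : Subgroup G)] := fun k hk =>
    ⟨hk.1, (red_data hA hg).2.2.1 s (hT.le sT).1 so
      (mem_centralizer_singleton_iff.2 (mem_C.1 hk.2 s sT).symm)⟩
  have e1 : MulAut.conj g⁻¹ • C[(MulAut.conj g • A : Subgroup G)] = C[A] := by
    rw [centralizer_conj_smul, conj_inv_smul_conj_smul]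
  have hg' : g⁻¹ ∉ N[(MulAut.conj g • A : Subgroup G)] := fun m => by
    rw [N_conj_iff] at m
    exact hg (by simpa using inv_mem m)
  have h4 : 4 ∣ Nat.card (C[A] ⊓ N[(MulAut.conj g • A : Subgroup G)] : Subgroup G) :=
    Rc ▸ card_dvd_of_le (Rle.trans le1)
  obtain ⟨T1, hT1, le2⟩ := exists_isSylowIn_ge hT'.isPGroup (hT'.le.trans le1)
  obtain ⟨ψ, q⟩ := anyS (φ := (MulAut.conj g).toMonoidHom.comp φ) (A := MulAut.conj g • A) hb
    ((MulAut.conj g).injective.comp p.inj) (by rw [range_conj, p.rng]) (H10.Std.std_conj hA g) r el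
    hg' (by rwa [e1]) (T := T1) (by rwa [e1])
  have e2 : T' = T1 := eq_of_le_of_card_ge le2 (by
    rw [q.card, ← Rc]; exact hT'.card_le R2 Rle)
  subst e2
  exact ⟨ψ, T', q, hT', fun e he k hk m => le0 ⟨hk, e, he, m⟩⟩

/-- the component of the second four-group is that of the first -/
theorem into [Finite G] {φ ψ : Γ →* G} {A B T T' : Subgroup G} (hb : Base Γ)
    (hA : IsStandardSubgroup A) {z b : Γ} {Λ E : Subgroup Γ} (r : RC z b Λ E)
    (der : ⁅C[E], C[E]⁆ ≤ Λ) (p : PS φ A Λ E T) (q : PS ψ B Λ E T') (TB : T ≤ C[B])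
    (hT' : IsSylowIn 2 T' (C[A] ⊓ C[T])) (kT : ∀ e ∈ E, ∀ k ∈ C[A], φ e * k ∈ T → k ∈ T') :
    ∀ l ∈ Λ, ∃ m ∈ Λ, ψ l = φ m := by
  haveI : Fact (Nat.Prime 2) := ⟨Nat.prime_two⟩
  have TK : ∀ x ∈ T', ∀ a, φ a * x = x * φ a := fun x hx a => p.kc (hT'.le hx).1 a
  have cE : ∀ l ∈ Λ, ∀ e ∈ E, φ e * ψ l = ψ l * φ e := fun l hl e he => by
    obtain ⟨k, hk, m⟩ := p.all e he
    have h1 := q.kc (TB m) l
    have h2 := q.cen k (kT e he k hk m) l hl
    calc φ e * ψ l = φ e * (ψ l * k) * k⁻¹ := by group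
      _ = φ e * k * ψ l * k⁻¹ := by rw [← h2]; group
      _ = _ := by rw [← h1]; group
  obtain ⟨s, sT, so⟩ := q.inv
  have LN : Λ.map ψ ≤ N[A] := by
    rintro _ ⟨l, hl, rfl⟩
    exact H10.Std.cent_le_norm hA so (hT'.le sT).1
      (mem_centralizer_singleton_iff.2 (q.cen s sT l hl).symm)
  have pf : ⁅Λ.map ψ, Λ.map ψ⁆ = Λ.map ψ := by rw [← map_commutator, r.perf]
  let I : Subgroup G :=
    { carrier := {x | ∃ a, ∃ k ∈ C[A], x = φ a * k}
      one_mem' := ⟨1, 1, one_mem _, by simp⟩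
      mul_mem' := by
        rintro _ _ ⟨a, o, ho, rfl⟩ ⟨b, o', ho', rfl⟩
        refine ⟨a * b, o * o', mul_mem ho ho', ?_⟩
        rw [map_mul, mul_assoc, ← mul_assoc o, ← p.kc ho b]
        group
      inv_mem' := by
        rintro _ ⟨a, o, ho, rfl⟩
        exact ⟨a⁻¹, o⁻¹, inv_mem ho, by rw [mul_inv_rev, ← map_inv, p.kc (inv_mem ho)]⟩ }
  have LI : Λ.map ψ ≤ I := by
    rw [← pf]
    refine commutator_le.2 fun x hx y hy => ?_
    obtain ⟨α, hα⟩ := exists_aut p.inj (p.rng ▸ LN hx)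
    obtain ⟨β, hβ⟩ := exists_aut p.inj (p.rng ▸ LN hy)
    obtain ⟨c, hc⟩ := hb.comm α β
    refine ⟨c, (φ c)⁻¹ * ⁅x, y⁆, p.rng ▸ cent_of_conj fun a => ?_, by group⟩
    have h1 : ∀ {w : G} {γ : MulAut Γ}, (∀ a, φ (γ a) = w * φ a * w⁻¹) →
        ∀ a, φ (γ⁻¹ a) = w⁻¹ * φ a * w := fun {w γ} h a => by
      have := h (γ⁻¹ a)
      rw [MulAut.apply_inv_self] at this
      rw [this]; group
    rw [← MulAut.conj_apply c a, ← hc]
    simp only [MulAut.mul_apply, hα, hβ, h1 hα, h1 hβ, commutatorElement_def]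
    group
  let S : Subgroup G :=
    { carrier := {x | ∃ a ∈ C[E], ∃ t ∈ T', x = φ a * t}
      one_mem' := ⟨1, one_mem _, 1, one_mem _, by simp⟩
      mul_mem' := by
        rintro _ _ ⟨a, ha, o, ho, rfl⟩ ⟨b, hb, o', ho', rfl⟩
        refine ⟨a * b, mul_mem ha hb, o * o', mul_mem ho ho', ?_⟩
        rw [map_mul, mul_assoc, ← mul_assoc o, ← TK o ho b]
        group
      inv_mem' := by
        rintro _ ⟨a, ha, o, ho, rfl⟩
        exact ⟨a⁻¹, inv_mem ha, o⁻¹, inv_mem ho, by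
          rw [mul_inv_rev, ← map_inv, TK _ (inv_mem ho)]⟩ }
  have LS : Λ ≤ S.comap ψ := by
    refine r.gen.trans ((closure_le _).2 ?_)
    rintro l ⟨hl, ll⟩
    obtain ⟨a, k, hk, e⟩ := LI ⟨l, hl, rfl⟩
    have ek : k = (φ a)⁻¹ * ψ l := by rw [e]; group
    have e1 : φ (a * a) * (k * k) = 1 := by
      rw [← map_one ψ, ← ll, map_mul ψ, e, map_mul, mul_assoc, mul_assoc, ← mul_assoc k,
        ← p.kc hk a]
      group
    have e2 : a * a = 1 := one_of hb p.inj p.rng (by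
      rw [eq_inv_of_mul_eq_one_left e1]; exact inv_mem (mul_mem hk hk))
    have kk : k * k = 1 := by simpa [e2] using e1
    have kC : k ∈ C[T'] := mem_C.2 fun x hx => by
      rw [ek, ← map_inv, ← mul_assoc, ← TK x hx, mul_assoc, q.cen x hx l hl, mul_assoc]
    have kT' : k ∈ C[T] := mem_C.2 fun x hx => by
      obtain ⟨e', he', k', hk', rfl⟩ := p.dec x hx
      rw [mul_assoc, mem_C.1 kC k' (kT e' he' k' hk' hx), ← mul_assoc, p.kc hk, mul_assoc]
    have km : k ∈ T' := hT'.le_of_le_normalizer'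
      (H10.isPGroup_zpowers_of_pow (x := k) (k := 1) (by rw [pow_one, pow_two, kk]))
      (zpowers_le.2 ⟨hk, kT'⟩) (zpowers_le.2 (C_le_N kC)) (mem_zpowers k)
    refine ⟨a, mem_C.2 fun e' he' => p.inj ?_, k, km, e⟩
    have h1 := cE l hl e' he'
    rw [e, mul_assoc, ← p.kc hk, ← mul_assoc, ← mul_assoc] at h1
    rw [map_mul, map_mul]
    exact mul_right_cancel h1
  have fin : ⁅Λ, Λ⁆ ≤ (Λ.map φ).comap ψ := by
    refine commutator_le.2 fun x hx y hy => ?_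
    obtain ⟨a, ha, t, ht, ex⟩ := LS hx
    obtain ⟨a', ha', t', ht', ey⟩ := LS hy
    refine ⟨⁅a, a'⁆, der (commutator_mem_commutator ha ha'), ?_⟩
    rw [map_commutatorElement, map_commutatorElement, ex, ey]
    have c1 : Commute t (φ a) := (TK t ht a).symm
    have c2 : Commute t (φ a') := (TK t ht a').symm
    have c3 : Commute t' (φ a) := (TK t' ht' a).symm
    have c4 : Commute t' (φ a') := (TK t' ht' a').symm
    have c5 : Commute t t' := q.ab ht ht'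
    have c6 := (c2.mul_right c5).eq
    have c7 := (c3.inv_right.symm).eq
    simp only [commutatorElement_def]
    calc φ a * φ a' * (φ a)⁻¹ * (φ a')⁻¹ = φ a * φ a' * ((φ a)⁻¹ * t') * t'⁻¹ * (φ a')⁻¹ := by group
      _ = φ a * (φ a' * t' * t) * t⁻¹ * (φ a)⁻¹ * t'⁻¹ * (φ a')⁻¹ := by rw [c7]; group
      _ = _ := by rw [← c6]; group
  intro l hl
  obtain ⟨m, hm, e⟩ := fin (r.perf.ge hl)
  exact ⟨m, hm, e.symm⟩

theorem redJ : RedJStmt.{u} := by
  intro Γ _ G _ _ φ0 hb hi hA z b u Λ E r g hg h4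
  haveI : Fact (Nat.Prime 2) := ⟨Nat.prime_two⟩
  obtain ⟨T, hT⟩ := exists_isSylowIn 2 (MulAut.conj g • C[φ0.range] ⊓ N[φ0.range])
  obtain ⟨φ, p⟩ := anyS hb hi rfl hA r.rd r.el hg h4 hT
  clear h4
  generalize φ0.range = A at hA hg hT p
  obtain ⟨ψ, T', q, hT', kT⟩ := second hb hA r.rd r.el hg hT p
  have TB : T ≤ C[(MulAut.conj g • A : Subgroup G)] := fun x hx => by
    rw [centralizer_conj_smul]; exact (hT.le hx).1
  have into := into hb hA r.rd.rc r.der p q TB hT' kT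
  have cj : ∀ e ∈ E, ∀ k ∈ C[(MulAut.conj g • A : Subgroup G)], ∃ m ∈ Λ,
      φ m = ψ (u * e * u⁻¹ * e⁻¹) ∧ ψ u * (ψ e * k) * (ψ u)⁻¹ = φ m * (ψ e * k) := by
    intro e he k hk
    obtain ⟨m, hm, em⟩ := into _ (r.uE e he)
    refine ⟨m, hm, em.symm, ?_⟩
    rw [← em, mul_assoc, mul_assoc, ← map_inv, ← q.kc hk]
    simp only [map_mul, map_inv]
    group
  obtain ⟨e, he, ne⟩ := r.mv
  obtain ⟨k', hk', kT'⟩ := q.all e he
  obtain ⟨m, hm, em, ek⟩ := cj e he k' hk'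
  set k := ψ e * k' with hk
  have kK : k ∈ C[A] := (hT'.le kT').1
  have m1 : m ≠ 1 := fun e1 => ne (by
    rw [e1, map_one, eq_comm, ← map_one ψ] at em
    have := q.inj em
    calc u * e = u * e * u⁻¹ * e⁻¹ * (e * u) := by group
      _ = e * u := by rw [this, one_mul])
  have hu : ψ u ∉ N[A] := fun hn => m1 (one_of hb p.inj p.rng (by
    have := mul_mem (C_conj hn kK) (inv_mem kK)
    rwa [ek, mul_inv_cancel_right] at this))
  have sT : φ m * k ∈ MulAut.conj (ψ u) • T' := ek ▸ conj_mem_conj.2 kT'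
  have le : MulAut.conj (ψ u) • T' ≤ MulAut.conj (ψ u) • C[A] ⊓ N[A] := fun x hx => by
    refine ⟨mem_conj.2 (hT'.le (mem_conj.1 hx)).1, ?_⟩
    have hy := mem_conj.1 hx
    obtain ⟨e', he', k'', hk'', ey⟩ := q.dec _ hy
    obtain ⟨m', -, -, ek'⟩ := cj e' he' k'' hk''
    have : x = φ m' * ((ψ u)⁻¹ * x * ψ u) := by rw [ey, ← ek', ← ey]; group
    rw [this]
    exact mul_mem (le_normalizer (p.mA m')) (C_le_N (hT'.le hy).1)
  have sq : ∀ x ∈ MulAut.conj (ψ u) • T', x * x = 1 := fun x hx => sq_of_conj (q.sq _ (mem_conj.1 hx))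
  have s1 : φ m * k ≠ 1 := fun e1 => m1 (one_of hb p.inj p.rng (by
    rw [eq_inv_of_mul_eq_one_left e1]; exact inv_mem kK))
  have h := cfg hb p.inj p.rng hA hu (le sT) (ord_of_sq (sq _ sT) s1)
  obtain ⟨d, rfl⟩ := isConj_iff.1 (r.inv m hm (h.sq kK (sq _ sT)).1 m1)
  exact (h.tw d).root r.rd.zz r.rz (isPGroup_conj_smul q.two (ψ u)) le
    (by rw [card_conj, q.card]) kK (le sT).1 (sq _ sT) s1 fun x hx => comm_of_sq sq hx sT

end Cfsg.Agent.H29.S94RedJ
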