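import Mathlib
import Cfsg.Agent.H29.Sz8
import Cfsg.Agent.H76.OSpec
import Cfsg.Agent.S0245
import Cfsg.Agent.S0246
import Cfsg.Agent.S2469
import Cfsg.Agent.S2472

/-! The prime graph of `PSp₆(3)`. -/

set_option autoImplicit false

namespace Cfsg.Agent.H29

open H57

/-- The prime graph with vertices 2, 3, 5, 7, 13 and edges 2-3, 2-5, 2-7, 3-5. -/
structure Gr63 (K : Type*) [Group K] : Prop where
  prime : ∀ p, p.Prime → (p ∈ spec K ↔ p ∣ 2 * 3 * 5 * 7 * 13)
  yes : ∀ n ∈ [6, 10, 14, 15], n ∈ spec K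
  no : ∀ n ∈ [21, 26, 35, 39, 65, 91], n ∉ spec K

theorem cases_of_dvd {p : ℕ} (hp : p.Prime) (h : p ∣ 2 * 3 * 5 * 7 * 13) : p ∈ [2, 3, 5, 7, 13] := by
  rw [hp.dvd_mul, hp.dvd_mul, hp.dvd_mul, hp.dvd_mul,
    Nat.prime_dvd_prime_iff_eq hp (by norm_num), Nat.prime_dvd_prime_iff_eq hp (by norm_num),
    Nat.prime_dvd_prime_iff_eq hp (by norm_num), Nat.prime_dvd_prime_iff_eq hp (by norm_num),
    Nat.prime_dvd_prime_iff_eq hp (by norm_num)] at h
  simpa [or_assoc] using h

theorem Gr63.mul_mem {G H : Type*} [Group G] [Group H] [Finite G] (hG : Gr63 G) (hH : Gr63 H)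
    {p q : ℕ} (hp : p.Prime) (hq : q.Prime) (hpq : p ≠ q) (h : p * q ∈ spec G) : p * q ∈ spec H := by
  have h1 := cases_of_dvd hp ((hG.prime p hp).1 (mem_spec_of_dvd h (dvd_mul_right _ _)))
  have h2 := cases_of_dvd hq ((hG.prime q hq).1 (mem_spec_of_dvd h (dvd_mul_left _ _)))
  have h3 : ∀ p ∈ [2, 3, 5, 7, 13], ∀ q ∈ [2, 3, 5, 7, 13], p ≠ q →
      p * q ∈ [6, 10, 14, 15] ∨ p * q ∈ [21, 26, 35, 39, 65, 91] := by decide
  exact (h3 p h1 q h2 hpq).elim (hH.yes _) fun h4 => absurd h (hG.no _ h4)

theorem Gr63.same {G H : Type*} [Group G] [Group H] [Finite G] [Finite H] (hG : Gr63 G)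
    (hH : Gr63 H) : SamePrimeGraph G H :=
  samePrimeGraph_of_mem_spec (fun p hp => (hG.prime p hp).trans (hH.prime p hp).symm)
    fun _ _ hp hq hpq => ⟨hG.mul_mem hH hp hq hpq, hH.mul_mem hG hp hq hpq⟩

theorem prime_dvd_iff_of {p a b : ℕ} (hp : p.Prime) (k : ℕ) (h1 : a ∣ b ^ k) (h2 : b ∣ a) :
    p ∣ a ↔ p ∣ b :=
  ⟨fun h => hp.dvd_of_dvd_pow (h.trans h1), fun h => h.trans h2⟩

theorem gr63_aff : Gr63 (Aff G8 V8) where
  prime p hp := (prime_mem_spec_aff8 hp).trans (prime_dvd_iff_of hp 6 (by decide) (by decide))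
  yes n hn := by
    simp only [List.mem_cons, List.not_mem_nil, or_false] at hn
    rcases hn with rfl | rfl | rfl | rfl
    · exact spec_mono _ Aff.inr_injective six_mem
    · exact ten_mem
    · exact fourteen_mem
    · exact spec_mono _ Aff.inr_injective fifteen_mem
  no n hn := by
    simp only [List.mem_cons, List.not_mem_nil, or_false] at hn
    rcases hn with rfl | rfl | rfl | rfl | rfl | rfl
    · exact not_mem_of_three (r := 7) (by decide) (by decide) (by decide)
    · exact not_mem_26
    · exact not_mem_of_coprime (by decide) (by decide) (by decide)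
    · exact not_mem_of_three (r := 13) (by decide) (by decide) (by decide)
    · exact not_mem_of_coprime (by decide) (by decide) (by decide)
    · exact not_mem_of_coprime (by decide) (by decide) (by decide)

variable {F : Type*} [Field F] [Fintype F]

theorem card_psp63 (hF : Fintype.card F = 3) : Nat.card (PSp 3 F) = 4585351680 := by
  have h2 := S0245.result hF 3
  have h3 := S0246.result hF 3 (by norm_num)
  have h4 := Subgroup.card_eq_card_quotient_mul_card_subgroup
    (Subgroup.center (Matrix.symplecticGroup (Fin 3) F))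
  rw [h2, h3] at h4
  simp only [Finset.prod_range_succ, Finset.prod_range_zero] at h4
  exact Nat.eq_of_mul_eq_mul_right two_pos h4.symm

theorem orderOf_three_five : orderOf ((3 : ℕ) : ZMod 5) = 4 :=
  (orderOf_eq_iff (by decide)).2 (by decide)

theorem orderOf_three_seven : orderOf ((3 : ℕ) : ZMod 7) = 6 :=
  (orderOf_eq_iff (by decide)).2 (by decide)

theorem orderOf_three_thirteen : orderOf ((3 : ℕ) : ZMod 13) = 3 :=
  (orderOf_eq_iff (by decide)).2 (by decide)

open H76 in
theorem gr63_psp (hF : Fintype.card F = 3) : Gr63 (PSp 3 F) := by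
  have h3 : Fact (Nat.Prime 3) := ⟨Nat.prime_three⟩
  have : CharP F 3 := charP_of_card_eq_prime hF
  let L := AlgebraicClosure F
  have : CharP L 3 := charP_of_injective_algebraMap (algebraMap F _).injective 3
  have hc := card_psp63 hF
  have hM := models_psp F L 3 3
  have hpr : ∀ p, p.Prime → (p ∈ spec (PSp 3 F) ↔ p ∣ 2 * 3 * 5 * 7 * 13) := fun p hp =>
    (prime_dvd_card_iff hp).symm.trans (hc ▸ prime_dvd_iff_of hp 9 (by decide) (by decide))
  have hq : (Fintype.card F : ℤ) = 3 := by exact_mod_cast hF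
  have hdbl : ∀ r, r.Prime → r ∣ 15 → 2 * r ∈ spec (PSp 3 F) := fun r hr h => by
    obtain ⟨g, hg⟩ := (hpr r hr).2 (h.trans (by decide))
    have h1 : r = 3 ∨ r = 5 := by
      rwa [show 15 = 3 * 5 from rfl, hr.dvd_mul, Nat.prime_dvd_prime_iff_eq hr (by norm_num),
        Nat.prime_dvd_prime_iff_eq hr (by norm_num)] at h
    rcases hM.sp_trichotomy (by decide) (by rw [hq]; decide) (by decide) g
      (by rw [hg]; rcases h1 with rfl | rfl <;> decide) with ⟨g', h2⟩ | h2 | h2 | ⟨-, j, h2⟩
    · exact mem_spec_of_dvd ⟨g', rfl⟩ (hg ▸ h2)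
    · rw [hg, hq] at h2
      rcases h1 with rfl | rfl <;> exact absurd h2 (by decide)
    · rw [hg, hq] at h2
      rcases h1 with rfl | rfl <;> exact absurd h2 (by decide)
    · rcases j with _ | j
      · exact absurd h2 (by decide)
      · rw [pow_succ] at h2
        omega
  have h5 : orderOf ((Fintype.card F : ℕ) : ZMod 5) = 4 := by rw [hF, orderOf_three_five]
  have h7 : orderOf ((Fintype.card F : ℕ) : ZMod 7) = 6 := by rw [hF, orderOf_three_seven]
  have h13 : orderOf ((Fintype.card F : ℕ) : ZMod 13) = 3 := by rw [hF, orderOf_three_thirteen]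
  refine ⟨hpr, fun n hn => ?_, fun n hn => ?_⟩ <;>
    simp only [List.mem_cons, List.not_mem_nil, or_false] at hn
  · rcases hn with rfl | rfl | rfl | rfl
    · exact hdbl 3 (by norm_num) (by decide)
    · exact hdbl 5 (by norm_num) (by decide)
    · obtain ⟨g, hg⟩ := hM.exists_sp_torus (by rw [hq]; decide) (by decide) (Or.inr rfl)
      rw [hq] at hg
      exact mem_spec_of_dvd ⟨g, rfl⟩ (Nat.dvd_of_mul_dvd_mul_left two_pos hg)
    · exact not_not.1 (mt (S2472.result (F := F) 3 3 (by decide) (by omega) 5 (by norm_num)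
        (by decide) (by decide) (by rw [hc]; decide) 4 2 h5.symm (by decide)).1 (by decide))
  · rcases hn with rfl | rfl | rfl | rfl | rfl | rfl
    · exact (S2472.result (F := F) 3 3 (by decide) (by omega) 7 (by norm_num)
        (by decide) (by decide) (by rw [hc]; decide) 6 3 h7.symm (by decide)).2 (by decide)
    · rintro ⟨g, hg⟩
      obtain ⟨s, h1, h2⟩ := hM.out g
      obtain ⟨x, hx, h4⟩ := h1.adm.exists_dvd_orderOf h3.out (r := 13) (by norm_num) (by decide)
        fun k hk => Dvd.dvd.trans (by decide) (hg ▸ (h2 k).2 hk.pk)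
      obtain ⟨a, t, w, m, rfl, k1, k2, -, k3, k4⟩ : ∃ a t w m, s = a + t ∧ x ∈ a ∧
          Atom Even (Fintype.card F : ℤ) a w ∧ True ∧ FAdm Even (Fintype.card F : ℤ) m t ∧
          2 * 3 = w + m := by
        obtain ⟨a, t, w, m, k0, k1, k2, k3, k4⟩ := h1.exists_atom hx
        exact ⟨a, t, w, m, k0, k1, k2, trivial, k3, k4⟩
      obtain ⟨D, e, H, ε, k5, k6, k7, rfl, k8, -, k9, -⟩ :=
        k2.spec_of_ne (Ring.two_ne_zero (by rw [ringChar.eq F 3]; decide)) k1
          (sq_ne_one_of_dvd (by norm_num) (by decide) h4)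
      have k11 := h4.trans (orderOf_dvd_of_pow_eq_one (k9 x k1).2.2.1)
      have hη : IsEta (orderOf ((Fintype.card F : ℤ) : ZMod 13)) 3 := by
        rw [Int.cast_natCast, h13]
        exact Or.inl (by decide)
      have k12 : 3 ∣ D := hη.dvd_of rfl k7 (k8 ▸ by exact_mod_cast k11)
      have k13 := Nat.le_of_dvd k5 k12
      have k14 := Nat.le_mul_of_pos_right D k6
      obtain rfl : D = 3 := by omega
      obtain rfl : e = 1 := by omega
      obtain rfl := (k3.adm.cast (show m = 0 by omega)).eq_zero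
      rw [add_zero] at h2
      have k15 := (h2 H).2 ⟨fun y hy z hz => (k9 y hy).2.2.2.trans (k9 z hz).2.2.2.symm,
        fun y hy => by simp [(k9 y hy).1]⟩
      rw [hq] at k8
      rw [hg] at k15
      omega
    · exact (S2469.result (F := F) 3 3 (by decide) (by omega) 5 7 (by norm_num) (by norm_num)
        (by decide) (by decide) (by decide) (by decide) (by decide) (by rw [hc]; decide)
        (by rw [hc]; decide) 4 6 2 3 h5.symm h7.symm (by decide) (by decide) (by decide)).2
        ⟨by decide, fun ⟨t, _, h⟩ => by omega⟩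
    · exact (S2472.result (F := F) 3 3 (by decide) (by omega) 13 (by norm_num)
        (by decide) (by decide) (by rw [hc]; decide) 3 3 h13.symm (by decide)).2 (by decide)
    · exact (S2469.result (F := F) 3 3 (by decide) (by omega) 5 13 (by norm_num) (by norm_num)
        (by decide) (by decide) (by decide) (by decide) (by decide) (by rw [hc]; decide)
        (by rw [hc]; decide) 4 3 2 3 h5.symm h13.symm (by decide) (by decide) (by decide)).2
        ⟨by decide, fun ⟨t, _, h⟩ => by omega⟩
    · exact (S2469.result (F := F) 3 3 (by decide) (by omega) 7 13 (by norm_num) (by norm_num)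
        (by decide) (by decide) (by decide) (by decide) (by decide) (by rw [hc]; decide)
        (by rw [hc]; decide) 6 3 3 3 h7.symm h13.symm (by decide) (by decide) (by decide)).2
        ⟨by decide, fun ⟨t, _, h⟩ => by omega⟩

end Cfsg.Agent.H29
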