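import Cfsg.Agent.H56.SpDefs

/-! Project CY, chapter SP, piece BB: the two tori of a commuting pair commute. -/

set_option autoImplicit false

namespace Cfsg.Agent.H29.SpBb

open Subgroup MulAction Cfsg.Agent.H11.Cy Cfsg.Agent.H56.Sp

theorem bb : BbStmt := by
  intro G _ _ Ω _ _ p A h hy x y x' y' z u pr
  obtain ⟨ne, ne', hz, hu, zu, cm⟩ := pr
  have l1 := hy.lf x y ne
  have l2 := hy.lf x' y' ne'
  have g1 := hy.pg x y ne
  have g2 := hy.pg x' y' ne'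
  obtain ⟨hi1, fp1⟩ := hy.cz.hi x y ne z hz u ⟨x', y', ne', hu⟩ zu cm
  obtain ⟨hi2, fp2⟩ := hy.cz.hi x' y' ne' u hu z ⟨x, y, ne, hz⟩ zu.symm cm.symm
  have n1 : Tl A x' y' z ≤ Nl A x y := fun t ht => hy.cz.cz x y ne z hz ▸ ht.2
  have n2 : Tl A x y u ≤ Nl A x' y' := fun t ht => hy.cz.cz x' y' ne' u hu ▸ ht.2
  have zK := l1.cen z hz
  have uK := l2.cen u hu
  have c1 : ∀ t ∈ Tl A x y u, ∀ t' ∈ Tl A x' y' z, t * t' = t' * t := by
    intro t ht t' ht'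
    have e1 : t' * u * t'⁻¹ * u⁻¹ ∈ Kl A x y := by
      rw [mem_centralizer_iff.1 uK t' ht'.1]
      simp only [mul_inv_cancel_right, mul_inv_cancel, one_mem]
    have e2 : t * z * t⁻¹ * z⁻¹ ∈ Kl A x' y' := by
      rw [mem_centralizer_iff.1 zK t ht.1]
      simp only [mul_inv_cancel_right, mul_inv_cancel, one_mem]
    rcases g1.dic u hi1 fp1 t' (n1 ht') e1 with c | ⟨i1, k1⟩
    · exact mem_centralizer_iff.1 c.2 t ht
    rcases g2.dic z hi2 fp2 t (n2 ht) e2 with c | ⟨i2, -⟩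
    · exact (mem_centralizer_iff.1 c.2 t' ht').symm
    have a1 := i1 t⁻¹ (inv_mem ht)
    have a2 := i2 t' ht'
    have e : t * t = (t' * t')⁻¹ := by
      calc t * t = t * (t' * t⁻¹ * t'⁻¹) := by rw [a1, inv_inv]
        _ = (t * t' * t⁻¹) * t'⁻¹ := by group
        _ = _ := by rw [a2]; group
    have f1 : t * t ∈ Fl A x y := mul_mem ht.1 ht.1
    have f2 : t * t ∈ Fl A x' y' := e ▸ inv_mem (mul_mem ht'.1 ht'.1)
    have s1 := l1.fk _ f1 (e ▸ inv_mem k1)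
    have t1 : t * t = 1 := by
      by_contra hn
      exact zu ((l2.uq _ _ hu ⟨f2, hn, s1⟩).trans (l1.uq _ _ ⟨f1, hn, s1⟩ hz))
    rw [inv_eq_of_mul_eq_one_right t1, inv_eq_of_mul_eq_one_right t1, mul_inv_eq_iff_eq_mul] at a1
    exact a1.symm
  refine ⟨c1, n1, ?_⟩
  obtain ⟨cy, cd⟩ := g2.tor z hi2 fp2
  obtain ⟨-, cd1⟩ := g1.tor u hi1 fp1
  obtain ⟨t1, ht1⟩ := IsCyclic.exists_generator (α := Tl A x' y' z)
  have o1 : orderOf (t1 : G) = p + 1 := by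
    rw [orderOf_coe, orderOf_eq_card_of_forall_mem_zpowers ht1, cd]
  have hodd : p % 2 = 1 := h.pp.eq_two_or_odd.resolve_left hy.mc.p2
  obtain ⟨m, hm⟩ : ∃ m, p + 1 = m + m := ⟨(p + 1) / 2, by omega⟩
  have eu : (t1 : G) ^ m = u := by
    refine l2.uq _ _ ⟨pow_mem t1.2.1 m, fun e => ?_, ?_⟩ hu
    · have := Nat.le_of_dvd (by omega) (orderOf_dvd_of_pow_eq_one e)
      omega
    · rw [← pow_add, ← hm, ← o1, pow_orderOf_eq_one]
  refine ⟨t1, t1.2, ?_⟩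
  rintro ⟨f, hf, k, hk, e⟩
  have fT : f ∈ Tl A x y u := by
    refine (g1.cyc u hi1 fp1).1 f hf ⟨le_normalizer hf, mem_centralizer_iff.2 fun t ht => ?_⟩
    have b1 := c1 t ht t1 t1.2
    have b2 : t * k = k * t := mem_centralizer_iff.1 hk t ht.1
    rw [e] at b1
    apply mul_right_cancel (b := k)
    rw [mul_assoc, b1, mul_assoc, mul_assoc, b2]
  have fp : f ^ (p + 1) = 1 := by
    have := pow_card_eq_one' (x := (⟨f, fT⟩ : Tl A x y u))
    rw [cd1] at this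
    exact congrArg Subtype.val this
  have fK : f ^ m ∈ Kl A x y := by
    by_cases e1 : f ^ m = 1
    · rw [e1]; exact one_mem _
    · exact l1.cen _ ⟨pow_mem hf m, e1, by rw [← pow_add, ← hm, fp]⟩
  have cfk : Commute f k := mem_centralizer_iff.1 hk f hf
  apply hi1.2.2
  rw [← eu, e, cfk.mul_pow]
  exact mul_mem fK (pow_mem hk m)

end Cfsg.Agent.H29.SpBb
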