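import Cfsg.Agent.H68.SpDefs2
import Cfsg.Agent.H29.SpKit
import Cfsg.Agent.H8.SpLG
import Cfsg.Agent.H27.AltSimple
import Cfsg.Agent.H27.AltCard

/-!
# Centralizers of involutions in the normalizer of `Sp₂ₖ(2ⁿ)` are large
-/

set_option autoImplicit false
set_option linter.style.haveILetI false

namespace Cfsg.Agent.H29.SpWLow

open Cfsg Cfsg.Agent.H63 Cfsg.Agent.H63.SL Cfsg.Agent.H26 Cfsg.Agent.H68.Sp Cfsg.Agent.H29.SpK
open Cfsg.Agent.H78 hiding tv
open Subgroup Module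
open Cfsg.Agent.H63.WR (cc)
open Cfsg.Agent.H34.UM (Low)
open Cfsg.Agent.H27 (isomGroup spOrder)
open Cfsg.Agent.H27.End (mem_C comm_of_C mem_C1)
open Cfsg.Agent.H8.SpLG (Fd)
open scoped commutatorElement

universe u v

/-! ### Arithmetic -/

theorem sp_sq {q : ℕ} (hq : ¬ 3 ∣ q) (k : ℕ) :
    ∃ r, ¬ 3 ∣ r ∧ spOrder (q ^ 2) k = spOrder q k * r := by
  have q0 : 0 < q := Nat.pos_of_ne_zero fun e => hq (e ▸ dvd_zero 3)
  refine ⟨q ^ k ^ 2 * ∏ i ∈ Finset.range k, (q ^ (2 * (i + 1)) + 1), fun H => ?_, ?_⟩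
  · rcases (Nat.Prime.dvd_mul Nat.prime_three).1 H with H | H
    · exact hq (Nat.prime_three.dvd_of_dvd_pow H)
    · obtain ⟨i, -, H⟩ := (Nat.prime_three.prime.dvd_finsetProd_iff _).1 H
      have h1 : q ^ 2 % 3 = 1 := by
        rw [Nat.pow_mod]
        rcases (by omega : q % 3 = 1 ∨ q % 3 = 2) with e | e <;> rw [e]
      have h2 : q ^ (2 * (i + 1)) % 3 = 1 := by rw [pow_mul, Nat.pow_mod, h1, one_pow]; rfl
      omega
  · rw [spOrder, spOrder, mul_mul_mul_comm, ← Finset.prod_mul_distrib, ← pow_mul, ← pow_add,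
      two_mul]
    congr 1
    refine Finset.prod_congr rfl fun i _ => ?_
    rw [← pow_mul, mul_comm 2 (2 * _), pow_mul, mul_comm (_ - 1), ← Nat.sq_sub_sq, one_pow]

theorem three_dvd {q k : ℕ} (hq : ¬ 3 ∣ q) (hk : 0 < k) : 3 ∣ spOrder q k := by
  refine Dvd.dvd.mul_left (Dvd.dvd.trans ?_ (Finset.dvd_prod_of_mem _ (Finset.mem_range.2 hk))) _
  have h1 : q ^ 2 % 3 = 1 := by
    rw [Nat.pow_mod]
    rcases (by omega : q % 3 = 1 ∨ q % 3 = 2) with e | e <;> rw [e]
  change 3 ∣ q ^ 2 - 1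
  omega

theorem lt_pow {n a b c : ℕ} (h : n + 1 + a ≤ b + c) : 2 * n * 2 ^ a < 2 ^ (b + c) := by
  refine lt_of_lt_of_le ?_ (Nat.pow_le_pow_right two_pos h)
  rw [pow_add, pow_succ, mul_comm 2 n]
  exact Nat.mul_lt_mul_of_pos_right (Nat.mul_lt_mul_of_pos_right n.lt_two_pow_self two_pos)
    (by positivity)

theorem lt_pow' {m a b c : ℕ} (h : m + 2 + a ≤ b + c) : 2 * (2 * m) * 2 ^ a < 2 ^ (b + c) := by
  refine lt_of_lt_of_le ?_ (Nat.pow_le_pow_right two_pos h)
  rw [pow_add, pow_add]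
  have := m.lt_two_pow_self
  exact Nat.mul_lt_mul_of_pos_right (by omega) (by positivity)

/-! ### The groups -/

variable {F V : Type v} [Field F] [AddCommGroup V] [Module F V] {G : Type u} [Group G]
  {P : PForm F V} {φ : P.E →* G} {L : Subgroup G} {k : ℕ}

theorem le_cc [Finite G] {e : G} {R : Subgroup G} (hR : R ≤ L ⊓ C1[e]) {a : ℕ}
    (ha : 2 ^ a ∣ Nat.card R) : a ≤ cc L e :=
  (Nat.prime_two.pow_dvd_iff_le_factorization Nat.card_pos.ne').1 (ha.trans (card_dvd_of_le hR))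

/-- The fixed field. -/
def fixF (ψ : F ≃+* F) : Subfield F where
  carrier := {c | ψ c = c}
  mul_mem' {a b} ha hb := by rw [Set.mem_ofPred_eq, map_mul, ha, hb]
  one_mem' := map_one ψ
  add_mem' {a b} ha hb := by rw [Set.mem_ofPred_eq, map_add, ha, hb]
  zero_mem' := map_zero ψ
  neg_mem' {a} ha := by rw [Set.mem_ofPred_eq, map_neg, ha]
  inv_mem' a ha := by rw [Set.mem_ofPred_eq, map_inv₀, ha]

variable [Finite F] [FiniteDimensional F V]

theorem card_L (h : SG P φ L k) (g1 : G1 P k) : Nat.card L = spOrder (Nat.card F) k := by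
  haveI := Fintype.ofFinite F
  let b : LinearMap.BilinForm F V := LinearMap.mk₂ F P.f P.f_add_left P.f_smul_left
    P.f_add_right fun c x y => fr h c x y
  have e : P.E = isomGroup b :=
    le_antisymm (fun g hg => ef ⟨g, hg⟩) fun g hg => g1.full (mem_isom h hg)
  rw [← h.rng, ← Nat.card_congr (MonoidHom.ofInjective h.inj).toEquiv, e,
    Nat.card_eq_fintype_card (α := F)]
  exact H27.card_isomGroup (B := b)
    ⟨fun x hx => PForm.eq_zero_of_f_left hx, fun x hx => P.nondeg x hx⟩ (fs h) h.dim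

omit [Finite F] [FiniteDimensional F V] in
theorem center_eq (h : SG P φ L k) (nf : NF P φ L) {z : G} (h1 : z ∈ L) (h2 : z ∈ C[L]) :
    z = 1 := by
  obtain ⟨e, rfl⟩ := exists_φ h h1
  refine (φ_eq_one h).2 fun x => ?_
  by_cases hx : x = 0
  · rw [hx, map_zero]
  · exact nf.ct e x 1 hx one_ne_zero (comm_of_C h2 (ET_mem h _ _ _))

omit [Finite F] [FiniteDimensional F V] in
theorem inner [Finite G] (h : LL P φ L k) {n : ℕ} (hn : Nat.card F = 2 ^ n) {e : G}
    (h2 : e * e = 1) (h3 : e ∈ L ⊔ C[L]) : n * (k * (k + 1) / 2) ≤ cc L e := by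
  have s := h.toSM.toSG
  have h4 : L ≤ N[C[L]] := fun a ha => centralizer_le_normalizer _ fun z hz => (comm_of_C hz ha).eq
  obtain ⟨l, hl, z, hz, rfl⟩ := (coe_mul_of_left_le_normalizer_right _ C[L] h4).subset h3
  change l * z * (l * z) = 1 at h2
  rw [(comm_of_C hz hl).mul_mul_mul_comm] at h2
  have h5 : l * l = 1 := center_eq s h.nf (mul_mem hl hl)
    (eq_inv_of_mul_eq_one_left h2 ▸ inv_mem (mul_mem hz hz))
  obtain ⟨Fr, -, h6⟩ := h.g3.inv l hl h5
  have sq := (h.g2.el (Set.range fun i => Fr.e (i, false)) (by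
    rintro _ ⟨i, rfl⟩ _ ⟨j, rfl⟩
    exact Fr.orth _ _ (by simp [ng]))).1
  have le : AW P φ Fr ≤ L := (closure_le _).2 (by
    rintro _ ⟨v, -, c, rfl⟩
    exact ET_mem s _ _ _)
  refine le_cc (R := AW P φ Fr) (fun a ha => ⟨le ha, mem_C1.2 (Commute.mul_right ?_
    (comm_of_C hz (le ha)).symm)⟩) (by rw [h.g4.cardA, hn, ← pow_mul])
  have k1 := inv_eq_of_mul_eq_one_left (sq _ (mul_mem ha h6))
  rw [mul_inv_rev, inv_eq_of_mul_eq_one_left h5, inv_eq_of_mul_eq_one_left (sq a ha)] at k1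
  exact k1.symm

theorem outer [Finite G] (h : LL P φ L k) {e : G} (he : e ∈ N[L]) (h2 : e * e = 1)
    (h3 : e ∉ L ⊔ C[L]) : ∃ (q : ℕ) (Y : Subgroup G), Nat.card F = q ^ 2 ∧ Y ≤ L ⊓ C1[e] ∧
      ⁅Y, Y⁆ = Y ∧ Nat.card Y = spOrder q k := by
  classical
  have s := h.toSM.toSG
  obtain ⟨T, ψ, hI⟩ := h.aut e he
  have d := H8.SpLG.exists_fd h.toSM h.nf he (h2 ▸ one_mem _) hI (H8.SpLG.psi_ne h.nf he h3 hI)
  obtain ⟨Fr, hN, hF⟩ := d.exists_frame0 h.dim h.g1
  let b : Basis (BI k) F V := Basis.mk (h.g1.li Fr) fun x _ => by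
    have h3 := Fr.sub_sum_mem x
    rw [h.g1.v0, Submodule.mem_bot, sub_eq_zero] at h3
    rw [h3]
    exact Submodule.sum_mem _ fun a _ => Submodule.smul_mem _ _ (Submodule.subset_span ⟨a, rfl⟩)
  have hb : ∀ a, b a = Fr.e a := Basis.mk_apply _ _
  let ε : (BI k → fixF ψ) →+ V :=
    { toFun := fun w => ∑ a, (w a : F) • b a
      map_zero' := by simp
      map_add' := fun w w' => by simp [add_smul, Finset.sum_add_distrib] }
  have hε : ∀ w, ε w = ∑ a, (w a : F) • b a := fun _ => rfl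
  have sm : ∀ (c : fixF ψ) w, ε (c • w) = (c : F) • ε w := fun c w => by
    simp [hε, Finset.smul_sum, mul_smul]
  have inj : Function.Injective ε := fun w w' H => funext fun a => Subtype.ext (by
    have := congrArg (fun x => b.repr x a) H
    simpa only [hε, b.repr_sum_self] using this)
  have sg : ∀ a, ε (Pi.single a 1) = b a := fun a => by
    rw [hε, Finset.sum_eq_single a (fun c _ hc => by simp [hc]) (by simp)]
    simp
  have fε : ∀ w, T (ε w) = ε w := fun w => by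
    rw [hε, map_sum]
    exact Finset.sum_congr rfl fun a _ => by rw [d.smul, (w a).2, hb, hF]
  let b0 : LinearMap.BilinForm (fixF ψ) (BI k → fixF ψ) := LinearMap.mk₂ (fixF ψ)
    (fun x y => ⟨P.f (ε x) (ε y), d.fix_f (fε x) (fε y)⟩)
    (fun x y z => Subtype.ext (by simp [P.f_add_left]))
    (fun a x y => Subtype.ext (by simp [sm, P.f_smul_left]))
    (fun x y z => Subtype.ext (by simp [P.f_add_right]))
    (fun a x y => Subtype.ext (by simp [sm, fr s]))
  have h0 : ∀ x y, (b0 x y : F) = P.f (ε x) (ε y) := fun _ _ => rfl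
  have alt : b0.IsAlt := fun x => Subtype.ext (fs s _)
  have nd : ∀ x, (∀ y, b0 x y = 0) → x = 0 := fun x hx => inj (by
    rw [map_zero]
    exact H8.SpLG.eq_zero_frame (h.g1.v0 Fr) fun a => by rw [← hb, ← sg, ← h0, hx]; rfl)
  have nd' : b0.Nondegenerate := ⟨nd, fun x hx => nd x fun y => alt.isRefl _ _ (hx y)⟩
  have ex : ∀ s s' : P.E, (∀ w, s.1 (ε w) = s'.1 (ε w)) → s = s' := fun s s' H =>
    Subtype.ext (b.ext' fun j => by rw [← sg, H])
  have up : ∀ g : isomGroup b0, ∃ s : P.E, ∀ w, s.1 (ε w) = ε (g.1 w) := fun g => by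
    let x : V →ₗ[F] V := b.constr F fun j => ε (g.1 (Pi.single j 1))
    have hx : ∀ j, x (b j) = ε (g.1 (Pi.single j 1)) := fun j => b.constr_basis F _ j
    have iso : ∀ v w, P.f (x v) (x w) = P.f v w := fun v w => by
      have k1 : ∀ j l, P.f (x (b j)) (x (b l)) = P.f (b j) (b l) := fun j l => by
        rw [hx, hx, ← h0, g.2, h0, sg, sg]
      have k2 : ∀ j w, P.f (x w) (x (b j)) = P.f w (b j) := fun j =>
        LinearMap.congr_fun (b.ext fun l => k1 l j : (P.fL (x (b j))).comp x = P.fL (b j))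
      exact LinearMap.congr_fun (b.ext fun l => ((fc s _ _).trans (k2 l w)).trans (fc s _ _) :
        (P.fL (x w)).comp x = P.fL w) v
    have hi : Function.Injective x := (injective_iff_map_eq_zero x).2 fun v hv =>
      P.nondeg v fun y => by rw [← iso, hv, P.f_zero_right]
    refine ⟨⟨LinearEquiv.ofInjectiveEndo x hi, h.g1.full (mem_isom s iso)⟩, fun w => ?_⟩
    change x (ε w) = _
    conv_lhs => rw [← Finset.univ_sum_single w]
    conv_rhs => rw [← Finset.univ_sum_single w]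
    simp only [map_sum]
    refine Finset.sum_congr rfl fun j _ => ?_
    rw [show (Pi.single j (w j) : BI k → fixF ψ) = w j • Pi.single j 1 by
      rw [← Pi.single_smul, smul_eq_mul, mul_one], sm, map_smul, map_smul, sm, sg, hx]
  choose U hU using up
  let U' : isomGroup b0 →* P.E := MonoidHom.mk' U fun g g' => ex _ _ fun w => by
    rw [emul, hU, hU, hU]; rfl
  have iU : Function.Injective U' := fun g g' H => Subtype.ext (LinearEquiv.ext fun w => inj (by
    rw [← hU, ← hU]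
    exact congrArg (fun s : P.E => s.1 (ε w)) H))
  haveI := Fintype.ofFinite (fixF ψ)
  have hk := h.k3
  refine ⟨Nat.card (fixF ψ), (φ.comp U').range, d.card_eq, ?_, ?_, ?_⟩
  · rintro _ ⟨g, rfl⟩
    refine ⟨φ_mem s _, (H8.SpLG.comm_iff s hI _).2 fun x => ?_⟩
    change (U g).1 (T x) = T ((U g).1 x)
    rw [← b.sum_repr x]
    simp only [map_sum, map_smul, d.smul, ← sg, fε, hU]
  · have o : ∀ i j : Fin k, b0 (Pi.single (i, false) 1) (Pi.single (j, false) 1) = 0 :=
      fun i j => Subtype.ext (by rw [h0, sg, sg, hb, hb]; exact Fr.orth _ _ (by simp [ng]))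
    have li := (Pi.basisFun (fixF ψ) (BI k)).linearIndependent.comp
      ![((⟨0, by omega⟩ : Fin k), false), (⟨1, by omega⟩, false), (⟨2, by omega⟩, false)]
      (by intro i j; fin_cases i <;> fin_cases j <;> simp)
    have pf := H27.commutator_isomGroup_of_three nd' alt (u := Pi.single (⟨0, by omega⟩, false) 1)
      (v := Pi.single (⟨1, by omega⟩, false) 1) (w := Pi.single (⟨2, by omega⟩, false) 1)
      (by convert li using 1 <;> first | rfl | (ext1 i; fin_cases i <;> simp)) (o _ _) (o _ _) (o _ _)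
    rw [MonoidHom.range_eq_map, ← map_commutator, ← _root_.commutator_def, pf]
  · rw [← Nat.card_congr (MonoidHom.ofInjective (f := φ.comp U') (h.inj.comp iU)).toEquiv,
      Nat.card_eq_fintype_card (α := fixF ψ)]
    exact H27.card_isomGroup nd' alt (by simp [mul_comm])

theorem outer' [Finite G] (h : LL P φ L k) {n : ℕ} (hn : Nat.card F = 2 ^ n) {e : G}
    (he : e ∈ N[L]) (h2 : e * e = 1) (h3 : e ∉ L ⊔ C[L]) : ∃ (m : ℕ) (Y : Subgroup G),
      n = 2 * m ∧ m * (k * k) ≤ cc L e ∧ Y ≤ L ⊓ C1[e] ∧ ⁅Y, Y⁆ = Y ∧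
      (Nat.card Y).factorization 3 = (Nat.card L).factorization 3 ∧
      0 < (Nat.card L).factorization 3 := by
  obtain ⟨q, Y, h4, h5, h6, h7⟩ := outer h he h2 h3
  obtain ⟨m, -, rfl⟩ := (Nat.dvd_prime_pow Nat.prime_two).1
    ((dvd_pow_self q two_ne_zero).trans (h4.symm.trans hn).dvd)
  have h8 : ¬ 3 ∣ 2 ^ m := fun H => absurd (Nat.prime_three.dvd_of_dvd_pow H) (by decide)
  obtain ⟨r, r1, r2⟩ := sp_sq h8 k
  have h9 : (Nat.card Y).factorization 3 = (Nat.card L).factorization 3 := by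
    rw [card_L h.toSM.toSG h.g1, h4, r2, ← h7, Nat.factorization_mul Nat.card_pos.ne'
      (fun e => r1 (by rw [e]; exact dvd_zero 3)), Finsupp.add_apply, Nat.factorization_eq_zero_of_not_dvd r1,
      add_zero]
  refine ⟨m, Y, ?_, le_cc h5 ?_, h5, h6, h9, ?_⟩
  · rw [hn, ← pow_mul, mul_comm] at h4
    exact Nat.pow_right_injective le_rfl h4
  · rw [h7, spOrder, pow_mul, sq]
    exact dvd_mul_right _ _
  · rw [← h9]
    exact Nat.prime_three.factorization_pos_of_dvd Nat.card_pos.ne'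
      (h7 ▸ three_dvd h8 (by have := h.k3; omega))

/-- **WLOW** -/
theorem wlow : WLowStmt.{u, v} := by
  intro F V _ _ _ _ _ G _ _ P φ L k s h n hn e he e' he' h2 h2'
  have hk := h.k3
  have n0 : 0 < n := Nat.pos_of_ne_zero fun e => by
    have : 1 < Nat.card F := Finite.one_lt_card
    rw [hn, e] at this
    omega
  obtain ⟨T, hT⟩ : ∃ T, k * (k + 1) = 2 * T := (Nat.even_mul_succ_self k).two_dvd
  have hT' : k * (k + 1) / 2 = T := by omega
  rw [← pow_mul]
  by_cases h3 : e ∈ L ⊔ C[L] <;> by_cases h3' : e' ∈ L ⊔ C[L]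
  · have k1 := inner h hn h2 h3
    have k2 := inner h hn h2' h3'
    rw [hT'] at k1 k2
    exact .inl (lt_pow (by nlinarith [Nat.mul_le_mul_left n hk]))
  · have k1 := inner h hn h2 h3
    obtain ⟨m, -, rfl, k2, -⟩ := outer' h hn he' h2' h3'
    rw [hT', show 2 * m * T = m * (k * k) + m * k by
      rw [mul_comm 2 m, mul_assoc, ← hT]; ring] at k1
    have := Nat.mul_le_mul_left m hk
    rw [mul_assoc 2 m (k * k)]
    exact .inl (lt_pow' (by omega))
  · have k1 := inner h hn h2' h3'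
    obtain ⟨m, -, rfl, k2, -⟩ := outer' h hn he h2 h3
    rw [hT', show 2 * m * T = m * (k * k) + m * k by
      rw [mul_comm 2 m, mul_assoc, ← hT]; ring] at k1
    have := Nat.mul_le_mul_left m hk
    rw [mul_assoc 2 m (k * k)]
    exact .inl (lt_pow' (by omega))
  · obtain ⟨-, Y, -, -, k1, k2, k3, k4⟩ := outer' h hn he h2 h3
    obtain ⟨-, Y', -, -, k5, k6, k7, -⟩ := outer' h hn he' h2' h3'
    refine .inr ⟨Y, Y', 3, Nat.prime_three, k1, k5, k2, k6, ?_, by omega⟩
    rw [show Z[L] = ⊥ from eq_bot_iff.2 fun z hz => center_eq s h.nf hz.1 hz.2, card_bot]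
    decide

end Cfsg.Agent.H29.SpWLow
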